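import Cfsg.Agent.SimpleFacts.MinDegG2.Ops
import Cfsg.Agent.Lib.G2Orders.Iso

/-!
The class of a toral element of order three in the group of type G2.
-/

set_option autoImplicit false
set_option linter.unusedSectionVars false

namespace Cfsg.Agent.SimpleFacts.MinDegG2

open Cfsg.Lie Cfsg.Agent.G2Orders Matrix Cfsg.Agent.Classical.NormalCover.GTwo

variable {F : Type*} [Field F] [Fintype F]

open _root_.Classical in
theorem stabE0_index_dvd (hq : 3 ≤ Fintype.card F) :
    (stabE0 F).index ∣ Fintype.card F ^ 6 + Fintype.card F ^ 3 := by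
  obtain ⟨e, -⟩ := nonempty_iso F hq
  have h1 : (stabE0 F).index ≤ Fintype.card F ^ 6 + Fintype.card F ^ 3 := by
    refine le_trans ?_ card_trace_one_norm_zero_le
    rw [Subgroup.index]
    refine Nat.card_le_card_of_injective (Quotient.lift (fun g => (⟨act g (E0 F), by
        rw [(tr_nrm_act g _).1,
          (tr_nrm_act g _).2]
        simp [tr, nrm, E0]⟩ :
      {x : Fin 8 → F // tr x = 1 ∧
        nrm x = 0})) fun g h e => Subtype.ext ?_) ?_
    · have e' : g⁻¹ * h ∈ stabE0 F := QuotientGroup.leftRel_apply.1 e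
      show act g (E0 F) = act h (E0 F)
      conv_lhs => rw [← show act (g⁻¹ * h) (E0 F) = E0 F from e']
      rw [act_mul,
        act_act_inv]
    · intro a b
      refine Quotient.inductionOn₂ a b fun g h e => Quotient.sound (QuotientGroup.leftRel_apply.2 ?_)
      show act (g⁻¹ * h) (E0 F) = E0 F
      rw [act_mul,
        show act h (E0 F) = act g (E0 F) from (congrArg Subtype.val e).symm,
        act_inv_act]
  have h2 : Nat.card (stabE0 F) ≤ Nat.card (Matrix.SpecialLinearGroup (Fin 3) F) :=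
    Nat.card_le_card_of_injective (fun g => ⟨blockA g.1, det_blockA g.2⟩) fun g h e =>
      Subtype.ext (stab_injective g.2 h.2 (congrArg Subtype.val e))
  have hG := Cfsg.Agent.Chevalley.Types.OrderG2.card_group F
  rw [Finset.prod_eq_one fun i _ => by fin_cases i <;> simp [Cfsg.Agent.Chevalley.Types.OrderG2.ed],
    one_mul] at hG
  simp only [List.map_cons, List.map_nil, List.prod_cons, List.prod_nil, mul_one] at hG
  have hSL := natCard_SL3 F
  have hpos : 0 < Nat.card (Matrix.SpecialLinearGroup (Fin 3) F) := Nat.card_pos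
  have key : Nat.card (Cfsg.Lie.G2 F) =
      (Fintype.card F ^ 6 + Fintype.card F ^ 3) * Nat.card (Matrix.SpecialLinearGroup (Fin 3) F) := by
    refine le_antisymm (card_G2_le (F := F)) ?_
    rw [← Nat.card_congr e.toEquiv, hG]
    obtain ⟨k, hk⟩ : ∃ k, Fintype.card F = k + 2 := ⟨Fintype.card F - 2, by omega⟩
    rw [hk] at hSL ⊢
    have e1 : (k + 2) ^ 3 - 1 = (k + 1) * ((k + 2) ^ 2 + (k + 2) + 1) :=
      Nat.sub_eq_of_eq_add (by ring)
    have e2 : (k + 2) ^ 3 - (k + 2) = (k + 2) * (k + 1) * (k + 3) := Nat.sub_eq_of_eq_add (by ring)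
    have e3 : (k + 2) ^ 3 - (k + 2) ^ 2 = (k + 2) ^ 2 * (k + 1) := Nat.sub_eq_of_eq_add (by ring)
    have e4 : (k + 2) ^ 2 - 1 = (k + 1) * (k + 3) := Nat.sub_eq_of_eq_add (by ring)
    have e5 : (k + 2) ^ 6 - 1 = ((k + 2) ^ 3 + 1) * ((k + 1) * ((k + 2) ^ 2 + (k + 2) + 1)) :=
      Nat.sub_eq_of_eq_add (by ring)
    rw [e1, e2, e3, show k + 2 - 1 = k + 1 from rfl] at hSL
    have hc : Nat.card (Matrix.SpecialLinearGroup (Fin 3) F) =
        ((k + 2) ^ 2 + (k + 2) + 1) * ((k + 2) ^ 3 * ((k + 1) ^ 2 * (k + 3))) :=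
      Nat.eq_of_mul_eq_mul_left (show 0 < k + 1 by omega) (hSL.trans (by ring))
    rw [hc, e4, e5]
    exact le_of_eq (by ring)
  have h3 := (stabE0 F).index_mul_card.trans key
  rcases eq_or_lt_of_le h1 with h | h
  · rw [h]
  · exact absurd (h3 ▸ Nat.mul_lt_mul_of_lt_of_le h h2 hpos) (lt_irrefl _)

theorem hExp_seven : ∀ k : Fin 8, k = 0 ∨ k = 7 → hExp 7 k = 0 := by decide +kernel

theorem te0_eq (u : F) : te 0 u = xe 7 u * xe 4 (-u⁻¹) * xe 7 u *
    (xe 7 (-1) * xe 4 (-(-1 : F)⁻¹) * xe 7 (-1)) :=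
  Subtype.ext rfl

/-- The class of an element of order three of the first coroot. -/
theorem index_centralizer_dvd (hq : 3 ≤ Fintype.card F) {ω : F} (hω : ω ^ 3 = 1) :
    (Subgroup.centralizer ({te 0 ω} : Set (chevG2.group F))).index ∣
      Fintype.card F ^ 6 + Fintype.card F ^ 3 := by
  obtain ⟨e, he⟩ := nonempty_iso F hq
  have hω0 : ω ≠ 0 := fun h => by simp [h] at hω
  have hx : ∀ (r : Fin 12) (t : F), e (xe r t) = xr r.val t := fun r t => he r.val r.2 t _ rfl
  have hz : toM (e (te 0 ω)) = Matrix.diagonal fun k => ω ^ hExp 7 k := by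
    rw [← toM_hr' (by norm_num) hω0, te0_eq]
    simp only [map_mul, hx, hr', ChevalleyDatum.hWord, ChevalleyDatum.nWord, List.cons_append,
      List.nil_append, List.map_cons, List.map_nil, List.prod_cons, List.prod_nil, mul_one, mul_assoc]
    rfl
  have hv : ∀ k : Fin 8, ω ^ hExp 7 k = (![1, ω⁻¹, ω⁻¹, ω⁻¹, ω, ω, ω, 1] : Fin 8 → F) k := by
    have he' : ∀ k : Fin 8, hExp 7 k = (![0, 2, -1, -1, -2, 1, 1, 0] : Fin 8 → ℤ) k := by decide +kernel
    intro k
    rw [he' k]
    have h2 : ω * ω = ω⁻¹ := eq_inv_of_mul_eq_one_left (by rw [← hω]; ring)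
    fin_cases k <;> simp [zpow_ofNat, sq, h2]
  refine dvd_trans ?_ (stabE0_index_dvd hq)
  have hle : (stabE0 F).comap (e : chevG2.group F →* Cfsg.Lie.G2 F) ≤
      Subgroup.centralizer ({te 0 ω} : Set (chevG2.group F)) := by
    intro g hg
    rw [Subgroup.mem_centralizer_iff]
    rintro _ rfl
    apply e.injective
    rw [map_mul, map_mul]
    refine eq_of_act_eq fun x => ?_
    have hg' : act (e g) (E0 F) = E0 F := hg
    have hdiag : ∀ y, act (e (te 0 ω)) y =
        fun k => ω ^ hExp 7 k * y k := fun y => funext fun k => by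
      show (toM (e (te 0 ω)) *ᵥ y) k = _
      rw [hz, Matrix.mulVec_diagonal]
    rw [act_mul, act_mul,
      hdiag, hdiag, act_eq_slMap hg', act_eq_slMap hg']
    simp only [hv]
    funext k
    fin_cases k <;>
      simp [slMap, Matrix.mulVec, dotProduct, Fin.sum_univ_three] <;>
      ring
  refine (Subgroup.index_dvd_of_le hle).trans ?_
  rw [Subgroup.index_comap_of_surjective _ e.surjective]

end Cfsg.Agent.SimpleFacts.MinDegG2
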