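import Cfsg.Agent.SimpleFacts.MinDegG2.Rep

/-!
The trace of an operator of order three on an invariant piece.
-/

set_option autoImplicit false
set_option linter.unusedSectionVars false

namespace Cfsg.Agent.SimpleFacts.MinDegG2

open scoped ComplexConjugate

variable {V : Type*} [AddCommGroup V] [Module ℂ V] [FiniteDimensional ℂ V]

/-- The projection on the eigenspace of the inverse of `z`. -/
noncomputable def eig3 (g : Module.End ℂ V) (z : ℂ) : Module.End ℂ V :=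
  (3 : ℂ)⁻¹ • (1 + z • g + z ^ 2 • (g * g))

theorem mul_eig3 {g : Module.End ℂ V} (hg : g * g * g = 1) {z : ℂ} (hz : z ^ 3 = 1) :
    g * eig3 g z = z ^ 2 • eig3 g z := by
  rw [eig3, mul_smul_comm, smul_comm (z ^ 2)]
  congr 1
  rw [mul_add, mul_add, mul_one, mul_smul_comm, mul_smul_comm, ← mul_assoc, hg, smul_add, smul_add,
    smul_smul, smul_smul, show z ^ 2 * z = 1 by rw [← pow_succ, hz],
    show z ^ 2 * z ^ 2 = z by rw [← pow_add]; linear_combination z * hz, one_smul]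
  abel

theorem eig3_idem {g : Module.End ℂ V} (hg : g * g * g = 1) {z : ℂ} (hz : z ^ 3 = 1) :
    eig3 g z * eig3 g z = eig3 g z := by
  have h := mul_eig3 hg hz
  conv_lhs => arg 1; rw [eig3]
  rw [smul_mul_assoc, add_mul, add_mul, one_mul, smul_mul_assoc, smul_mul_assoc, mul_assoc g g, h,
    mul_smul_comm, h, smul_smul, smul_smul, smul_smul, show z * z ^ 2 = 1 by rw [← pow_succ', hz],
    show z ^ 2 * z ^ 2 * z ^ 2 = 1 by linear_combination (z ^ 3 + 1) * hz, one_smul,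
    smul_add, smul_add]
  rw [← add_smul, ← add_smul]
  norm_num

/-- The trace of an operator of order three on an invariant piece. -/
theorem trace_cube {g P : Module.End ℂ V} (hg : g * g * g = 1) (hc : Commute g P) (hP : P * P = P)
    {ζ : ℂ} (hζ : IsPrimitiveRoot ζ 3) :
    ∃ n0 n1 n2 : ℕ, n0 + n1 + n2 = rk P ∧
      LinearMap.trace ℂ V (g * P) = n0 + n1 * ζ + n2 * ζ ^ 2 := by
  have h3 := hζ.pow_eq_one
  have hs : 1 + ζ + ζ ^ 2 = 0 := by
    have := hζ.geom_sum_eq_zero (by norm_num)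
    simpa [Finset.sum_range_succ] using this
  have piece : ∀ z : ℂ, z ^ 3 = 1 →
      LinearMap.trace ℂ V (g * (eig3 g z * P)) = z ^ 2 * (rk (eig3 g z * P) : ℂ) ∧
        eig3 g z * P * (eig3 g z * P) = eig3 g z * P := fun z hz => by
    have hcE : Commute (eig3 g z) P :=
      Commute.smul_left (((Commute.one_left _).add_left (hc.smul_left z)).add_left
        ((hc.mul_left hc).smul_left (z ^ 2))) _
    have hI := idem_comm_mul (eig3_idem hg hz) hP hcE
    refine ⟨?_, hI⟩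
    rw [← mul_assoc, mul_eig3 hg hz, smul_mul_assoc, map_smul, rk_eq_trace hI, smul_eq_mul]
  have hζ2 : (ζ ^ 2) ^ 3 = 1 := by rw [← pow_mul, pow_mul', h3, one_pow]
  have hsum : eig3 g 1 + eig3 g ζ + eig3 g (ζ ^ 2) = 1 := by
    simp only [eig3, one_pow, one_smul, ← smul_add]
    rw [show (1 : Module.End ℂ V) + g + g * g + (1 + ζ • g + ζ ^ 2 • (g * g)) +
      (1 + ζ ^ 2 • g + (ζ ^ 2) ^ 2 • (g * g)) = (3 : ℂ) • (1 : Module.End ℂ V) +
        (1 + ζ + ζ ^ 2) • g + (1 + ζ ^ 2 + (ζ ^ 2) ^ 2) • (g * g) by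
      simp only [add_smul, one_smul, show (3 : ℂ) = 1 + 1 + 1 by norm_num]; abel,
      hs, show 1 + ζ ^ 2 + (ζ ^ 2) ^ 2 = 0 by linear_combination hs + ζ * h3]
    simp
  obtain ⟨t1, i1⟩ := piece 1 (one_pow 3)
  obtain ⟨tz, iz⟩ := piece ζ h3
  obtain ⟨tw, iw⟩ := piece (ζ ^ 2) hζ2
  refine ⟨rk (eig3 g 1 * P), rk (eig3 g (ζ ^ 2) * P), rk (eig3 g ζ * P), ?_, ?_⟩
  · have : (rk (eig3 g 1 * P) : ℂ) + rk (eig3 g (ζ ^ 2) * P) + rk (eig3 g ζ * P) = (rk P : ℂ) := by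
      rw [← rk_eq_trace i1, ← rk_eq_trace iw, ← rk_eq_trace iz, ← map_add, ← map_add, ← add_mul,
        ← add_mul, add_right_comm, hsum, one_mul, rk_eq_trace hP]
    exact_mod_cast this
  · conv_lhs => arg 2; arg 2; rw [← one_mul P, ← hsum, add_mul, add_mul]
    rw [mul_add, mul_add, map_add, map_add, t1, tz, tw]
    linear_combination (rk (eig3 g (ζ ^ 2) * P) : ℂ) * ζ * h3

theorem norm_comb {ζ : ℂ} (hζ : IsPrimitiveRoot ζ 3) (n0 n1 n2 : ℕ) :
    ‖(n0 : ℂ) + n1 * ζ + n2 * ζ ^ 2‖ ≤ (n0 : ℝ) + n1 + n2 := by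
  have h1 : ‖ζ‖ = 1 := Complex.norm_eq_one_of_pow_eq_one hζ.pow_eq_one (by norm_num)
  refine (norm_add_le _ _).trans (add_le_add ((norm_add_le _ _).trans (add_le_add ?_ ?_)) ?_) <;>
    simp [h1]

/-- The trace is at most the rank. -/
theorem norm_trace_cube {g P : Module.End ℂ V} (hg : g * g * g = 1) (hc : Commute g P)
    (hP : P * P = P) : ‖LinearMap.trace ℂ V (g * P)‖ ≤ (rk P : ℝ) := by
  obtain ⟨n0, n1, n2, hn, e⟩ := trace_cube hg hc hP (Complex.isPrimitiveRoot_exp 3 (by norm_num))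
  rw [e, ← hn]
  push_cast
  exact norm_comb (Complex.isPrimitiveRoot_exp 3 (by norm_num)) n0 n1 n2

/-- On a line the trace has absolute value one. -/
theorem norm_trace_cube_line {g P : Module.End ℂ V} (hg : g * g * g = 1) (hc : Commute g P)
    (hP : P * P = P) (h1 : rk P = 1) : ‖LinearMap.trace ℂ V (g * P)‖ = 1 := by
  have hζ := Complex.isPrimitiveRoot_exp 3 (by norm_num)
  obtain ⟨n0, n1, n2, hn, e⟩ := trace_cube hg hc hP hζ
  have hn1 : ‖Complex.exp (2 * Real.pi * Complex.I / 3)‖ = 1 :=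
    Complex.norm_eq_one_of_pow_eq_one (n := 3) (by simpa using hζ.pow_eq_one) (by norm_num)
  rw [e]
  rcases (by omega : (n0 = 1 ∧ n1 = 0 ∧ n2 = 0) ∨ (n0 = 0 ∧ n1 = 1 ∧ n2 = 0) ∨
    (n0 = 0 ∧ n1 = 0 ∧ n2 = 1)) with ⟨rfl, rfl, rfl⟩ | ⟨rfl, rfl, rfl⟩ | ⟨rfl, rfl, rfl⟩ <;>
    simp [hn1]

/-- The squared absolute value of a trace of an operator of order three is an integer. -/
theorem exists_int_normSq {g : Module.End ℂ V} (hg : g * g * g = 1) :
    ∃ m : ℤ, LinearMap.trace ℂ V g * conj (LinearMap.trace ℂ V g) = (m : ℂ) := by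
  have hζ := Complex.isPrimitiveRoot_exp 3 (by norm_num)
  obtain ⟨n0, n1, n2, -, e⟩ := trace_cube hg (Commute.one_right g) (one_mul 1) hζ
  rw [mul_one] at e
  generalize Complex.exp (2 * Real.pi * Complex.I / (3 : ℕ)) = ζ at hζ e
  have hn : ‖ζ‖ = 1 := Complex.norm_eq_one_of_pow_eq_one hζ.pow_eq_one (by norm_num)
  have hs : 1 + ζ + ζ ^ 2 = 0 := by
    have := hζ.geom_sum_eq_zero (by norm_num)
    simpa [Finset.sum_range_succ] using this
  have hc : conj ζ = ζ ^ 2 := by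
    have h1 : conj ζ * ζ = 1 := by rw [Complex.conj_mul', hn]; simp
    linear_combination (ζ ^ 2) * h1 - conj ζ * hζ.pow_eq_one
  refine ⟨(n0 : ℤ) ^ 2 + n1 ^ 2 + n2 ^ 2 - (n0 * n1 + n1 * n2 + n2 * n0), ?_⟩
  rw [e, map_add, map_add, map_mul, map_mul, map_pow, hc, map_natCast, map_natCast, map_natCast]
  push_cast
  linear_combination ((n1 : ℂ) ^ 2 + n2 ^ 2 * (ζ ^ 3 + 1) + n1 * n2 * ζ ^ 2 + n0 * n2 * ζ + n1 * n2 * ζ) *
    hζ.pow_eq_one + ((n0 : ℂ) * n1 + n1 * n2 + n2 * n0) * hs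

end Cfsg.Agent.SimpleFacts.MinDegG2
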