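import Cfsg.Agent.SimpleFacts.MinDegG2.Gen
import Cfsg.Agent.SimpleFacts.MinDegG2.Cube
import Cfsg.Agent.SimpleFacts.MinDegG2.Cent
import Cfsg.Agent.Lib.Characters.Integrality

/-!
No irreducible representation of degree `q³ - 1` when the field has a cube root of unity.
-/

set_option autoImplicit false
set_option linter.unusedSectionVars false

namespace Cfsg.Agent.SimpleFacts.MinDegG2

open Cfsg.Lie Cfsg.Agent.SimpleFacts.MinDegExc
open scoped BigOperators ComplexConjugate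

variable {V : Type*} [AddCommGroup V] [Module ℂ V] [FiniteDimensional ℂ V]
variable {F : Type*} [Field F] [Fintype F] (ρ : Representation ℂ (chevG2.group F) V)
variable {ψ : AddChar F ℂ}

theorem exists_omega (hq : Fintype.card F % 3 = 1) : ∃ ω : F, ω ^ 3 = 1 ∧ ω ≠ 1 := by
  classical
  have := Fact.mk Nat.prime_three
  have hd : 3 ∣ Fintype.card Fˣ := by
    rw [Fintype.card_units]
    omega
  obtain ⟨w, hw⟩ := exists_prime_orderOf_dvd_card 3 hd
  refine ⟨w, by rw [← Units.val_pow_eq_pow_val, ← hw, pow_orderOf_eq_one, Units.val_one], fun h => ?_⟩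
  rw [Units.val_eq_one.1 h, orderOf_one] at hw
  omega

variable (hψ : ψ ≠ 1)
include hψ

open _root_.Classical in
/-- The trace of a toral element of order three. -/
theorem trace_omega (h3 : (3 : F) ≠ 0) {ω : F} (hω : ω ^ 3 = 1) (hω1 : ω ≠ 1)
    (hν : nu3 ρ ψ = 1) (hS : ∑ a : F, M3 ρ ψ a 0 0 = Fintype.card F - 1) :
    ∃ ε : ℂ, ‖ε‖ = 1 ∧
      ‖LinearMap.trace ℂ V (ρ (te 0 ω)) - ((Fintype.card F - 1 : ℕ) : ℂ) * Fintype.card F * ε‖ ≤
        2 * ((Fintype.card F - 1 : ℕ) : ℝ) := by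
  obtain ⟨z, hz⟩ : ∃ z : chevG2.group F, z = te 0 ω := ⟨_, rfl⟩
  rw [← hz]
  have hω0 : ω ≠ 0 := fun h => by simp [h] at hω
  have hz3 : ρ z * ρ z * ρ z = 1 := by
    rw [← map_mul, ← map_mul, hz, ← te_mul 0 hω0 hω0, ← te_mul 0 (mul_ne_zero hω0 hω0) hω0,
      show ω * ω * ω = 1 by rw [← hω]; ring, te_one, map_one]
  have hm : Moves (fam3 ρ) ψ (ρ z) fun y => ![ω⁻¹ * y 0, y 1, y 2] := by
    have h := mte0 ρ hψ (inv_ne_zero hω0)
    rw [inv_inv, ← hz] at h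
    simpa only [inv_pow, hω, inv_one, one_mul] using h
  have hfix : ∀ c d : F, Commute (ρ z) (P3 ρ ψ 0 c d) := fun c d =>
    hm.commute hψ (funext fun i => by fin_cases i <;> simp)
  have hmoved : ∀ {a : F}, a ≠ 0 → ∀ c d : F, LinearMap.trace ℂ V (ρ z * P3 ρ ψ a c d) = 0 := by
    intro a ha c d
    refine hm.trace_moved hψ fun e => hω1 ?_
    have e0 := congrFun e 0
    simp only [Matrix.cons_val_zero] at e0
    exact inv_eq_one.1 (mul_right_cancel₀ ha (e0.trans (one_mul a).symm))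
  obtain ⟨ε, hε⟩ : ∃ ε, ε = LinearMap.trace ℂ V (ρ z * P3 ρ ψ 0 0 1) := ⟨_, rfl⟩
  refine ⟨ε, hε ▸ norm_trace_cube_line hz3 (hfix 0 1) (P3_idem ρ hψ _ _ _)
    (by rw [← M3_eq_rk, M3_d ρ hψ h3 one_ne_zero, hν]), ?_⟩
  have hline : ∀ {d : F}, d ≠ 0 → ∀ c, LinearMap.trace ℂ V (ρ z * P3 ρ ψ 0 c d) = ε := by
    intro d hd c
    have hc6 : Commute (ρ z) (ρ (xe 6 (c / d))) := by
      refine Commute.map ?_ ρ
      rw [hz, commute_iff_eq, ← mul_inv_eq_iff_eq_mul, te_conj 0 6 hω0]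
      congr 1
      show ω ^ chevG2.cartan 0 6 * (c / d) = c / d
      rw [show chevG2.cartan 0 6 = -3 by decide +kernel, zpow_neg, zpow_ofNat, hω, inv_one, one_mul]
    have e6 := (m6 ρ hψ (c / d)).trace_shift hψ (op_inv_mul ρ _) hc6 ![0, c, d]
    have hc1 : Commute (ρ z) (ρ (te 1 d⁻¹)) := by
      rw [hz]; exact (te_comm 0 1 hω0 (inv_ne_zero hd)).map ρ
    have e1 := (mte1 ρ hψ hd).trace_shift hψ (op_inv_mul ρ _) hc1 ![0, 0, 1]
    simp only [Matrix.cons_val_zero, Matrix.cons_val_one, Matrix.cons_val_two, Matrix.tail_cons,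
      Matrix.head_cons, mul_zero, mul_one] at e6 e1
    rw [show c - c / d * d = 0 by field_simp; ring] at e6
    rw [hε, P3, ← e6, e1]; rfl
  have sp : ∀ f : F → ℂ, ∑ x : F, f x = f 0 + ∑ x ∈ (Finset.univ : Finset F).erase 0, f x :=
    fun f => (Finset.add_sum_erase _ _ (Finset.mem_univ 0)).symm
  have hE : ((Finset.univ : Finset F).erase 0).card = Fintype.card F - 1 := by
    rw [Finset.card_erase_of_mem (Finset.mem_univ _), Finset.card_univ]
  have ha : ∀ c d : F, ∑ a : F, LinearMap.trace ℂ V (ρ z * P3 ρ ψ a c d) =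
      LinearMap.trace ℂ V (ρ z * P3 ρ ψ 0 c d) := fun c d => by
    rw [sp, Finset.sum_eq_zero fun a ha => hmoved (Finset.ne_of_mem_erase ha) c d, add_zero]
  rw [(fam3 ρ).trace_eq hψ, sum3]
  change ‖∑ d : F, ∑ c : F, ∑ a : F, LinearMap.trace ℂ V (ρ z * P3 ρ ψ a c d) - _‖ ≤ _
  rw [sp, Finset.sum_congr rfl (s₁ := (Finset.univ : Finset F).erase 0)
    (g := fun _ => (Fintype.card F : ℂ) * ε) fun d hd => ?_, Finset.sum_const, hE, nsmul_eq_mul,
    Finset.sum_congr rfl fun c _ => ha c 0, sp]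
  · rw [mul_assoc, add_sub_cancel_right]
    refine (norm_add_le _ _).trans ?_
    rw [two_mul]
    refine add_le_add ?_ ?_
    · refine (norm_trace_cube hz3 (hfix 0 0) (P3_idem ρ hψ _ _ _)).trans ?_
      rw [← M3_eq_rk, ← hS]
      exact_mod_cast Finset.single_le_sum (f := fun a => M3 ρ ψ a 0 0) (fun a _ => Nat.zero_le _)
        (Finset.mem_univ (0 : F))
    · refine (norm_sum_le _ _).trans ((Finset.sum_le_sum (g := fun _ => (1 : ℝ)) fun c hc => ?_).trans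
        (le_of_eq ?_))
      · exact le_of_eq (norm_trace_cube_line hz3 (hfix c 0) (P3_idem ρ hψ _ _ _)
          (by rw [← M3_eq_rk, M3_c ρ hψ h3 (Finset.ne_of_mem_erase hc), hν]))
      · rw [Finset.sum_const, hE, nsmul_eq_mul, mul_one]
  · rw [Finset.sum_congr rfl (g := fun _ => ε) fun c _ => by
      rw [ha, hline (Finset.ne_of_mem_erase hd)], Finset.sum_const, Finset.card_univ, nsmul_eq_mul]

/-- No degree `q³ - 1`. -/
theorem excA [ρ.IsIrreducible] (h3 : (3 : F) ≠ 0) (hq : Fintype.card F % 3 = 1)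
    (h7 : 7 ≤ Fintype.card F) (hν : nu3 ρ ψ = 1)
    (hS : ∑ a : F, M3 ρ ψ a 0 0 = Fintype.card F - 1)
    (hk : Module.finrank ℂ V + 1 = Fintype.card F ^ 3) : False := by
  obtain ⟨ω, hω, hω1⟩ := exists_omega hq
  obtain ⟨q, hqd⟩ : ∃ q, q = Fintype.card F := ⟨_, rfl⟩
  obtain ⟨k, hkd⟩ : ∃ k, k = Module.finrank ℂ V := ⟨_, rfl⟩
  obtain ⟨ε, hε, hb⟩ := trace_omega ρ hψ h3 hω hω1 hν hS
  obtain ⟨a, ha⟩ : ∃ a, a = LinearMap.trace ℂ V (ρ (te 0 ω)) := ⟨_, rfl⟩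
  rw [← ha, ← hqd] at hb
  rw [← hqd, ← hkd] at hk
  have hω0 : ω ≠ 0 := fun h => by simp [h] at hω
  have hz3 : ρ (te 0 ω) * ρ (te 0 ω) * ρ (te 0 ω) = 1 := by
    rw [← map_mul, ← map_mul, ← te_mul 0 hω0 hω0, ← te_mul 0 (mul_ne_zero hω0 hω0) hω0,
      show ω * ω * ω = 1 by rw [← hω]; ring, te_one, map_one]
  have hq1 : 1 ≤ q := by omega
  have hk0 : 1 ≤ k := by
    have : 7 ^ 3 ≤ q ^ 3 := Nat.pow_le_pow_left (by omega) 3
    omega
  obtain ⟨C, hC⟩ : ∃ C, C = (Subgroup.centralizer ({te 0 ω} : Set (chevG2.group F))).index := ⟨_, rfl⟩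
  have hCdvd : C ∣ q ^ 6 + q ^ 3 := by rw [hC, hqd]; exact index_centralizer_dvd (by omega) hω
  have hg : Nat.gcd C k ∣ 2 := by
    refine (Nat.gcd_dvd_gcd_of_dvd_left k hCdvd).trans ?_
    rw [show q ^ 6 + q ^ 3 = (k + 1) * (k + 1 + 1) by rw [hk]; ring]
    refine (Nat.Coprime.gcd_mul_left_cancel _ ?_).symm ▸ ?_
    · rw [Nat.coprime_comm, Nat.coprime_self_add_right]
      exact Nat.coprime_one_right _
    · have := Nat.dvd_sub (Nat.gcd_dvd_left (k + 1 + 1) k) (Nat.gcd_dvd_right (k + 1 + 1) k)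
      rwa [show k + 1 + 1 - k = 2 by omega] at this
  have hi : IsIntegral ℤ ((C : ℂ) * a / (k : ℂ)) := by
    rw [hC, hkd, ha]; exact Characters.class_central_char_isIntegral ρ (te 0 ω)
  have hai : IsIntegral ℤ a := by rw [ha]; exact Characters.rep_value_isIntegral ρ (te 0 ω)
  have h2 : IsIntegral ℤ (2 * a / (k : ℂ)) := by
    obtain ⟨c, hc⟩ := hg
    have hbz : (Nat.gcd C k : ℤ) = (C : ℤ) * Nat.gcdA C k + (k : ℤ) * Nat.gcdB C k := Nat.gcd_eq_gcd_ab C k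
    have e : 2 * a / (k : ℂ) =
        (c : ℂ) * ((Nat.gcdA C k : ℂ) * ((C : ℂ) * a / k) + (Nat.gcdB C k : ℂ) * a) := by
      have h' : (Nat.gcd C k : ℂ) = (C : ℂ) * Nat.gcdA C k + (k : ℂ) * Nat.gcdB C k := by
        exact_mod_cast hbz
      have hc' : (2 : ℂ) = (Nat.gcd C k : ℂ) * c := by exact_mod_cast hc
      have hkC : (k : ℂ) ≠ 0 := Nat.cast_ne_zero.2 (by omega)
      rw [hc', h']
      field_simp
    rw [e]
    exact (isIntegral_algebraMap (R := ℤ) (x := (c : ℤ))).mul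
      (((isIntegral_algebraMap (R := ℤ) (x := Nat.gcdA C k)).mul hi).add
        ((isIntegral_algebraMap (R := ℤ) (x := Nat.gcdB C k)).mul hai))
  obtain ⟨m, hm⟩ := exists_int_normSq hz3
  rw [← ha] at hm
  have hprod : IsIntegral ℤ (((4 * m : ℤ) : ℚ) / ((k : ℚ) ^ 2) : ℚ) → False := by
    intro h
    obtain ⟨n, hn⟩ := Characters.exists_int_of_isIntegral_ratCast
      (q := ((4 * m : ℤ) : ℚ) / (k : ℚ) ^ 2) (IsIntegral.map (algebraMap ℚ ℂ).toIntAlgHom h)
    have hkR : (0 : ℝ) < k := by exact_mod_cast hk0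
    have hq7 : (7 : ℝ) ≤ q := by exact_mod_cast (hqd ▸ h7 : 7 ≤ q)
    have hkq : (k : ℝ) = (q : ℝ) ^ 3 - 1 := by
      have : ((k + 1 : ℕ) : ℝ) = ((q ^ 3 : ℕ) : ℝ) := by rw [hk]
      push_cast at this
      linarith
    have hq' : ((q - 1 : ℕ) : ℝ) = (q : ℝ) - 1 := by rw [Nat.cast_sub hq1, Nat.cast_one]
    rw [hq'] at hb
    have hn' : ‖((q - 1 : ℕ) : ℂ) * q * ε‖ = ((q : ℝ) - 1) * q := by
      rw [norm_mul, norm_mul, hε, mul_one, Complex.norm_natCast, Complex.norm_natCast, hq']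
    have hup : ‖a‖ ≤ ((q : ℝ) - 1) * (q + 2) := by
      have := norm_le_norm_add_norm_sub' a (((q - 1 : ℕ) : ℂ) * q * ε)
      nlinarith
    have hlo : 0 < ‖a‖ := by
      have := norm_le_norm_add_norm_sub' (((q - 1 : ℕ) : ℂ) * q * ε) a
      rw [norm_sub_rev] at this
      nlinarith
    have hna : ‖a‖ ^ 2 = (m : ℝ) := by
      have := congrArg Complex.re hm
      rw [Complex.mul_conj, Complex.ofReal_re, Complex.normSq_eq_norm_sq, Complex.intCast_re] at this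
      exact this
    have hn2 : 4 * (m : ℝ) = (n : ℝ) * (k : ℝ) ^ 2 := by
      have := congrArg Complex.re hn
      push_cast at this
      rw [show (4 * (m : ℂ) / (k : ℂ) ^ 2) = ((4 * (m : ℝ) / (k : ℝ) ^ 2 : ℝ) : ℂ) by push_cast; ring,
        Complex.ofReal_re, Complex.intCast_re, div_eq_iff (by positivity)] at this
      exact this
    have hn1 : (0 : ℤ) < n := by
      by_contra hcon
      have : (n : ℝ) ≤ 0 := by exact_mod_cast not_lt.1 hcon
      nlinarith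
    have hn1' : (1 : ℝ) ≤ n := by exact_mod_cast hn1
    have hlt : 2 * ‖a‖ < k := by rw [hkq]; nlinarith
    nlinarith
  refine hprod ?_
  refine (isIntegral_algHom_iff ((algebraMap ℚ ℂ).toIntAlgHom) (algebraMap ℚ ℂ).injective).1 ?_
  have e : (algebraMap ℚ ℂ).toIntAlgHom (((4 * m : ℤ) : ℚ) / (k : ℚ) ^ 2) =
      2 * a / (k : ℂ) * conj (2 * a / (k : ℂ)) := by
    rw [map_div₀ conj, map_mul conj, Complex.conj_natCast, show conj (2 : ℂ) = 2 from map_ofNat _ 2,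
      show 2 * a / (k : ℂ) * (2 * conj a / (k : ℂ)) = 4 * (a * conj a) / (k : ℂ) ^ 2 by ring, hm]
    simp
  rw [e]
  exact h2.mul (Characters.isIntegral_conj h2)

end Cfsg.Agent.SimpleFacts.MinDegG2
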