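import Cfsg.Agent.SimpleFacts.MinDegG2.Ops
import Cfsg.Agent.Lib.Chevalley.Types.OrderG2

/-!
The twelve Bruhat cells of the group of type G2.
-/

set_option autoImplicit false
set_option linter.unusedSectionVars false

namespace Cfsg.Agent.SimpleFacts.MinDegG2

open Cfsg.Lie Cfsg.Agent.Chevalley.Table Cfsg.Agent.Chevalley.Cert Cfsg.Agent.Chevalley.Group
  Cfsg.Agent.Chevalley.Unip Cfsg.Agent.Chevalley.Borel Cfsg.Agent.Chevalley.Weyl
  Cfsg.Agent.Chevalley.NormalForm Cfsg.Agent.Chevalley.Order Cfsg.Agent.Chevalley.WeylEnum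
open scoped BigOperators

variable {F : Type*} [Field F]

/-- The twelve reduced words. -/
def wd : Fin 12 → List (Fin 2) :=
  ![[], [0], [1], [0, 1], [1, 0], [0, 1, 0], [1, 0, 1], [0, 1, 0, 1], [1, 0, 1, 0],
    [0, 1, 0, 1, 0], [1, 0, 1, 0, 1], [0, 1, 0, 1, 0, 1]]

/-- Their lengths. -/
def wlen : Fin 12 → ℕ := ![0, 1, 1, 2, 2, 3, 3, 4, 4, 5, 5, 6]

/-- The monomial element of a word. -/
def nw (L : List (Fin 2)) : chevG2.group F := (L.map fun i => ne1 i).prod

theorem coe_nw (L : List (Fin 2)) :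
    ((nw L : chevG2.group F) : GL chevG2.Idx F) = nL hC F (L.map fun i => i.val) := by
  induction L with
  | nil => simp [nw, nL]
  | cons i L ih =>
    rw [List.map_cons, nL_cons, ← ih, nw, List.map_cons, List.prod_cons]
    rfl

theorem wd_step : ∀ i : Fin 2, ∀ k : Fin 12, ∃ k' : Fin 12, ∀ r : Fin 12,
    wL chevG2 (i.val :: (wd k).map fun j => j.val) r.val =
      wL chevG2 ((wd k').map fun j => j.val) r.val := by
  decide +kernel

theorem wd_len : ∀ k : Fin 12,
    (invList chevG2 Cfsg.Agent.Chevalley.Data.G2.tab ((wd k).map fun j => j.val)).length = wlen k := by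
  decide +kernel

theorem map_val_lt (L : List (Fin 2)) : ∀ i ∈ L.map (fun j => j.val), i < chevG2.rank := fun i hi => by
  obtain ⟨j, -, rfl⟩ := List.mem_map.1 hi
  exact j.2

theorem exists_eqv_wd : ∀ L : List ℕ, (∀ i ∈ L, i < chevG2.rank) →
    ∃ k : Fin 12, Eqv chevG2 L ((wd k).map fun j => j.val)
  | [], _ => ⟨0, fun r _ => rfl⟩
  | i :: L, h => by
    obtain ⟨k, hk⟩ := exists_eqv_wd L fun j hj => h j (List.mem_cons_of_mem _ hj)
    obtain ⟨k', hk'⟩ := wd_step ⟨i, h i List.mem_cons_self⟩ k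
    exact ⟨k', fun r hr => (congrArg (chevG2.reflectRoot i) (hk r hr)).trans (hk' ⟨r, hr⟩)⟩

variable [Fintype F]

open _root_.Classical in
/-- A sum of non-negative values over the group, bounded cell by cell. -/
theorem sum_le_cells [Fintype (chevG2.group F)] (h : chevG2.group F → ℝ) (h0 : ∀ g, 0 ≤ h g)
    (v : Fin 12 → ℝ)
    (hv : ∀ (k : Fin 12) (b u : chevG2.group F), (b : GL chevG2.Idx F) ∈ chevG2.borelSubgroup F →
      (u : GL chevG2.Idx F) ∈ chevG2.posUnipotent F → h (b * nw (wd k) * u) = v k) :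
    ∑ g, h g ≤ (Nat.card (chevG2.borelSubgroup F) : ℝ) *
      ∑ k : Fin 12, (Fintype.card F : ℝ) ^ wlen k * v k := by
  let β : Fin 12 → Type _ := fun k => ↥(chevG2.borelSubgroup F) ×
    ↥(Uminus chevG2 F (tor chevG2 1 * nL hC F ((wd k).map fun j => j.val)))
  have : ∀ k, Fintype (β k) := fun k => Fintype.ofFinite _
  let f : (Σ k, β k) → chevG2.group F := fun p =>
    ⟨(p.2.1 : GL chevG2.Idx F), B_le_group hC p.2.1.2⟩ * nw (wd p.1) *
      ⟨(p.2.2 : GL chevG2.Idx F),
        B_le_group hC (Subgroup.mem_sup_left (Uminus_le_U hC _ p.2.2.2))⟩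
  have hsurj : Function.Surjective f := by
    rintro ⟨g, hg⟩
    obtain ⟨b, hb, n, hn', u, hu, rfl⟩ := exists_form hC hg
    obtain ⟨c, L, hL, rfl⟩ := (mem_N_iff hC).1 hn'
    obtain ⟨k, hk⟩ := exists_eqv_wd L hL
    obtain ⟨d, hd⟩ := nL_eq_tor_mul (F := F) hC hL (map_val_lt (wd k)) hk
    rw [Uminus_congr hC hL (map_val_lt (wd k)) hk c 1] at hu
    refine ⟨⟨k, ⟨b * tor chevG2 (c * d),
      mul_mem hb (Subgroup.mem_sup_right (tor_mem_H hC _))⟩, ⟨u, hu⟩⟩, Subtype.ext ?_⟩
    show b * tor chevG2 (c * d) * ((nw (wd k) : chevG2.group F) : GL chevG2.Idx F) * u =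
      b * (tor chevG2 c * nL hC F L) * u
    rw [coe_nw, hd, ← tor_mul]
    group
  have hinj : Function.Injective (Function.surjInv hsurj) := Function.injective_surjInv hsurj
  have hval : ∀ p : Σ k, β k, h (f p) = v p.1 := fun p =>
    hv _ _ _ p.2.1.2 (Uminus_le_U hC _ p.2.2.2)
  calc ∑ g, h g = ∑ p ∈ Finset.univ.image (Function.surjInv hsurj), h (f p) := by
        rw [Finset.sum_image hinj.injOn]
        exact Finset.sum_congr rfl fun g _ => by rw [Function.surjInv_eq hsurj]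
    _ ≤ ∑ p : Σ k, β k, h (f p) :=
        Finset.sum_le_sum_of_subset_of_nonneg (Finset.subset_univ _) fun p _ _ => h0 _
    _ = ∑ k : Fin 12, (Nat.card (β k) : ℝ) * v k := by
        rw [Fintype.sum_sigma]
        refine Finset.sum_congr rfl fun k _ => ?_
        rw [Finset.sum_congr rfl (g := fun _ => v k) fun x _ => hval ⟨k, x⟩, Finset.sum_const,
          Finset.card_univ, nsmul_eq_mul, Nat.card_eq_fintype_card]
    _ = _ := by
        rw [Finset.mul_sum]
        refine Finset.sum_congr rfl fun k _ => ?_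
        show (Nat.card (_ × _) : ℝ) * _ = _
        rw [Nat.card_prod, card_Uminus hC (map_val_lt (wd k)), ← invList_length hC, wd_len]
        push_cast
        ring

/-- The order in terms of the Borel subgroup. -/
theorem card_eq_borel :
    Nat.card (chevG2.group F) = Nat.card (chevG2.borelSubgroup F) *
      ((1 + Fintype.card F + Fintype.card F ^ 2 + Fintype.card F ^ 3 + Fintype.card F ^ 4 +
        Fintype.card F ^ 5) * (1 + Fintype.card F)) := by
  rw [Cfsg.Agent.Chevalley.Order.card_group hC Cfsg.Agent.Chevalley.Types.WG2.chain_ok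
    Cfsg.Agent.Chevalley.Types.WG2.top_ok]
  simp [Cfsg.Agent.Chevalley.Data.WG2.chain, Cfsg.Agent.Chevalley.Data.WG2.lev1,
    Cfsg.Agent.Chevalley.Data.WG2.lev2, Cfsg.Agent.Chevalley.Data.WG2.part1_0,
    Cfsg.Agent.Chevalley.Data.WG2.part2_0, Cfsg.Agent.Chevalley.Data.WG2.rep1_0,
    Cfsg.Agent.Chevalley.Data.WG2.rep1_1, Cfsg.Agent.Chevalley.Data.WG2.rep2_0,
    Cfsg.Agent.Chevalley.Data.WG2.rep2_1, Cfsg.Agent.Chevalley.Data.WG2.rep2_2,
    Cfsg.Agent.Chevalley.Data.WG2.rep2_3, Cfsg.Agent.Chevalley.Data.WG2.rep2_4,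
    Cfsg.Agent.Chevalley.Data.WG2.rep2_5, add_assoc]

end Cfsg.Agent.SimpleFacts.MinDegG2
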