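import Cfsg.Agent.SimpleFacts.MinDegG2.Sphere
import Cfsg.Agent.SimpleFacts.MinDegG2.Cells
import Cfsg.Agent.Lib.Characters.Integrality

/-!
No irreducible representation of degree `q³` when the field has a cube root of unity.
-/

set_option autoImplicit false
set_option linter.unusedSectionVars false

namespace Cfsg.Agent.SimpleFacts.MinDegG2

open Cfsg.Lie Cfsg.Agent.SimpleFacts.MinDegExc Cfsg.Agent.Chevalley.Group
open scoped BigOperators

variable {V : Type*} [AddCommGroup V] [Module ℂ V] [FiniteDimensional ℂ V]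
variable {F : Type*} [Field F] [Fintype F] (ρ : Representation ℂ (chevG2.group F) V)
variable {ψ : AddChar F ℂ} (hψ : ψ ≠ 1) (hq : 3 ≤ Fintype.card F) (h1 : r6 ρ ψ 0 0 = 1)

/-- The exponent of a word. -/
def wexp : Fin 12 → ℕ := ![0, 0, 1, 1, 1, 1, 2, 2, 2, 2, 3, 3]

include hψ hq h1

theorem fix_borel (hθ : ∀ u : F, u ≠ 0 → phi ρ ψ (te 1 u) = 1) {b : chevG2.group F}
    (hb : (b : GL chevG2.Idx F) ∈ chevG2.borelSubgroup F) : b ∈ fixSub ρ (eL ρ ψ) := by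
  have hI := eL_idem ρ hψ hq h1
  have ht1 : ∀ u : F, u ≠ 0 → te 1 u ∈ fixSub ρ (eL ρ ψ) := fun u hu => by
    have hc := eL_te_comm ρ hψ hq h1 1 hu
    have e : ρ (te 1 u) * eL ρ ψ = eL ρ ψ := by
      have h := eL_scalar ρ hψ hq h1 (te 1 u)
      rw [hθ u hu, one_smul, ← hc.eq, mul_assoc, hI] at h
      exact h
    exact ⟨e, by rw [← hc.eq]; exact e⟩
  suffices h : chevG2.borelSubgroup F ≤
      (fixSub ρ (eL ρ ψ)).map (chevG2.group F).subtype by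
    obtain ⟨b', hb', e⟩ := h hb
    exact (Subtype.ext e : b' = b) ▸ hb'
  refine sup_le ((Subgroup.closure_le _).2 ?_) ?_
  · rintro g ⟨r, t, hr, hg⟩
    have h6 : ∀ r : Fin 12, (∀ c ∈ (chevG2.coroot.getD r.val #[]).toList, 0 ≤ c) →
        r ∈ [4, 6, 7, 8, 9, 10, 11] := by decide +kernel
    exact ⟨xe ⟨r, hr.1⟩ t, eL_xe ρ hψ hq h1 _ (h6 ⟨r, hr.1⟩ hr.2) t, Units.ext hg.symm⟩
  · intro g hgH
    obtain ⟨c, rfl⟩ := (mem_H_iff hC).1 hgH
    refine ⟨te 0 (c 0 : F) * te 1 (c 1 : F),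
      mul_mem (eL_te0 ρ hψ hq h1 _) (ht1 _ (Units.ne_zero _)), ?_⟩
    rw [tor_eq_prod hC]
    show hg hC (chevG2.simple 0) (c 0 : F) * hg hC (chevG2.simple 1) (c 1 : F) = _
    simp [show chevG2.rank = 2 from rfl, List.range_succ]

open _root_.Classical in
theorem phi_cell (hθ : ∀ u : F, u ≠ 0 → phi ρ ψ (te 1 u) = 1) (k : Fin 12) :
    phi ρ ψ (nw (wd k)) = phi ρ ψ (ne1 1) ^ wexp k ∧
      phi ρ ψ (nw (wd k))⁻¹ = phi ρ ψ (ne1 1) ^ wexp k := by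
  obtain ⟨n, hn⟩ : ∃ n : chevG2.group F, n = ne1 1 := ⟨_, rfl⟩
  obtain ⟨a, ha⟩ : ∃ a : chevG2.group F, a = ne1 0 := ⟨_, rfl⟩
  obtain ⟨c, hc⟩ : ∃ c, c = phi ρ ψ (ne1 1) := ⟨_, rfl⟩
  rw [← hc]
  have ha' : a ∈ fixSub ρ (eL ρ ψ) := ha ▸ eL_ne0 ρ hψ hq h1
  have h6 := fun t => eL_xe ρ hψ hq h1 6 (by decide) t
  have h10 := fun t => eL_xe ρ hψ hq h1 10 (by decide) t
  have h11 := fun t => eL_xe ρ hψ hq h1 11 (by decide) t
  have hone : ∀ g, phi ρ ψ (a * g) = phi ρ ψ g := fun g => phi_left ρ hψ hq h1 ha' g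
  have hone' : ∀ g, phi ρ ψ (a⁻¹ * g) = phi ρ ψ g := fun g =>
    phi_left ρ hψ hq h1 (inv_mem ha') g
  have hr : ∀ g, phi ρ ψ (g * a) = phi ρ ψ g := fun g => phi_right ρ hψ hq h1 ha' g
  have hr' : ∀ g, phi ρ ψ (g * a⁻¹) = phi ρ ψ g := fun g =>
    phi_right ρ hψ hq h1 (inv_mem ha') g
  obtain ⟨a6, p6, q6⟩ := ne1_conj (F := F) 0 6 (s := 10) (by decide +kernel)
  obtain ⟨a10, p10, q10⟩ := ne1_conj (F := F) 0 10 (s := 6) (by decide +kernel)
  obtain ⟨a11, p11, q11⟩ := ne1_conj (F := F) 0 11 (s := 11) (by decide +kernel)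
  obtain ⟨b10, r10, s10⟩ := ne1_conj (F := F) 1 10 (s := 11) (by decide +kernel)
  obtain ⟨b11, r11, s11⟩ := ne1_conj (F := F) 1 11 (s := 10) (by decide +kernel)
  have t := phi_ne_mul ρ hψ hq h1
  have ti : ∀ g, phi ρ ψ (n⁻¹ * g) = phi ρ ψ (n * g) := fun g => by
    rw [hn, ne1_inv, mul_assoc, (phi_te1 ρ hψ hq h1 (neg_ne_zero.2 one_ne_zero) _).1,
      hθ _ (neg_ne_zero.2 one_ne_zero), one_mul]
  have v1 : phi ρ ψ n = c := by rw [hc, hn]
  have v1' : phi ρ ψ n⁻¹ = c := by rw [← mul_one n⁻¹, ti, mul_one, v1]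
  have v2 : phi ρ ψ (n * (a * n)) = c ^ 2 := by
    rw [hn, t _ fun u => ?_, ← hn, hone, v1]
    · ring
    · rw [← hn, show (a * n)⁻¹ * xe 6 u * (a * n) = n⁻¹ * (a⁻¹ * xe 6 u * a) * n by group, ha,
        pull p10 q10, hn, pull r11 s11]
      exact h11 _
  have v2' : phi ρ ψ (n⁻¹ * (a⁻¹ * n⁻¹)) = c ^ 2 := by
    rw [ti, hn, t _ fun u => ?_, ← hn, hone', v1', v1]
    · ring
    · rw [← hn, show (a⁻¹ * n⁻¹)⁻¹ * xe 6 u * (a⁻¹ * n⁻¹) = n * (a * xe 6 u * a⁻¹) * n⁻¹ by group, ha,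
        q6, hn, s10]
      exact h11 _
  have v3 : phi ρ ψ (n * (a * (n * (a * n)))) = c ^ 3 := by
    rw [hn, t _ fun u => ?_, ← hn, hone, v2, v1]
    · ring
    · rw [← hn, show (a * (n * (a * n)))⁻¹ * xe 6 u * (a * (n * (a * n))) =
        n⁻¹ * (a⁻¹ * (n⁻¹ * (a⁻¹ * xe 6 u * a) * n) * a) * n by group, ha, pull p10 q10, hn,
        pull r11 s11, pull p11 q11, pull r10 s10]
      exact h10 _
  have v3' : phi ρ ψ (n⁻¹ * (a⁻¹ * (n⁻¹ * (a⁻¹ * n⁻¹)))) = c ^ 3 := by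
    rw [ti, hn, t _ fun u => ?_, ← hn, hone', v2', v1]
    · ring
    · rw [← hn, show (a⁻¹ * (n⁻¹ * (a⁻¹ * n⁻¹)))⁻¹ * xe 6 u * (a⁻¹ * (n⁻¹ * (a⁻¹ * n⁻¹))) =
        n * (a * (n * (a * xe 6 u * a⁻¹) * n⁻¹) * a⁻¹) * n⁻¹ by group, ha, q6, hn, s10, q11, s11]
      exact h10 _
  have z : phi ρ ψ a = 1 ∧ phi ρ ψ a⁻¹ = 1 := by
    constructor
    · rw [← mul_one a, hone, phi_one ρ hψ hq h1]
    · rw [← mul_one a⁻¹, hone', phi_one ρ hψ hq h1]
  fin_cases k <;>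
    simp [wd, wexp, nw, ← ha, ← hn, phi_one ρ hψ hq h1, hone, hone', hr, hr', v1, v1', v2, v2', v3,
      v3', z.1, z.2, mul_assoc] <;>
    first
      | done
      | refine ⟨?_, ?_⟩ <;> simp [← mul_assoc, hr, hr'] <;>
          simp [mul_assoc, hone, hone', v1, v1', v2, v2', v3, v3']
      | simp [← mul_assoc, hr, hr'] <;> simp [mul_assoc, hone, hone', v1, v1', v2, v2', v3, v3']

/-- The Schur relation for the line. -/
theorem sum_phi [ρ.IsIrreducible] [Fintype (chevG2.group F)] :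
    (Module.finrank ℂ V : ℂ) * ∑ g : chevG2.group F, phi ρ ψ g * phi ρ ψ g⁻¹ =
      (Nat.card (chevG2.group F) : ℂ) := by
  classical
  obtain ⟨T, hT⟩ : ∃ T, T = ∑ g : chevG2.group F, ρ g * eL ρ ψ * ρ g⁻¹ := ⟨_, rfl⟩
  have hcomm : ∀ h, T * ρ h = ρ h * T := by
    intro h
    rw [hT, Finset.sum_mul, Finset.mul_sum]
    refine (Fintype.sum_equiv (Equiv.mulLeft h) _ _ fun g => ?_).symm
    show ρ h * (ρ g * eL ρ ψ * ρ g⁻¹) = ρ (h * g) * eL ρ ψ * ρ (h * g)⁻¹ * ρ h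
    rw [mul_assoc (ρ (h * g) * eL ρ ψ), ← map_mul ρ (h * g)⁻¹, mul_inv_rev, inv_mul_cancel_right,
      map_mul, mul_assoc, mul_assoc, mul_assoc]
  obtain ⟨lam, hlam⟩ := Characters.schur_scalar ρ T fun g v => LinearMap.congr_fun (hcomm g) v
  have htr : (Module.finrank ℂ V : ℂ) * lam = (Nat.card (chevG2.group F) : ℂ) := by
    have e : LinearMap.trace ℂ V T = (Nat.card (chevG2.group F) : ℂ) := by
      rw [hT, map_sum, Finset.sum_congr rfl (g := fun _ => (1 : ℂ)) fun g _ => by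
        rw [LinearMap.trace_mul_comm, ← mul_assoc, ← map_mul, inv_mul_cancel, map_one, one_mul,
          eL_trace ρ hψ hq h1], Finset.sum_const, Finset.card_univ, nsmul_eq_mul, mul_one,
        Nat.card_eq_fintype_card]
    rw [hlam, map_smul, LinearMap.trace_id, smul_eq_mul, mul_comm] at e
    exact e
  rw [← htr]
  congr 1
  have e1 : eL ρ ψ * T * eL ρ ψ =
      (∑ g : chevG2.group F, phi ρ ψ g * phi ρ ψ g⁻¹) • eL ρ ψ := by
    rw [hT, Finset.mul_sum, Finset.sum_mul, Finset.sum_smul]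
    refine Finset.sum_congr rfl fun g _ => ?_
    calc eL ρ ψ * (ρ g * eL ρ ψ * ρ g⁻¹) * eL ρ ψ
        = (eL ρ ψ * ρ g * eL ρ ψ) * (eL ρ ψ * ρ g⁻¹ * eL ρ ψ) := by
          simp only [mul_assoc]
          rw [← mul_assoc (eL ρ ψ) (eL ρ ψ), eL_idem ρ hψ hq h1]
      _ = _ := by
          rw [eL_scalar ρ hψ hq h1, eL_scalar ρ hψ hq h1, smul_mul_assoc, mul_smul_comm, smul_smul,
            eL_idem ρ hψ hq h1]
  have hne : eL ρ ψ ≠ 0 := fun h0 => by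
    have := eL_trace ρ hψ hq h1
    rw [h0, map_zero] at this
    exact zero_ne_one this
  have e2 : eL ρ ψ * T * eL ρ ψ = lam • eL ρ ψ := by
    rw [hlam]
    show eL ρ ψ * (lam • (1 : Module.End ℂ V)) * eL ρ ψ = _
    rw [mul_smul_comm, mul_one, smul_mul_assoc, eL_idem ρ hψ hq h1]
  exact smul_left_injective ℂ hne (e1.symm.trans e2)

open _root_.Classical in
/-- No degree `q³`. -/
theorem excB [ρ.IsIrreducible] (h7 : 7 ≤ Fintype.card F)
    (hk : Module.finrank ℂ V = Fintype.card F ^ 3) : False := by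
  have := Fintype.ofFinite (chevG2.group F)
  obtain ⟨hθ, hc⟩ := phi_ne1 ρ hψ hq h1
  obtain ⟨d, hd, hd'⟩ : ∃ d : ℝ, phi ρ ψ (ne1 1) = (d : ℂ) ∧
      (d = 1 ∨ d = -(Fintype.card F : ℝ)⁻¹) := by
    rcases hc with h | h
    · exact ⟨1, by rw [h, Complex.ofReal_one], Or.inl rfl⟩
    · exact ⟨-(Fintype.card F : ℝ)⁻¹, by rw [h]; push_cast; rfl, Or.inr rfl⟩
  let val : chevG2.group F → ℂ := fun g => phi ρ ψ g * phi ρ ψ g⁻¹
  have hcell : ∀ (k : Fin 12) (b u : chevG2.group F),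
      (b : GL chevG2.Idx F) ∈ chevG2.borelSubgroup F →
      (u : GL chevG2.Idx F) ∈ chevG2.posUnipotent F →
      val (b * nw (wd k) * u) = (((d ^ 2) ^ wexp k : ℝ) : ℂ) := by
    intro k b u hb hu
    have hb' := fix_borel ρ hψ hq h1 hθ hb
    have hu' := fix_borel ρ hψ hq h1 hθ (b := u) (Subgroup.mem_sup_left hu)
    obtain ⟨e1, e2⟩ := phi_cell ρ hψ hq h1 hθ k
    show phi ρ ψ (b * nw (wd k) * u) * phi ρ ψ (b * nw (wd k) * u)⁻¹ = _
    rw [phi_right ρ hψ hq h1 hu', phi_left ρ hψ hq h1 hb',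
      show (b * nw (wd k) * u)⁻¹ = u⁻¹ * (nw (wd k))⁻¹ * b⁻¹ by group,
      phi_right ρ hψ hq h1 (inv_mem hb'), phi_left ρ hψ hq h1 (inv_mem hu'), e1, e2, hd]
    push_cast
    ring
  have hall : ∀ g, ∃ k, val g = (((d ^ 2) ^ wexp k : ℝ) : ℂ) := fun g => by
    obtain ⟨b, hb, n, hn, u, hu, e⟩ := Cfsg.Agent.Chevalley.NormalForm.exists_form hC g.2
    obtain ⟨c, L, hL, rfl⟩ := (mem_N_iff hC).1 hn
    obtain ⟨k, hk⟩ := exists_eqv_wd L hL
    obtain ⟨c', hc'⟩ := Cfsg.Agent.Chevalley.Order.nL_eq_tor_mul (F := F) hC hL (map_val_lt (wd k)) hk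
    have hb2 : b * tor chevG2 (c * c') ∈ chevG2.borelSubgroup F :=
      mul_mem hb (Subgroup.mem_sup_right (tor_mem_H hC _))
    have hu2 := Cfsg.Agent.Chevalley.NormalForm.Uminus_le_U hC _ hu
    refine ⟨k, ?_⟩
    rw [show g = (⟨_, Cfsg.Agent.Chevalley.Borel.B_le_group hC hb2⟩ : chevG2.group F) * nw (wd k) *
        ⟨u, Cfsg.Agent.Chevalley.Borel.B_le_group hC (Subgroup.mem_sup_left hu2)⟩ from Subtype.ext (by
      show (g : GL chevG2.Idx F) = b * tor chevG2 (c * c') *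
        ((nw (wd k) : chevG2.group F) : GL chevG2.Idx F) * u
      rw [e, coe_nw, hc', ← tor_mul]; group)]
    exact hcell k _ _ hb2 hu2
  have hre : ∀ g, val g = (((val g).re : ℝ) : ℂ) := fun g => by
    obtain ⟨k, hk⟩ := hall g
    rw [hk, Complex.ofReal_re]
  have hsum := sum_phi ρ hψ hq h1
  rw [hk, Finset.sum_congr rfl (g := fun g => (((val g).re : ℝ) : ℂ)) fun g _ => hre g,
    ← Complex.ofReal_sum] at hsum
  have hsum' : (Fintype.card F : ℝ) ^ 3 * ∑ g, (val g).re = (Nat.card (chevG2.group F) : ℝ) := by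
    exact_mod_cast hsum
  obtain ⟨q, hqd⟩ : ∃ q : ℝ, q = (Fintype.card F : ℝ) := ⟨_, rfl⟩
  have hq7 : (7 : ℝ) ≤ q := by rw [hqd]; exact_mod_cast h7
  rw [← hqd] at hsum' hd'
  rcases hd' with rfl | rfl
  · have : ∀ g, (val g).re = 1 := fun g => by
      obtain ⟨k, hk⟩ := hall g
      simp [hk]
    rw [Finset.sum_congr rfl fun g _ => this g, Finset.sum_const, Finset.card_univ, nsmul_eq_mul,
      mul_one, Nat.card_eq_fintype_card] at hsum'
    have hG : (0 : ℝ) < (Fintype.card (chevG2.group F) : ℝ) := by exact_mod_cast Fintype.card_pos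
    have h343 : (7 : ℝ) ^ 3 ≤ q ^ 3 := pow_le_pow_left₀ (by norm_num) hq7 3
    nlinarith
  · have hb := sum_le_cells (fun g => (val g).re) (fun g => by
      obtain ⟨k, hk⟩ := hall g
      show 0 ≤ (val g).re
      rw [hk, Complex.ofReal_re]
      positivity) (fun k => ((-q⁻¹) ^ 2) ^ wexp k) fun k b u hb hu => by
      show (val _).re = _
      rw [hcell k b u hb hu, Complex.ofReal_re]
    rw [card_eq_borel] at hsum'
    push_cast at hsum'
    rw [← hqd] at hb hsum'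
    have hB : (0 : ℝ) < (Nat.card (chevG2.borelSubgroup F) : ℝ) := by exact_mod_cast Nat.card_pos
    generalize (Nat.card (chevG2.borelSubgroup F) : ℝ) = B at hb hsum' hB
    generalize ∑ g, (val g).re = S at hb hsum'
    have hB' : ∑ k : Fin 12, q ^ wlen k * ((-q⁻¹) ^ 2) ^ wexp k = 6 + 3 * q + 3 * q⁻¹ := by
      simp [Fin.sum_univ_succ, wlen, wexp]
      field_simp
      ring
    rw [hB'] at hb
    have hi : q⁻¹ ≤ 1 := inv_le_one_of_one_le₀ (by linarith)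
    have hq3 : 0 < q ^ 3 := by positivity
    have h4 : S ≤ B * (9 + 3 * q) := hb.trans (mul_le_mul_of_nonneg_left (by linarith) hB.le)
    have h5 : B * (q ^ 6) ≤ q ^ 3 * S := by
      rw [hsum']
      refine mul_le_mul_of_nonneg_left ?_ hB.le
      nlinarith [pow_nonneg (by linarith : (0 : ℝ) ≤ q) 5, pow_nonneg (by linarith : (0 : ℝ) ≤ q) 4,
        pow_nonneg (by linarith : (0 : ℝ) ≤ q) 3, pow_nonneg (by linarith : (0 : ℝ) ≤ q) 2]
    have h6 : q ^ 3 * S ≤ q ^ 3 * (B * (9 + 3 * q)) := mul_le_mul_of_nonneg_left h4 hq3.le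
    have h7 : 9 + 3 * q < q ^ 3 := by nlinarith
    nlinarith [mul_lt_mul_of_pos_left h7 (mul_pos hB hq3)]

end Cfsg.Agent.SimpleFacts.MinDegG2
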