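import Cfsg.Agent.SimpleFacts.MinDegG2.Gen

/-!
Characteristic different from three, multiplicity one: the fixed space of the root group 6.
-/

set_option autoImplicit false
set_option linter.unusedSectionVars false

namespace Cfsg.Agent.SimpleFacts.MinDegG2

open Cfsg.Lie Cfsg.Agent.SimpleFacts.MinDegExc
open scoped BigOperators

variable {V : Type*} [AddCommGroup V] [Module ℂ V] [FiniteDimensional ℂ V]
variable {F : Type*} [Field F] [Fintype F] (ρ : Representation ℂ (chevG2.group F) V)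
variable {ψ : AddChar F ℂ} (hψ : ψ ≠ 1)

/-- The torus normalises the root groups. -/
theorem te_av (i : Fin 2) (r : Fin 12) {u : F} (hu : u ≠ 0) :
    Commute (av ρ r) (ρ (te i u)) := by
  obtain ⟨w, hw⟩ : ∃ w, w = u ^ chevG2.cartan i.val r.val := ⟨_, rfl⟩
  have hw0 : w ≠ 0 := hw ▸ zpow_ne_zero _ hu
  have e : ∀ t, op ρ r (w * t) * ρ (te i u) = ρ (te i u) * op ρ r t := fun t => by
    rw [op, op, ← map_mul, ← map_mul, hw, ← te_conj i r hu, inv_mul_cancel_right]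
  refine (commute_iff_eq _ _).2 ?_
  rw [av, smul_mul_assoc, mul_smul_comm, Finset.sum_mul, Finset.mul_sum]
  congr 1
  exact (Fintype.sum_equiv (Equiv.mulLeft₀ w hw0) _ _ fun t => (e t).symm).symm

theorem cartan6 : chevG2.cartan 0 6 = -3 ∧ chevG2.cartan 1 6 = 2 := by decide +kernel

/-- The rank of the fixed part of the root group 6 on a character. -/
noncomputable def r6 (ψ : AddChar F ℂ) (a c : F) : ℕ := rk (av ρ 6 * P3 ρ ψ a c 0)

include hψ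

theorem av6P_idem (a c : F) :
    av ρ 6 * P3 ρ ψ a c 0 * (av ρ 6 * P3 ρ ψ a c 0) = av ρ 6 * P3 ρ ψ a c 0 :=
  idem_comm_mul (av_idem ρ 6) (P3_idem ρ hψ a c 0)
    (av_comm ρ fun t => comm6_P3 ρ hψ t a c)

theorem trace_r6 (a c : F) :
    LinearMap.trace ℂ V (av ρ 6 * P3 ρ ψ a c 0) = (r6 ρ ψ a c : ℂ) :=
  rk_eq_trace (av6P_idem ρ hψ a c)

theorem r6_moves {g : chevG2.group F} {f : (Fin 3 → F) → (Fin 3 → F)}
    (hg : Moves (fam3 ρ) ψ (ρ g) f) (hc : Commute (av ρ 6) (ρ g)) {a c a' c' : F}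
    (e : f ![a, c, 0] = ![a', c', 0]) : r6 ρ ψ a' c' = r6 ρ ψ a c := by
  have h1 := hg.trace_shift hψ (op_inv_mul ρ g) hc ![a, c, 0]
  rw [e] at h1
  have h2 := (trace_r6 ρ hψ a' c').symm.trans (h1.trans (trace_r6 ρ hψ a c))
  exact_mod_cast h2

theorem r6_te0 {u : F} (hu : u ≠ 0) (a c : F) : r6 ρ ψ (u * a) (u ^ 3 * c) = r6 ρ ψ a c :=
  r6_moves ρ hψ (mte0 ρ hψ hu) (te_av ρ 0 6 (inv_ne_zero hu))
    (funext fun i => by fin_cases i <;> simp)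

theorem r6_te1 {u : F} (hu : u ≠ 0) (a c : F) : r6 ρ ψ a (u⁻¹ * c) = r6 ρ ψ a c :=
  r6_moves ρ hψ (mte1 ρ hψ hu) (te_av ρ 1 6 (inv_ne_zero hu))
    (funext fun i => by fin_cases i <;> simp)

theorem r6_a {a : F} (ha : a ≠ 0) : r6 ρ ψ a 0 = r6 ρ ψ 1 0 := by
  conv_rhs => rw [← r6_te0 ρ hψ ha 1 0]
  simp

theorem r6_ac {a c : F} (ha : a ≠ 0) (hc : c ≠ 0) : r6 ρ ψ a c = r6 ρ ψ 1 1 := by
  conv_rhs => rw [← r6_te0 ρ hψ ha 1 1,
    ← r6_te1 ρ hψ (u := a ^ 3 / c) (div_ne_zero (pow_ne_zero 3 ha) hc) (a * 1) (a ^ 3 * 1)]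
  congr 1
  · ring
  · field_simp

/-- The root group 6 fixes the lines above the long characters. -/
theorem r6_line (h3 : (3 : F) ≠ 0) (hν : nu3 ρ ψ = 1) (hu : ∃ u : F, u ≠ 0 ∧ u ^ 3 ≠ 1) {c : F}
    (hc : c ≠ 0) : r6 ρ ψ 0 c = 1 := by
  obtain ⟨u, hu0, hu1⟩ := hu
  have hP := P3_idem ρ hψ 0 c 0
  have hrk : rk (P3 ρ ψ 0 c 0) = 1 := by rw [← M3_eq_rk, M3_c ρ hψ h3 hc, hν]
  have ht : LinearMap.trace ℂ V (P3 ρ ψ 0 c 0) = 1 := by rw [rk_eq_trace hP, hrk, Nat.cast_one]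
  obtain ⟨β, hβ⟩ := char_on_line ρ hψ hP ht 6 fun t => comm6_P3 ρ hψ t 0 c
  have hw : u ^ 3 ≠ 0 := pow_ne_zero 3 hu0
  obtain ⟨g, hg⟩ : ∃ g : chevG2.group F, g = te 0 u⁻¹ * te 1 (u ^ 3)⁻¹ := ⟨_, rfl⟩
  have hgP : Commute (ρ g) (P3 ρ ψ 0 c 0) := by
    refine (commute_iff_eq _ _).2 ?_
    have e1 := (mte1 ρ hψ hw).mul_P hψ ![0, c, 0]
    have e0 := (mte0 ρ hψ hu0).mul_P hψ ![0, (u ^ 3)⁻¹ * c, 0]
    simp only [Matrix.cons_val_zero, Matrix.cons_val_one, Matrix.cons_val_two, Matrix.tail_cons,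
      Matrix.head_cons, mul_zero, mul_inv_cancel_left₀ hw] at e0 e1
    rw [hg, map_mul, mul_assoc, P3, e1, ← mul_assoc, e0, mul_assoc]
  have hconj : ∀ v, g * xe 6 v * g⁻¹ = xe 6 ((u ^ 3)⁻¹ * v) := fun v => by
    rw [hg, show te 0 u⁻¹ * te 1 (u ^ 3)⁻¹ * xe 6 v * (te 0 u⁻¹ * te 1 (u ^ 3)⁻¹)⁻¹ =
      te 0 u⁻¹ * (te 1 (u ^ 3)⁻¹ * xe 6 v * (te 1 (u ^ 3)⁻¹)⁻¹) * (te 0 u⁻¹ : chevG2.group F)⁻¹
      by group, te_conj 1 6 (inv_ne_zero hw), te_conj 0 6 (inv_ne_zero hu0)]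
    congr 1
    obtain ⟨c0, c1⟩ := cartan6
    show u⁻¹ ^ chevG2.cartan 0 6 * ((u ^ 3)⁻¹ ^ chevG2.cartan 1 6 * v) = _
    rw [c0, c1, zpow_neg, inv_zpow, inv_inv, zpow_ofNat, zpow_ofNat]
    field_simp
  have hne : ρ g * P3 ρ ψ 0 c 0 ≠ 0 := fun e => by
    have := congrArg (ρ g⁻¹ * ·) e
    simp only [← mul_assoc, ← map_mul, inv_mul_cancel, map_one, one_mul, mul_zero] at this
    rw [this, map_zero] at ht
    exact zero_ne_one ht
  have hβ0 : β = 0 := by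
    have : β * (u ^ 3)⁻¹ = β := psi_inj hψ fun v => smul_left_injective ℂ hne (by
      show ψ _ • _ = ψ _ • _
      rw [mul_assoc]
      calc ψ (β * ((u ^ 3)⁻¹ * v)) • (ρ g * P3 ρ ψ 0 c 0)
          = op ρ 6 ((u ^ 3)⁻¹ * v) * (ρ g * P3 ρ ψ 0 c 0) := by
            rw [hgP.eq, ← mul_assoc (op ρ 6 _), hβ, smul_mul_assoc]
        _ = ρ g * (op ρ 6 v * P3 ρ ψ 0 c 0) := by
            rw [← mul_assoc, op, op, ← map_mul, ← hconj, inv_mul_cancel_right, map_mul, mul_assoc]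
        _ = ψ (β * v) • (ρ g * P3 ρ ψ 0 c 0) := by rw [hβ, mul_smul_comm])
    by_contra hb
    exact hu1 (inv_eq_one.1 (mul_left_cancel₀ hb (this.trans (mul_one β).symm)))
  rw [r6, av_eig ρ hψ hβ, if_pos hβ0, hrk]

theorem trace_moved6 {d : F} (hd : d ≠ 0) (a c : F) :
    LinearMap.trace ℂ V (av ρ 6 * P3 ρ ψ a c d) =
      (Fintype.card F : ℂ)⁻¹ * (M3 ρ ψ a c d : ℂ) := by
  rw [P3, trace_av_moved ρ fun t ht => (m6 ρ hψ t).trace_moved hψ fun e => ?_,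
    (fam3 ρ).trace_P hψ]
  · rfl
  have h1 := congrFun e 1
  simp at h1
  exact h1.elim ht hd

theorem trace6_eq_trace11 :
    LinearMap.trace ℂ V (av ρ 6) = LinearMap.trace ℂ V (av ρ 11) := by
  obtain ⟨a, ha, ha'⟩ := ne1_conj (F := F) 0 10 (s := 6) (by decide +kernel)
  obtain ⟨b, hb, hb'⟩ := ne1_conj (F := F) 1 10 (s := 11) (by decide +kernel)
  have nz : ∀ η : F, η = 1 ∨ η = -1 → η ≠ 0 := fun η h => by rcases h with rfl | rfl <;> simp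
  rw [trace_av_conj ρ (nz _ ha) ha', trace_av_conj ρ (nz _ hb) hb']

open _root_.Classical in
/-- The fixed space of the three root groups. -/
theorem sum_top (h3 : (3 : F) ≠ 0) (hν : nu3 ρ ψ = 1) (hu : ∃ u : F, u ≠ 0 ∧ u ^ 3 ≠ 1) :
    ∑ a : F, M3 ρ ψ a 0 0 = (Fintype.card F - 1) + (Fintype.card F - 1) ^ 2 * r6 ρ ψ 1 1 +
      (Fintype.card F - 1) * r6 ρ ψ 1 0 + r6 ρ ψ 0 0 := by
  have hE : ((Finset.univ : Finset F).erase 0).card = Fintype.card F - 1 := by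
    rw [Finset.card_erase_of_mem (Finset.mem_univ _), Finset.card_univ]
  have hq := q_ne (F := F)
  have t11 : ∀ a c d : F, LinearMap.trace ℂ V (av ρ 11 * P3 ρ ψ a c d) =
      if d = 0 then (M3 ρ ψ a c d : ℂ) else 0 := fun a c d => by
    rw [av_eig ρ hψ (P3_11 ρ a c d), apply_ite (LinearMap.trace ℂ V), map_zero,
      rk_eq_trace (P3_idem ρ hψ a c d)]
    rfl
  have e := trace6_eq_trace11 ρ hψ
  rw [(fam3 ρ).trace_eq hψ, (fam3 ρ).trace_eq hψ (av ρ 11), sum3, sum3] at e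
  change ∑ d : F, ∑ c : F, ∑ a : F, LinearMap.trace ℂ V (av ρ 6 * P3 ρ ψ a c d) =
    ∑ d : F, ∑ c : F, ∑ a : F, LinearMap.trace ℂ V (av ρ 11 * P3 ρ ψ a c d) at e
  have sp : ∀ f : F → ℂ, ∑ x : F, f x = f 0 + ∑ x ∈ (Finset.univ : Finset F).erase 0, f x :=
    fun f => (Finset.add_sum_erase _ _ (Finset.mem_univ 0)).symm
  have L : ∑ d : F, ∑ c : F, ∑ a : F, LinearMap.trace ℂ V (av ρ 6 * P3 ρ ψ a c d) =
      ((r6 ρ ψ 0 0 : ℂ) + ((Fintype.card F - 1 : ℕ) : ℂ) * (r6 ρ ψ 1 0 : ℂ)) +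
      ((Fintype.card F - 1 : ℕ) : ℂ) *
        (1 + ((Fintype.card F - 1 : ℕ) : ℂ) * (r6 ρ ψ 1 1 : ℂ)) +
      ((Fintype.card F - 1 : ℕ) : ℂ) * (Fintype.card F : ℂ) := by
    rw [sp]
    congr 1
    · rw [sp, sp]
      congr 1
      · rw [trace_r6 ρ hψ, Finset.sum_congr rfl fun a ha => by
          rw [trace_r6 ρ hψ, r6_a ρ hψ (Finset.ne_of_mem_erase ha)], Finset.sum_const, hE,
          nsmul_eq_mul]
      · rw [Finset.sum_congr rfl (g := fun _ => 1 + ((Fintype.card F - 1 : ℕ) : ℂ) *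
          (r6 ρ ψ 1 1 : ℂ)) fun c hc => ?_, Finset.sum_const, hE, nsmul_eq_mul]
        rw [sp, trace_r6 ρ hψ, r6_line ρ hψ h3 hν hu (Finset.ne_of_mem_erase hc), Nat.cast_one,
          Finset.sum_congr rfl fun a ha => by
            rw [trace_r6 ρ hψ, r6_ac ρ hψ (Finset.ne_of_mem_erase ha) (Finset.ne_of_mem_erase hc)],
          Finset.sum_const, hE, nsmul_eq_mul]
    · rw [Finset.sum_congr rfl (g := fun _ => (Fintype.card F : ℂ)) fun d hd => ?_, Finset.sum_const,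
        hE, nsmul_eq_mul]
      rw [Finset.sum_congr rfl (g := fun _ => (1 : ℂ)) fun c _ => ?_, Finset.sum_const,
        Finset.card_univ, nsmul_eq_mul, mul_one]
      rw [Finset.sum_congr rfl (g := fun _ => (Fintype.card F : ℂ)⁻¹) fun a _ => by
        rw [trace_moved6 ρ hψ (Finset.ne_of_mem_erase hd),
          M3_d ρ hψ h3 (Finset.ne_of_mem_erase hd), hν, Nat.cast_one, mul_one],
        Finset.sum_const, Finset.card_univ, nsmul_eq_mul, mul_inv_cancel₀ hq]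
  have R : ∑ d : F, ∑ c : F, ∑ a : F, LinearMap.trace ℂ V (av ρ 11 * P3 ρ ψ a c d) =
      ((∑ a : F, M3 ρ ψ a 0 0 : ℕ) : ℂ) + ((Fintype.card F - 1 : ℕ) : ℂ) * (Fintype.card F : ℂ) := by
    rw [sp, Finset.sum_eq_zero (s := (Finset.univ : Finset F).erase 0) fun d hd => ?_, add_zero, sp]
    · congr 1
      · rw [Nat.cast_sum]
        exact Finset.sum_congr rfl fun a _ => by rw [t11, if_pos rfl]
      · rw [Finset.sum_congr rfl (g := fun _ => (Fintype.card F : ℂ)) fun c hc => ?_, Finset.sum_const,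
          hE, nsmul_eq_mul]
        rw [Finset.sum_congr rfl (g := fun _ => (1 : ℂ)) fun a _ => by
          rw [t11, if_pos rfl, M3_c ρ hψ h3 (Finset.ne_of_mem_erase hc), hν, Nat.cast_one],
          Finset.sum_const, Finset.card_univ, nsmul_eq_mul, mul_one]
    · exact Finset.sum_eq_zero fun c _ => Finset.sum_eq_zero fun a _ => by
        rw [t11, if_neg (Finset.ne_of_mem_erase hd)]
  rw [L, R] at e
  have e' := add_right_cancel e
  have : (((Fintype.card F - 1) + (Fintype.card F - 1) ^ 2 * r6 ρ ψ 1 1 +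
      (Fintype.card F - 1) * r6 ρ ψ 1 0 + r6 ρ ψ 0 0 : ℕ) : ℂ) =
        ((∑ a : F, M3 ρ ψ a 0 0 : ℕ) : ℂ) := by
    rw [← e', Nat.cast_add, Nat.cast_add, Nat.cast_add, Nat.cast_mul, Nat.cast_mul, Nat.cast_pow]
    ring
  exact (Nat.cast_injective this).symm

end Cfsg.Agent.SimpleFacts.MinDegG2
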