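import Cfsg.Agent.SimpleFacts.MinDegG2.ThreeMain
import Cfsg.Agent.SimpleFacts.MinDegG2.GenTrace
import Cfsg.Agent.SimpleFacts.MinDegG2.ExcA
import Cfsg.Agent.SimpleFacts.MinDegG2.ExcB
import Cfsg.Agent.SimpleFacts.MinDegExc.Common
import Cfsg.Agent.Lib.Chevalley.Types.SimpleG2
import Cfsg.Agent.Lib.Chevalley.Types.OrderG2

/-!
The smallest degree of a non-trivial irreducible complex representation of the group of type G2.
-/

set_option autoImplicit false
set_option linter.unusedSectionVars false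

namespace Cfsg.Agent.SimpleFacts.MinDegG2

open Cfsg.Lie Cfsg.Agent.SimpleFacts.MinDegExc
open scoped BigOperators

variable {V : Type*} [AddCommGroup V] [Module ℂ V] [FiniteDimensional ℂ V]
variable {F : Type*} [Field F] [Fintype F]

theorem exists_not_cube_one (h5 : 5 ≤ Fintype.card F) : ∃ u : F, u ≠ 0 ∧ u ^ 3 ≠ 1 := by
  classical
  by_contra hcon
  push Not at hcon
  have h : (Finset.univ : Finset F) ⊆ insert 0 (Polynomial.nthRootsFinset 3 (1 : F)) := fun u _ => by
    rcases eq_or_ne u 0 with rfl | hu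
    · exact Finset.mem_insert_self _ _
    · exact Finset.mem_insert_of_mem ((Polynomial.mem_nthRootsFinset (by norm_num) _).2 (hcon u hu))
  have h2 := (Finset.card_le_card h).trans (Finset.card_insert_le _ _)
  have h3 : (Polynomial.nthRootsFinset 3 (1 : F)).card ≤ 3 := by
    rw [Polynomial.nthRootsFinset_def]
    exact (Multiset.toFinset_card_le _).trans (Polynomial.card_nthRoots 3 1)
  rw [Finset.card_univ] at h2
  omega

/-- The bounds away from characteristic three. -/
theorem bound_gen (ρ : Representation ℂ (chevG2.group F) V) [ρ.IsIrreducible]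
    (hne : op ρ 11 (1 : F) ≠ 1) (h5 : 5 ≤ Fintype.card F) (h0 : Fintype.card F % 3 ≠ 0) :
    Fintype.card F ^ 3 - 1 ≤ Module.finrank ℂ V ∧
      (Fintype.card F % 3 = 1 → Fintype.card F ^ 3 + 1 ≤ Module.finrank ℂ V) := by
  obtain ⟨ψ, hψ⟩ := MinDegOrth.exists_psi_ne (F := F)
  have h3 : (3 : F) ≠ 0 := by
    intro h
    obtain ⟨n, hp, hn⟩ := FiniteField.card F (ringChar F)
    have hd : ringChar F ∣ 3 := ringChar.dvd (by exact_mod_cast h)
    rw [(Nat.prime_dvd_prime_iff_eq hp Nat.prime_three).1 hd] at hn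
    obtain ⟨w, hw⟩ : 3 ∣ Fintype.card F := hn ▸ dvd_pow_self 3 n.pos.ne'
    omega
  have hk := finrank_gen ρ hψ h3
  have hpos := nu3_pos ρ hψ h3 hne
  obtain ⟨m, hm⟩ : ∃ m, Fintype.card F = m + 1 := ⟨Fintype.card F - 1, by omega⟩
  rcases eq_or_lt_of_le hpos with hν | hν
  · have hu := exists_not_cube_one h5
    have hs := sum_top ρ hψ h3 hν.symm hu
    rw [← hν, mul_one, hs, hm, Nat.add_sub_cancel] at hk
    rw [hm] at h5 h0 ⊢
    have e : (m + 1) ^ 3 - 1 = m * ((m + 1) * (m + 1)) + m * (m + 1) + m :=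
      Nat.sub_eq_of_eq_add (by ring)
    refine ⟨by omega, fun h1 => ?_⟩
    by_contra hlt
    push Not at hlt
    have hc11 : m ^ 2 * r6 ρ ψ 1 1 = 0 ∧ m * r6 ρ ψ 1 0 = 0 := by
      constructor
      · rcases Nat.eq_zero_or_pos (r6 ρ ψ 1 1) with h | h
        · rw [h, mul_zero]
        · have : m ^ 2 * 1 ≤ m ^ 2 * r6 ρ ψ 1 1 := Nat.mul_le_mul_left _ h
          have : 4 * 4 ≤ m ^ 2 := by nlinarith
          omega
      · rcases Nat.eq_zero_or_pos (r6 ρ ψ 1 0) with h | h
        · rw [h, mul_zero]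
        · have : m * 1 ≤ m * r6 ρ ψ 1 0 := Nat.mul_le_mul_left _ h
          omega
    rw [hc11.1, hc11.2, add_zero, add_zero] at hk
    rcases Nat.eq_zero_or_pos (r6 ρ ψ 0 0) with h00 | h00
    · refine excA ρ hψ h3 (by omega) (by omega) hν.symm ?_ (by rw [hm]; omega)
      rw [hs, hm, Nat.add_sub_cancel, hc11.1, hc11.2, h00]
      omega
    · refine excB ρ hψ (by omega) (by omega) (by omega) ?_
      rw [hm]
      omega
  · rw [hm, Nat.add_sub_cancel] at hk
    rw [hm] at h5 h0 ⊢
    have h1 : m * ((m + 1) * ((m + 1) * 2)) ≤ Module.finrank ℂ V := by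
      rw [hk]
      refine le_trans ?_ (le_trans (Nat.le_add_right _ _) (Nat.le_add_right _ _))
      gcongr
      exact hν
    have h2 : (m + 1) ^ 3 + 1 ≤ m * ((m + 1) * ((m + 1) * 2)) := by
      obtain ⟨r, rfl⟩ : ∃ r, m = r + 4 := ⟨m - 4, by omega⟩
      ring_nf
      omega
    exact ⟨by omega, fun _ => by omega⟩

theorem xe_ne_one (r : Fin 12) : xe r (1 : F) ≠ 1 := fun e => by
  have h : Cfsg.Agent.Chevalley.Group.xg hC r.val (1 : F) =
      Cfsg.Agent.Chevalley.Group.xg hC r.val (0 : F) := by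
    rw [← coe_xe, ← coe_xe, e, xe_zero]
  exact one_ne_zero (Cfsg.Agent.Chevalley.Borel.xg_injective hC r.2 h)

/-- The minimal degrees. -/
theorem g2_min (k : ℕ) (ρ : Representation ℂ (chevG2.group F) (Fin k → ℂ)) (hρ : ρ.IsIrreducible)
    (hk : 2 ≤ k) :
    (Fintype.card F % 3 = 1 → 4 < Fintype.card F → Fintype.card F ^ 3 + 1 ≤ k) ∧
    (Fintype.card F % 3 = 2 → 2 < Fintype.card F → Fintype.card F ^ 3 - 1 ≤ k) ∧
    (Fintype.card F % 3 = 0 → 3 < Fintype.card F →
      Fintype.card F ^ 4 + Fintype.card F ^ 2 + 1 ≤ k) := by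
  have hfin : Module.finrank ℂ (Fin k → ℂ) = k := by
    rw [Module.finrank_fintype_fun_eq_card, Fintype.card_fin]
  have hne : 3 ≤ Fintype.card F → ∀ r : Fin 12, op ρ r (1 : F) ≠ 1 := by
    intro hq r e
    have ha : ∃ a : F, a ≠ 0 ∧ a ≠ 1 := by
      classical
      by_contra h
      push Not at h
      have := (Finset.card_le_card (s := (Finset.univ : Finset F)) (t := {0, 1}) fun x _ => by
        by_cases hx : x = 0
        · simp [hx]
        · simp [h x hx]).trans Finset.card_le_two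
      rw [Finset.card_univ] at this
      omega
    have := (Cfsg.Agent.Chevalley.Types.SimpleG2.simple_group F ha).1
    obtain ⟨g, hg⟩ := exists_ne_one ρ hρ hk
    have hbot : MonoidHom.ker ρ = ⊥ :=
      (Subgroup.Normal.eq_bot_or_eq_top (H := MonoidHom.ker ρ) inferInstance).resolve_right
        fun htop => hg ((MonoidHom.mem_ker (f := ρ)).1 (htop ▸ Subgroup.mem_top g))
    have hmem : xe r (1 : F) ∈ MonoidHom.ker ρ := MonoidHom.mem_ker.2 e
    rw [hbot, Subgroup.mem_bot] at hmem
    exact xe_ne_one r hmem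
  have := hρ
  refine ⟨fun h1 h4 => ?_, fun h2 h3 => ?_, fun h0 h3 => ?_⟩
  · have := (bound_gen ρ (hne (by omega) 11) (by omega) (by omega)).2 h1
    rwa [hfin] at this
  · have := (bound_gen ρ (hne (by omega) 11) (by omega) (by omega)).1
    rwa [hfin] at this
  · have hd : k ∣ Fintype.card F ^ 6 * (Fintype.card F ^ 2 - 1) * (Fintype.card F ^ 6 - 1) := by
      have hG := Cfsg.Agent.Chevalley.Types.OrderG2.card_group F
      rw [Finset.prod_eq_one fun i _ => by
        fin_cases i <;> simp [Cfsg.Agent.Chevalley.Types.OrderG2.ed], one_mul] at hG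
      simp only [List.map_cons, List.map_nil, List.prod_cons, List.prod_nil, mul_one] at hG
      refine degree_dvd_of ρ hρ (c := 1) ?_
      rw [one_mul, hG, mul_assoc]
    have := bound_three ρ (hne (by omega)) h0 h3 (by rwa [hfin])
    rwa [hfin] at this

end Cfsg.Agent.SimpleFacts.MinDegG2
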