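import Cfsg.Agent.SimpleFacts.MinDegTriality.Arith

/-!
Numbers just below `q⁴ + q² + 1` do not divide the order of G2, for `q` a power of three.
-/

set_option autoImplicit false

namespace Cfsg.Agent.SimpleFacts.MinDegG2

open Cfsg.Agent.SimpleFacts.MinDegTriality (gcd_dvd_comb dvd_of_gcd)

theorem gcd_dvd_int {m a : ℕ} (u v : ℤ) {z : ℤ} (h : u * (m : ℤ) + v * (a : ℤ) = z) :
    Nat.gcd m a ∣ z.natAbs := by
  rw [← Int.natCast_dvd, ← h]
  exact dvd_add (dvd_mul_of_dvd_right (Int.natCast_dvd_natCast.2 (Nat.gcd_dvd_left m a)) _)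
    (dvd_mul_of_dvd_right (Int.natCast_dvd_natCast.2 (Nat.gcd_dvd_right m a)) _)

theorem order_factor {q : ℕ} (hq : 1 ≤ q) :
    q ^ 6 * (q ^ 2 - 1) * (q ^ 6 - 1) =
      q ^ 6 * ((q ^ 2 - 1) * ((q ^ 2 - 1) * (q ^ 4 + q ^ 2 + 1))) := by
  obtain ⟨a, ha⟩ : ∃ a, q ^ 2 = a + 1 := ⟨q ^ 2 - 1, (Nat.sub_add_cancel (Nat.one_le_pow _ _ hq)).symm⟩
  rw [show q ^ 6 - 1 = (q ^ 2 - 1) * (q ^ 4 + q ^ 2 + 1) from by
    rw [show q ^ 6 = q ^ 2 * q ^ 2 * q ^ 2 by ring, show q ^ 4 = q ^ 2 * q ^ 2 by ring, ha,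
      Nat.add_sub_cancel]
    exact Nat.sub_eq_of_eq_add (by ring)]
  ring

theorem reduce_dvd {N x y q : ℕ} (hq : 1 ≤ q) {g h : ℕ}
    (hd : N ∣ x * ((q ^ 2 - 1) * ((q ^ 2 - 1) * y)))
    (g1 : Nat.gcd N (q ^ 2 - 1) ∣ g) (g2 : Nat.gcd N y ∣ h) : N ∣ h * (g * (g * x)) := by
  rw [mul_left_comm] at hd
  have a := dvd_of_gcd hd g1
  rw [show g * (x * ((q ^ 2 - 1) * y)) = (q ^ 2 - 1) * (y * (g * x)) by ring] at a
  have b := dvd_of_gcd a g1
  rw [mul_left_comm] at b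
  exact dvd_of_gcd b g2

theorem cast_sq_sub {q : ℕ} (hq : 1 ≤ q) : ((q ^ 2 - 1 : ℕ) : ℤ) = (q : ℤ) ^ 2 - 1 := by
  push_cast [Nat.cast_sub (Nat.one_le_pow 2 q hq)]
  ring

/-- The degrees just below the bound. -/
theorem not_dvd_three {f j : ℕ} (hf : 2 ≤ f) (hj : j ≤ 3 ^ f + 2) :
    ¬ (3 ^ f) ^ 4 + (3 ^ f) ^ 2 - j ∣
      (3 ^ f) ^ 6 * ((3 ^ f) ^ 2 - 1) * ((3 ^ f) ^ 6 - 1) := by
  intro hd
  obtain ⟨q, hq⟩ : ∃ q, q = 3 ^ f := ⟨_, rfl⟩
  rw [← hq] at hj hd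
  have h9 : 9 ≤ q := by rw [hq]; exact le_trans (by norm_num) (Nat.pow_le_pow_right (by norm_num) hf)
  rw [order_factor (by omega)] at hd
  obtain ⟨N, hN⟩ : ∃ N, N = q ^ 4 + q ^ 2 - j := ⟨_, rfl⟩
  rw [← hN] at hd
  have h81 : 81 ≤ q ^ 2 := by nlinarith
  have h44 : 81 * q ^ 2 ≤ q ^ 4 := by nlinarith
  have hqq : q + 2 ≤ q ^ 2 := by nlinarith
  have hNj : N + j = q ^ 4 + q ^ 2 := by omega
  have hN4 : q ^ 4 ≤ N := by omega
  have hZ : (N : ℤ) = (q : ℤ) ^ 4 + (q : ℤ) ^ 2 - j := by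
    have : ((N + j : ℕ) : ℤ) = ((q ^ 4 + q ^ 2 : ℕ) : ℤ) := by rw [hNj]
    push_cast at this
    linarith
  have hc := cast_sq_sub (q := q) (by omega)
  obtain ⟨M, hM⟩ : ∃ M, M = q ^ 4 + q ^ 2 + 1 := ⟨_, rfl⟩
  rw [← hM] at hd
  have hMZ : (M : ℤ) = (q : ℤ) ^ 4 + (q : ℤ) ^ 2 + 1 := by rw [hM]; push_cast; ring
  have g1 : Nat.gcd N (q ^ 2 - 1) ∣ (2 - (j : ℤ)).natAbs :=
    gcd_dvd_int 1 (-((q : ℤ) ^ 2 + 2)) (by rw [hZ, hc]; ring)
  have g2 : Nat.gcd N M ∣ j + 1 := by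
    have := gcd_dvd_int (m := N) (a := M) (-1) 1 (z := (j : ℤ) + 1) (by rw [hZ, hMZ]; ring)
    rwa [show ((j : ℤ) + 1).natAbs = j + 1 by omega] at this
  rcases eq_or_ne j 0 with rfl | hj0
  · -- `N = q ^ 2 * (q ^ 2 + 1)`
    have e : q ^ 2 + 1 ∣ N := ⟨q ^ 2, by
      have : q ^ 4 + q ^ 2 = (q ^ 2 + 1) * q ^ 2 := by ring
      omega⟩
    have hd' := e.trans hd
    have a1 : Nat.gcd (q ^ 2 + 1) (q ^ 6) ∣ 1 := by
      have : Nat.Coprime (q ^ 2 + 1) q := Nat.dvd_one.1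
        (gcd_dvd_comb 1 (-(q : ℤ)) 1 (by push_cast; ring))
      exact (Nat.Coprime.pow_right 6 this).dvd
    have a2 : Nat.gcd (q ^ 2 + 1) (q ^ 2 - 1) ∣ 2 :=
      gcd_dvd_comb 1 (-1) 2 (by rw [hc]; push_cast; ring)
    have a3 : Nat.gcd (q ^ 2 + 1) M ∣ 1 :=
      gcd_dvd_comb (-((q : ℤ) ^ 2)) 1 1 (by rw [hMZ]; push_cast; ring)
    have h1 := dvd_of_gcd hd' a1
    have := Nat.le_of_dvd (by norm_num) (reduce_dvd (q := q) (x := 1) (by omega) h1 a2 a3)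
    omega
  rcases eq_or_ne j 2 with rfl | hj2
  · -- `N = (q ^ 2 - 1) * (q ^ 2 + 2)`
    have e : q ^ 2 + 2 ∣ N := ⟨q ^ 2 - 1, by
      zify [Nat.one_le_pow 2 q (by omega)]
      rw [hZ]; ring⟩
    have hd' := e.trans hd
    have h3q : q % 3 = 0 := by
      obtain ⟨w, hw⟩ : 3 ∣ q := hq ▸ dvd_pow_self 3 (by omega)
      omega
    have n3 : ¬ 3 ∣ q ^ 2 + 2 := by
      intro h
      have : 3 ∣ q ^ 2 := dvd_pow (Nat.dvd_of_mod_eq_zero h3q) two_ne_zero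
      omega
    have one : ∀ d : ℕ, d ∣ 3 → d ∣ q ^ 2 + 2 → d ∣ 1 := fun d h1 h2 => by
      rcases (Nat.dvd_prime Nat.prime_three).1 h1 with rfl | rfl
      · exact dvd_rfl
      · exact absurd h2 n3
    have a1 : Nat.gcd (q ^ 2 + 2) (q ^ 6) ∣ 1 := by
      have h2 : Nat.gcd (q ^ 2 + 2) q ∣ 2 := gcd_dvd_comb 1 (-(q : ℤ)) 2 (by push_cast; ring)
      have hq2 : ¬ 2 ∣ q := by
        rw [hq]; intro h
        exact absurd (Nat.Prime.dvd_of_dvd_pow Nat.prime_two h) (by norm_num)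
      have : Nat.Coprime (q ^ 2 + 2) q := by
        rcases (Nat.dvd_prime Nat.prime_two).1 h2 with h | h
        · exact h
        · exact absurd (h ▸ Nat.gcd_dvd_right (q ^ 2 + 2) q) hq2
      exact (Nat.Coprime.pow_right 6 this).dvd
    have a2 : Nat.gcd (q ^ 2 + 2) (q ^ 2 - 1) ∣ 1 :=
      one _ (gcd_dvd_comb 1 (-1) 3 (by rw [hc]; push_cast; ring)) (Nat.gcd_dvd_left _ _)
    have a3 : Nat.gcd (q ^ 2 + 2) M ∣ 1 :=
      one _ (gcd_dvd_comb (-((q : ℤ) ^ 2 - 1)) 1 3 (by rw [hMZ]; push_cast; ring))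
        (Nat.gcd_dvd_left _ _)
    have h1 := dvd_of_gcd hd' a1
    have := Nat.le_of_dvd (by norm_num) (reduce_dvd (q := q) (x := 1) (by omega) h1 a2 a3)
    omega
  -- the gcd with the power of three
  have hnat : (2 - (j : ℤ)).natAbs ≤ j := by omega
  by_cases hqN : q ∣ N
  · have hqj : q ∣ j := by
      have : q ∣ N + j := by rw [hNj]; exact dvd_add (dvd_pow_self q (by norm_num)) (dvd_pow_self q (by norm_num))
      exact (Nat.dvd_add_right hqN).1 this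
    obtain ⟨i, rfl⟩ := hqj
    obtain rfl : i = 1 := by
      rcases Nat.lt_or_ge i 2 with h | h
      · rcases (by omega : i = 0 ∨ i = 1) with rfl | rfl
        · simp at hj0
        · rfl
      · have : q * 2 ≤ q * i := Nat.mul_le_mul_left q h
        omega
    rw [mul_one] at *
    obtain ⟨N', hN'⟩ := hqN
    have hN'1 : N' + 1 = q ^ 3 + q := Nat.eq_of_mul_eq_mul_left (by omega : 0 < q) (by
      rw [mul_add, ← hN', mul_one, hNj]; ring)
    have hco : Nat.gcd N' (q ^ 6) ∣ 1 := by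
      have : Nat.Coprime N' q := Nat.dvd_one.1 (gcd_dvd_comb (-1) ((q : ℤ) ^ 2 + 1) 1 (by
        have : (N' : ℤ) + 1 = (q : ℤ) ^ 3 + q := by exact_mod_cast hN'1
        linear_combination -this))
      exact (Nat.Coprime.pow_right 6 this).dvd
    have hsub : N' ∣ N := Dvd.intro_left q hN'.symm
    have h1 := dvd_of_gcd (hsub.trans hd) hco
    have h2 := reduce_dvd (q := q) (x := 1) (by omega) h1
      ((Nat.gcd_dvd_gcd_of_dvd_left _ hsub).trans g1) ((Nat.gcd_dvd_gcd_of_dvd_left _ hsub).trans g2)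
    rw [show (2 - (q : ℤ)).natAbs = q - 2 by omega, mul_one] at h2
    have h3 := Nat.le_of_dvd (Nat.mul_pos (by omega) (Nat.mul_pos (by omega) (by omega))) h2
    obtain ⟨r, rfl⟩ : ∃ r, q = r + 2 := ⟨q - 2, by omega⟩
    rw [Nat.add_sub_cancel] at h3
    nlinarith
  have hP : Nat.gcd N (q ^ 6) ∣ Nat.gcd j q := by
    have h1 := Nat.gcd_dvd_right N (q ^ 6)
    rw [hq, ← pow_mul] at h1
    obtain ⟨i, -, hi⟩ := (Nat.dvd_prime_pow Nat.prime_three).1 h1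
    have hiN : 3 ^ i ∣ N := by rw [← hi]; exact Nat.gcd_dvd_left _ _
    have hif : i < f := by
      by_contra h
      exact hqN (hq ▸ (Nat.pow_dvd_pow 3 (not_lt.1 h)).trans hiN)
    have hiq : 3 ^ i ∣ q := hq ▸ Nat.pow_dvd_pow 3 hif.le
    rw [hq, ← pow_mul, hi, ← hq]
    refine Nat.dvd_gcd ?_ hiq
    have : 3 ^ i ∣ N + j := by
      rw [hNj]
      exact dvd_add (hiq.trans (dvd_pow_self q (by norm_num))) (hiq.trans (dvd_pow_self q (by norm_num)))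
    exact (Nat.dvd_add_right hiN).1 this
  have h1 := dvd_of_gcd hd hP
  have h2 := reduce_dvd (q := q) (by omega) h1 g1 g2
  have hg : Nat.gcd j q * (2 - (j : ℤ)).natAbs ^ 2 * (j + 1) < q ^ 4 := by
    rcases Nat.lt_or_ge j q with hlt | hge
    · have a := Nat.le_of_dvd (by omega) (Nat.gcd_dvd_left j q)
      calc Nat.gcd j q * (2 - (j : ℤ)).natAbs ^ 2 * (j + 1)
          ≤ j * j ^ 2 * q := by gcongr; omega
        _ < q * q ^ 2 * q := by
          gcongr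
        _ = q ^ 4 := by ring
    · have hco : Nat.gcd j q = 1 := by
        have hne : j ≠ q := fun e => hqN (by
          have : q ∣ N + j := by
            rw [hNj]; exact dvd_add (dvd_pow_self q (by norm_num)) (dvd_pow_self q (by norm_num))
          exact (Nat.dvd_add_left (e ▸ dvd_rfl)).1 this)
        have h3 : 3 ∣ q := hq ▸ dvd_pow_self 3 (by omega)
        have : Nat.Coprime 3 j := Nat.prime_three.coprime_iff_not_dvd.2 fun h => by
          obtain ⟨w, rfl⟩ := h3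
          obtain ⟨w', rfl⟩ := h
          omega
        have := (this.pow_left f).symm
        rw [← hq] at this
        exact this
      have e : (2 - (j : ℤ)).natAbs ≤ q := by omega
      rw [hco, one_mul]
      calc (2 - (j : ℤ)).natAbs ^ 2 * (j + 1) ≤ q ^ 2 * (q + 3) :=
            Nat.mul_le_mul (Nat.pow_le_pow_left e 2) (by omega)
        _ < q ^ 4 := by nlinarith
  have hpos : 0 < (j + 1) * ((2 - (j : ℤ)).natAbs * ((2 - (j : ℤ)).natAbs * Nat.gcd j q)) :=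
    Nat.mul_pos (by omega) (Nat.mul_pos (by omega) (Nat.mul_pos (by omega)
      (Nat.gcd_pos_of_pos_right _ (by omega))))
  have h3 := Nat.le_of_dvd hpos h2
  rw [show Nat.gcd j q * (2 - (j : ℤ)).natAbs ^ 2 * (j + 1) =
    (j + 1) * ((2 - (j : ℤ)).natAbs * ((2 - (j : ℤ)).natAbs * Nat.gcd j q)) by ring] at hg
  omega

end Cfsg.Agent.SimpleFacts.MinDegG2
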