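import Cfsg.Agent.SimpleFacts.MinDegG2.Three

/-!
Characteristic different from three: the characters of the abelian group on the roots 9, 10, 11.
-/

set_option autoImplicit false
set_option linter.unusedSectionVars false

namespace Cfsg.Agent.SimpleFacts.MinDegG2

open Cfsg.Lie Cfsg.Agent.SimpleFacts.MinDegExc
open scoped BigOperators

variable {V : Type*} [AddCommGroup V] [Module ℂ V] [FiniteDimensional ℂ V]
variable {F : Type*} [Field F] [Fintype F] (ρ : Representation ℂ (chevG2.group F) V)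
variable {ψ : AddChar F ℂ} (hψ : ψ ≠ 1)

/-- The roots 9, 10, 11. -/
def R3 : Fin 3 → Fin 12 := ![9, 10, 11]

theorem fam3 : Fam fun b t => op ρ (R3 b) t where
  zero b := op_zero ρ _
  add b := op_add ρ _
  comm b c := op_comm ρ (by revert b c; decide +kernel)

/-- The projections. -/
noncomputable def P3 (ψ : AddChar F ℂ) (a c d : F) : Module.End ℂ V := (fam3 ρ).P ψ ![a, c, d]

/-- The multiplicities. -/
noncomputable def M3 (ψ : AddChar F ℂ) (a c d : F) : ℕ := (fam3 ρ).m ψ ![a, c, d]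

theorem M3_eq_rk (a c d : F) : M3 ρ ψ a c d = rk (P3 ρ ψ a c d) := rfl

theorem P3_9 (a c d t : F) : op ρ 9 t * P3 ρ ψ a c d = ψ (a * t) • P3 ρ ψ a c d :=
  (fam3 ρ).X_mul_P ![a, c, d] 0 t

theorem P3_10 (a c d t : F) : op ρ 10 t * P3 ρ ψ a c d = ψ (c * t) • P3 ρ ψ a c d :=
  (fam3 ρ).X_mul_P ![a, c, d] 1 t

theorem P3_11 (a c d t : F) : op ρ 11 t * P3 ρ ψ a c d = ψ (d * t) • P3 ρ ψ a c d :=
  (fam3 ρ).X_mul_P ![a, c, d] 2 t

include hψ

theorem P3_idem (a c d : F) : P3 ρ ψ a c d * P3 ρ ψ a c d = P3 ρ ψ a c d := (fam3 ρ).P_idem hψ _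

/-! ### The moves -/

theorem m8 (t : F) :
    Moves (fam3 ρ) ψ (ρ (xe 8 t)) fun z => ![z 0 - 3 * t * z 2, z 1, z 2] := by
  refine moves_of ρ _ (fun z z' e => ?_) fun z b v => ?_
  · have e0 : z 0 - 3 * t * z 2 = z' 0 - 3 * t * z' 2 := congrFun e 0
    have e1 : z 1 = z' 1 := congrFun e 1
    have e2 : z 2 = z' 2 := congrFun e 2
    rw [e2] at e0
    rw [← eta3 z, ← eta3 z', e1, e2, sub_left_injective e0]
  have e : (xe 8 t)⁻¹ * xe (R3 b) v * xe 8 t =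
      ![xe 9 v * xe 11 (-3 * t * v), xe 10 v, xe 11 v] b := by
    fin_cases b
    · show (xe 8 t)⁻¹ * xe 9 v * xe 8 t = xe 9 v * xe 11 (-3 * t * v)
      have h := conj_8_9 (-t) v
      rw [← xe_inv, inv_inv] at h
      rw [h]
      congr 2
      ring
    · show (xe 8 t)⁻¹ * xe 10 v * xe 8 t = xe 10 v
      rw [mul_assoc, ← (xe_comm (r := 8) (s := 10) (by decide +kernel) t v).eq, inv_mul_cancel_left]
    · show (xe 8 t)⁻¹ * xe 11 v * xe 8 t = xe 11 v
      rw [mul_assoc, ← (xe_comm (r := 8) (s := 11) (by decide +kernel) t v).eq, inv_mul_cancel_left]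
  rw [e]
  fin_cases b
  · show ρ (xe 9 v * xe 11 (-3 * t * v)) * _ = ψ ((z 0 - 3 * t * z 2) * v) • _
    rw [map_mul]
    refine (eig_mul ((fam3 ρ).X_mul_P z 0 v) ((fam3 ρ).X_mul_P z 2 (-3 * t * v))).trans ?_
    rw [← AddChar.map_add_eq_mul]
    congr 2
    ring
  · exact (fam3 ρ).X_mul_P z 1 v
  · exact (fam3 ρ).X_mul_P z 2 v

theorem m6 (u : F) : Moves (fam3 ρ) ψ (ρ (xe 6 u)) fun z => ![z 0, z 1 - u * z 2, z 2] := by
  refine moves_of ρ _ (fun z z' e => ?_) fun z b v => ?_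
  · have e0 : z 0 = z' 0 := congrFun e 0
    have e1 : z 1 - u * z 2 = z' 1 - u * z' 2 := congrFun e 1
    have e2 : z 2 = z' 2 := congrFun e 2
    rw [e2] at e1
    rw [← eta3 z, ← eta3 z', e0, e2, sub_left_injective e1]
  have e : (xe 6 u)⁻¹ * xe (R3 b) v * xe 6 u =
      ![xe 9 v, xe 10 v * xe 11 (-u * v), xe 11 v] b := by
    fin_cases b
    · show (xe 6 u)⁻¹ * xe 9 v * xe 6 u = xe 9 v
      rw [mul_assoc, ← (xe_comm (r := 6) (s := 9) (by decide +kernel) u v).eq, inv_mul_cancel_left]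
    · show (xe 6 u)⁻¹ * xe 10 v * xe 6 u = xe 10 v * xe 11 (-u * v)
      rw [← conj_6_10, ← xe_inv, inv_inv]
    · show (xe 6 u)⁻¹ * xe 11 v * xe 6 u = xe 11 v
      rw [mul_assoc, ← (xe_comm (r := 6) (s := 11) (by decide +kernel) u v).eq, inv_mul_cancel_left]
  rw [e]
  fin_cases b
  · exact (fam3 ρ).X_mul_P z 0 v
  · show ρ (xe 10 v * xe 11 (-u * v)) * _ = ψ ((z 1 - u * z 2) * v) • _
    rw [map_mul]
    refine (eig_mul ((fam3 ρ).X_mul_P z 1 v) ((fam3 ρ).X_mul_P z 2 (-u * v))).trans ?_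
    rw [← AddChar.map_add_eq_mul]
    congr 2
    ring
  · exact (fam3 ρ).X_mul_P z 2 v

theorem mte (i : Fin 2) {u : F} (hu : u ≠ 0) :
    Moves (fam3 ρ) ψ (ρ (te i u⁻¹)) fun z b => u ^ chevG2.cartan i.val (R3 b).val * z b := by
  refine moves_of ρ _ (fun z z' e => funext fun b => ?_) fun z b v => ?_
  · exact mul_left_cancel₀ (zpow_ne_zero _ hu) (congrFun e b)
  rw [te_conj' i (R3 b) hu]
  refine ((fam3 ρ).X_mul_P z b _).trans ?_
  congr 2
  ring

omit hψ in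
theorem cartan_R3 : ∀ b : Fin 3, (chevG2.cartan 0 (R3 b).val, chevG2.cartan 1 (R3 b).val) =
    (![(1, 0), (3, -1), (0, 1)] : Fin 3 → ℤ × ℤ) b := by
  decide +kernel

theorem mte0 {u : F} (hu : u ≠ 0) :
    Moves (fam3 ρ) ψ (ρ (te 0 u⁻¹)) fun z => ![u * z 0, u ^ 3 * z 1, z 2] := by
  convert mte ρ hψ 0 hu using 1
  funext z b
  have hc := congrArg Prod.fst (cartan_R3 b)
  simp only at hc
  simp only [Fin.val_zero, hc]
  fin_cases b <;> simp [zpow_ofNat]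

theorem mte1 {u : F} (hu : u ≠ 0) :
    Moves (fam3 ρ) ψ (ρ (te 1 u⁻¹)) fun z => ![z 0, u⁻¹ * z 1, u * z 2] := by
  convert mte ρ hψ 1 hu using 1
  funext z b
  have hc := congrArg Prod.snd (cartan_R3 b)
  simp only at hc
  simp only [Fin.val_one, hc]
  fin_cases b <;> simp

theorem M3_te0 {u : F} (hu : u ≠ 0) (a c d : F) :
    M3 ρ ψ (u * a) (u ^ 3 * c) d = M3 ρ ψ a c d := by
  have := m_moves ρ hψ (mte0 ρ hψ hu) ![a, c, d]
  simpa [M3] using this

theorem M3_te1 {u : F} (hu : u ≠ 0) (a c d : F) :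
    M3 ρ ψ a (u⁻¹ * c) (u * d) = M3 ρ ψ a c d := by
  have := m_moves ρ hψ (mte1 ρ hψ hu) ![a, c, d]
  simpa [M3] using this

/-- The multiplicity of the characters non-trivial on the root 11. -/
noncomputable def nu3 (ψ : AddChar F ℂ) : ℕ := M3 ρ ψ 0 0 1

theorem M3_d (h3 : (3 : F) ≠ 0) {d : F} (hd : d ≠ 0) (a c : F) :
    M3 ρ ψ a c d = nu3 ρ ψ := by
  have e1 : M3 ρ ψ (a - 3 * (a / (3 * d)) * d) c d = M3 ρ ψ a c d := by
    have := m_moves ρ hψ (m8 ρ hψ (a / (3 * d))) ![a, c, d]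
    simpa [M3] using this
  have e2 : M3 ρ ψ 0 (c - c / d * d) d = M3 ρ ψ 0 c d := by
    have := m_moves ρ hψ (m6 ρ hψ (c / d)) ![0, c, d]
    simpa [M3] using this
  rw [show a - 3 * (a / (3 * d)) * d = 0 by field_simp; ring] at e1
  rw [show c - c / d * d = 0 by field_simp; ring] at e2
  rw [← e1, ← e2, nu3, ← M3_te1 ρ hψ hd 0 0 1]
  simp

theorem M3_c (h3 : (3 : F) ≠ 0) {c : F} (hc : c ≠ 0) (a : F) : M3 ρ ψ a c 0 = nu3 ρ ψ := by
  obtain ⟨e9, h9, c9⟩ := ne1_conj (F := F) 1 9 (s := 9) (by decide +kernel)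
  obtain ⟨e10, h10, c10⟩ := ne1_conj (F := F) 1 10 (s := 11) (by decide +kernel)
  obtain ⟨e11, h11, c11⟩ := ne1_conj (F := F) 1 11 (s := 10) (by decide +kernel)
  have nz : ∀ η : F, η = 1 ∨ η = -1 → η * η = 1 := fun η h => by rcases h with rfl | rfl <;> ring
  have ne : ∀ η : F, η = 1 ∨ η = -1 → η ≠ 0 := fun η h => by rcases h with rfl | rfl <;> simp
  have pull : ∀ (r s : Fin 12) (η : F), η * η = 1 →
      (∀ t, ne1 1 * xe r t * (ne1 1)⁻¹ = xe s (η * t)) →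
      ∀ v, (ne1 1 : chevG2.group F)⁻¹ * xe s v * ne1 1 = xe r (η * v) := by
    intro r s η hη hc v
    have := hc (η * v)
    rw [← mul_assoc η, hη, one_mul] at this
    rw [← this]
    group
  have hm : Moves (fam3 ρ) ψ (ρ (ne1 1)) fun z => ![e9 * z 0, e11 * z 2, e10 * z 1] := by
    refine moves_of ρ _ (fun z z' e => ?_) fun z b v => ?_
    · have e0 : e9 * z 0 = e9 * z' 0 := congrFun e 0
      have e1 : e11 * z 2 = e11 * z' 2 := congrFun e 1
      have e2 : e10 * z 1 = e10 * z' 1 := congrFun e 2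
      rw [← eta3 z, ← eta3 z', mul_left_cancel₀ (ne _ h9) e0, mul_left_cancel₀ (ne _ h11) e1,
        mul_left_cancel₀ (ne _ h10) e2]
    fin_cases b
    · show ρ ((ne1 1)⁻¹ * xe 9 v * ne1 1) * _ = ψ (e9 * z 0 * v) • _
      rw [pull 9 9 e9 (nz _ h9) c9]
      refine ((fam3 ρ).X_mul_P z 0 _).trans ?_
      congr 2; ring
    · show ρ ((ne1 1)⁻¹ * xe 10 v * ne1 1) * _ = ψ (e11 * z 2 * v) • _
      rw [pull 11 10 e11 (nz _ h11) c11]
      refine ((fam3 ρ).X_mul_P z 2 _).trans ?_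
      congr 2; ring
    · show ρ ((ne1 1)⁻¹ * xe 11 v * ne1 1) * _ = ψ (e10 * z 1 * v) • _
      rw [pull 10 11 e10 (nz _ h10) c10]
      refine ((fam3 ρ).X_mul_P z 1 _).trans ?_
      congr 2; ring
  have := m_moves ρ hψ hm ![a, c, 0]
  simp only [Matrix.cons_val_zero, Matrix.cons_val_one, Matrix.cons_val_two, Matrix.tail_cons,
    Matrix.head_cons, mul_zero] at this
  rw [← M3_d ρ hψ h3 (mul_ne_zero (ne _ h10) hc) (e9 * a) 0]
  exact this.symm

theorem comm6_P3 (t a c : F) : Commute (op ρ 6 t) (P3 ρ ψ a c 0) :=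
  (m6 ρ hψ t).commute hψ (funext fun i => by fin_cases i <;> simp)

omit hψ in
theorem sum3 {R : Type*} [AddCommMonoid R] (f : (Fin 3 → F) → R) :
    ∑ z : Fin 3 → F, f z = ∑ d : F, ∑ c : F, ∑ a : F, f ![a, c, d] := by
  simp only [← Fintype.sum_prod_type']
  exact Fintype.sum_equiv ⟨fun z => (z 2, z 1, z 0), fun p => ![p.2.2, p.2.1, p.1],
    fun z => eta3 z, fun _ => rfl⟩ _ _ fun z => by
      show f z = f ![z 0, z 1, z 2]
      rw [eta3]

open _root_.Classical in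
/-- The degree in terms of the multiplicities. -/
theorem finrank_gen (h3 : (3 : F) ≠ 0) :
    Module.finrank ℂ V = (Fintype.card F - 1) * (Fintype.card F * (Fintype.card F * nu3 ρ ψ)) +
      (Fintype.card F - 1) * (Fintype.card F * nu3 ρ ψ) + ∑ a : F, M3 ρ ψ a 0 0 := by
  have hE : ((Finset.univ : Finset F).erase 0).card = Fintype.card F - 1 := by
    rw [Finset.card_erase_of_mem (Finset.mem_univ _), Finset.card_univ]
  rw [← (fam3 ρ).sum_m hψ, sum3, ← Finset.add_sum_erase _ _ (Finset.mem_univ (0 : F)),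
    ← Finset.add_sum_erase _ _ (Finset.mem_univ (0 : F)),
    Finset.sum_congr rfl (s₁ := (Finset.univ : Finset F).erase 0)
      (g := fun _ => Fintype.card F * nu3 ρ ψ) fun c hc => ?_,
    Finset.sum_const,
    Finset.sum_congr rfl (s₁ := (Finset.univ : Finset F).erase 0)
      (g := fun _ => Fintype.card F * (Fintype.card F * nu3 ρ ψ)) fun d hd => ?_,
    Finset.sum_const, hE, smul_eq_mul, smul_eq_mul]
  · show ∑ a : F, M3 ρ ψ a 0 0 + _ + _ = _
    ring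
  · show ∑ c : F, ∑ a : F, M3 ρ ψ a c d = _
    rw [Finset.sum_congr rfl (g := fun _ => Fintype.card F * nu3 ρ ψ) fun c _ => ?_,
      Finset.sum_const, Finset.card_univ, smul_eq_mul]
    rw [Finset.sum_congr rfl (g := fun _ => nu3 ρ ψ) fun a _ =>
      M3_d ρ hψ h3 (Finset.ne_of_mem_erase hd) a c, Finset.sum_const, Finset.card_univ, smul_eq_mul]
  · show ∑ a : F, M3 ρ ψ a c 0 = _
    rw [Finset.sum_congr rfl (g := fun _ => nu3 ρ ψ) fun a _ =>
      M3_c ρ hψ h3 (Finset.ne_of_mem_erase hc) a, Finset.sum_const, Finset.card_univ, smul_eq_mul]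

theorem nu3_pos (h3 : (3 : F) ≠ 0) (hne : op ρ 11 (1 : F) ≠ 1) : 1 ≤ nu3 ρ ψ := by
  by_contra hcon
  refine hne ?_
  rw [← mul_one (op ρ 11 1), ← (fam3 ρ).sum_P hψ, Finset.mul_sum]
  refine Finset.sum_congr rfl fun z _ => ?_
  rw [← eta3 z]
  show op ρ 11 1 * P3 ρ ψ (z 0) (z 1) (z 2) = P3 ρ ψ (z 0) (z 1) (z 2)
  rw [P3_11]
  by_cases h2 : z 2 = 0
  · rw [h2, zero_mul, AddChar.map_zero_eq_one, one_smul]
  have h0 : P3 ρ ψ (z 0) (z 1) (z 2) = 0 := eq_zero_of_rk (by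
    rw [← M3_eq_rk, M3_d ρ hψ h3 h2]; omega)
  rw [h0, smul_zero]

end Cfsg.Agent.SimpleFacts.MinDegG2
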