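import Cfsg.Agent.SimpleFacts.MinDegG2.GenTrace

/-!
The line fixed by the radical of a parabolic subgroup, for degree `q³`.
-/

set_option autoImplicit false
set_option linter.unusedSectionVars false

namespace Cfsg.Agent.SimpleFacts.MinDegG2

open Cfsg.Lie Cfsg.Agent.SimpleFacts.MinDegExc Cfsg.Agent.Chevalley.Group
open scoped BigOperators

variable {V : Type*} [AddCommGroup V] [Module ℂ V] [FiniteDimensional ℂ V]
variable {F : Type*} [Field F] [Fintype F] (ρ : Representation ℂ (chevG2.group F) V)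

/-- The elements fixing an operator on both sides. -/
def fixSub (A : Module.End ℂ V) : Subgroup (chevG2.group F) where
  carrier := {g | ρ g * A = A ∧ A * ρ g = A}
  one_mem' := ⟨by rw [map_one, one_mul], by rw [map_one, mul_one]⟩
  mul_mem' {g h} hg hh := ⟨by rw [map_mul, mul_assoc, hh.1, hg.1],
    by rw [map_mul, ← mul_assoc, hg.2, hh.2]⟩
  inv_mem' {g} hg := by
    refine ⟨?_, ?_⟩
    · conv_lhs => rw [← hg.1, ← mul_assoc, ← map_mul, inv_mul_cancel, map_one, one_mul]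
    · conv_lhs => rw [← hg.2, mul_assoc, ← map_mul, mul_inv_cancel, map_one, mul_one]

theorem mem_fixSub {A : Module.End ℂ V} {g : chevG2.group F} :
    g ∈ fixSub ρ A ↔ ρ g * A = A ∧ A * ρ g = A := Iff.rfl

/-- The elements fixing an operator from the right. -/
def fixR (A : Module.End ℂ V) : Subgroup (chevG2.group F) where
  carrier := {g | A * ρ g = A}
  one_mem' := by show A * ρ 1 = A; rw [map_one, mul_one]
  mul_mem' {g h} hg hh := by
    show A * ρ (g * h) = A
    rw [map_mul, ← mul_assoc, show A * ρ g = A from hg, show A * ρ h = A from hh]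
  inv_mem' {g} hg := by
    show A * ρ g⁻¹ = A
    conv_lhs => rw [← show A * ρ g = A from hg, mul_assoc, ← map_mul, mul_inv_cancel, map_one, mul_one]

/-- The elements fixing an operator from the left. -/
def fixL (A : Module.End ℂ V) : Subgroup (chevG2.group F) where
  carrier := {g | ρ g * A = A}
  one_mem' := by show ρ 1 * A = A; rw [map_one, one_mul]
  mul_mem' {g h} hg hh := by
    show ρ (g * h) * A = A
    rw [map_mul, mul_assoc, show ρ h * A = A from hh, show ρ g * A = A from hg]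
  inv_mem' {g} hg := by
    show ρ g⁻¹ * A = A
    conv_lhs => rw [← show ρ g * A = A from hg, ← mul_assoc, ← map_mul, inv_mul_cancel, map_one, one_mul]

/-- The generators of the radical. -/
def gens : Set (chevG2.group F) :=
  {g | ∃ (r : Fin 12) (t : F), r ∈ [6, 8, 9, 10, 11] ∧ g = xe r t}

variable (F) in
/-- The radical. -/
def rad : Subgroup (chevG2.group F) := Subgroup.closure gens

theorem xe_mem_rad {r : Fin 12} (hr : r ∈ [6, 8, 9, 10, 11]) (t : F) : xe r t ∈ rad F :=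
  Subgroup.subset_closure ⟨r, t, hr, rfl⟩

theorem rad_le {H : Subgroup (chevG2.group F)}
    (h : ∀ r : Fin 12, r ∈ [6, 8, 9, 10, 11] → ∀ t, xe r t ∈ H) : rad F ≤ H :=
  (Subgroup.closure_le _).2 fun _ ⟨r, t, hr, hg⟩ => hg ▸ h r hr t

/-- The average over the radical. -/
noncomputable def avR : Module.End ℂ V :=
  (Nat.card (rad F) : ℂ)⁻¹ • ∑ᶠ h : rad F, ρ (h : chevG2.group F)

theorem avR_eq_of_left {A : Module.End ℂ V} (h : rad F ≤ fixL ρ A) : avR ρ * A = A := by
  classical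
  have := Fintype.ofFinite (rad F)
  rw [avR, finsum_eq_sum_of_fintype, smul_mul_assoc, Finset.sum_mul,
    Finset.sum_congr rfl (g := fun _ => A) fun g _ => h g.2, Finset.sum_const, Finset.card_univ,
    Nat.card_eq_fintype_card, ← Nat.cast_smul_eq_nsmul ℂ, smul_smul,
    inv_mul_cancel₀ (Nat.cast_ne_zero.2 Fintype.card_ne_zero), one_smul]

theorem avR_eq_of_right {A : Module.End ℂ V} (h : rad F ≤ fixR ρ A) : A * avR ρ = A := by
  classical
  have := Fintype.ofFinite (rad F)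
  rw [avR, finsum_eq_sum_of_fintype, mul_smul_comm, Finset.mul_sum,
    Finset.sum_congr rfl (g := fun _ => A) fun g _ => h g.2, Finset.sum_const, Finset.card_univ,
    Nat.card_eq_fintype_card, ← Nat.cast_smul_eq_nsmul ℂ, smul_smul,
    inv_mul_cancel₀ (Nat.cast_ne_zero.2 Fintype.card_ne_zero), one_smul]

theorem mul_avR {g : chevG2.group F} (hg : g ∈ rad F) : ρ g * avR ρ = avR ρ := by
  classical
  have := Fintype.ofFinite (rad F)
  rw [avR, finsum_eq_sum_of_fintype, mul_smul_comm, Finset.mul_sum]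
  congr 1
  exact Fintype.sum_equiv (Equiv.mulLeft ⟨g, hg⟩) _ _ fun h => by
    rw [Equiv.coe_mulLeft, Subgroup.coe_mul, map_mul]

theorem comm_avR {g : chevG2.group F}
    (h : ∀ r : Fin 12, r ∈ [6, 8, 9, 10, 11] → ∀ t, g * xe r t * g⁻¹ ∈ rad F) :
    Commute (ρ g) (avR ρ) := by
  classical
  have := Fintype.ofFinite (rad F)
  have hle : rad F ≤ (rad F).comap (MulAut.conj g).toMonoidHom := rad_le h
  let f : rad F → rad F := fun x => ⟨g * x * g⁻¹, hle x.2⟩
  have hf : Function.Bijective f := Finite.injective_iff_bijective.1 fun x y e => Subtype.ext (by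
    have := congrArg Subtype.val e
    simpa [f] using this)
  rw [avR, finsum_eq_sum_of_fintype]
  refine Commute.smul_right ((commute_iff_eq _ _).2 ?_) _
  rw [Finset.mul_sum, Finset.sum_mul]
  refine Fintype.sum_equiv (Equiv.ofBijective f hf) _ _ fun x => ?_
  show ρ g * ρ x = ρ (g * x * g⁻¹) * ρ g
  rw [← map_mul, ← map_mul, inv_mul_cancel_right]

/-- A root group on a line fixed by the torus is trivial. -/
theorem fix_line {ψ : AddChar F ℂ} (hψ : ψ ≠ 1) (hq : 3 ≤ Fintype.card F) {P : Module.End ℂ V}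
    (hP : P * P = P) (h1 : LinearMap.trace ℂ V P = 1) (r : Fin 12) (i : Fin 2)
    (hc : chevG2.cartan i.val r.val = 1 ∨ chevG2.cartan i.val r.val = -1)
    (hr : ∀ t, Commute (op ρ r t) P) (ht : ∀ u : F, u ≠ 0 → Commute (ρ (te i u)) P) (t : F) :
    xe r t ∈ fixSub ρ P := by
  classical
  obtain ⟨β, hβ⟩ := char_on_line ρ hψ hP h1 r hr
  obtain ⟨w, hw0, hw1⟩ : ∃ w : F, w ≠ 0 ∧ w ≠ 1 := by
    by_contra h
    push Not at h
    have := (Finset.card_le_card (s := (Finset.univ : Finset F)) (t := {0, 1}) fun x _ => by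
      by_cases hx : x = 0
      · simp [hx]
      · simp [h x hx]).trans Finset.card_le_two
    rw [Finset.card_univ] at this
    omega
  obtain ⟨u, hu0, hu⟩ : ∃ u : F, u ≠ 0 ∧ u ^ chevG2.cartan i.val r.val = w := by
    rcases hc with h | h
    · exact ⟨w, hw0, by rw [h, zpow_one]⟩
    · exact ⟨w⁻¹, inv_ne_zero hw0, by rw [h, zpow_neg_one, inv_inv]⟩
  have hne : P * ρ (te i u) ≠ 0 := fun e => by
    have := congrArg (· * ρ (te i u)⁻¹) e
    simp only [mul_assoc, ← map_mul, mul_inv_cancel, map_one, mul_one, zero_mul] at this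
    rw [this, map_zero] at h1
    exact zero_ne_one h1
  have hb : β * w = β := psi_inj hψ fun s => smul_left_injective ℂ hne (by
    show ψ _ • _ = ψ _ • _
    calc ψ (β * w * s) • (P * ρ (te i u)) = op ρ r (w * s) * (P * ρ (te i u)) := by
          rw [← mul_assoc (op ρ r _), hβ, smul_mul_assoc, mul_assoc]
      _ = op ρ r (w * s) * ρ (te i u) * P := by rw [← (ht u hu0).eq, mul_assoc]
      _ = ρ (te i u) * (op ρ r s * P) := by
          rw [op, op, ← map_mul, ← hu, ← te_conj i r hu0, inv_mul_cancel_right, map_mul, mul_assoc]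
      _ = ψ (β * s) • (P * ρ (te i u)) := by rw [hβ, mul_smul_comm, (ht u hu0).eq])
  have hb0 : β = 0 := by
    by_contra hb0
    exact hw1 (mul_left_cancel₀ hb0 (hb.trans (mul_one β).symm))
  have e : op ρ r t * P = P := by rw [hβ, hb0, zero_mul, AddChar.map_zero_eq_one, one_smul]
  exact ⟨e, by rw [← (hr t).eq]; exact e⟩

theorem te0_word (u : F) : te 0 u = xe 7 u * xe 4 (-u⁻¹) * xe 7 u *
    (xe 7 (-1) * xe 4 (-(-1 : F)⁻¹) * xe 7 (-1)) :=
  Subtype.ext rfl

theorem ne0_word : (ne1 0 : chevG2.group F) = xe 7 1 * xe 4 (-(1 : F)⁻¹) * xe 7 1 :=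
  Subtype.ext rfl

/-- The line. -/
noncomputable def eL (ψ : AddChar F ℂ) : Module.End ℂ V := av ρ 6 * P3 ρ ψ 0 0 0

variable {ψ : AddChar F ℂ} (hψ : ψ ≠ 1) (hq : 3 ≤ Fintype.card F) (h1 : r6 ρ ψ 0 0 = 1)
include hψ hq h1

theorem eL_idem : eL ρ ψ * eL ρ ψ = eL ρ ψ := av6P_idem ρ hψ 0 0

theorem eL_trace : LinearMap.trace ℂ V (eL ρ ψ) = 1 := by
  rw [eL, trace_r6 ρ hψ, h1, Nat.cast_one]

theorem eL_te_comm (i : Fin 2) {u : F} (hu : u ≠ 0) : Commute (ρ (te i u)) (eL ρ ψ) := by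
  refine Commute.mul_right (te_av ρ i 6 hu).symm ?_
  have h := mte ρ hψ i (inv_ne_zero hu)
  rw [inv_inv] at h
  exact h.commute hψ (funext fun b => by fin_cases b <;> simp)

theorem eL_rad : rad F ≤ fixSub ρ (eL ρ ψ) := by
  have hP : ∀ r : Fin 12, r ∈ [9, 10, 11] → ∀ t,
      Commute (op ρ r t) (P3 ρ ψ 0 0 0) ∧ op ρ r t * P3 ρ ψ 0 0 0 = P3 ρ ψ 0 0 0 := by
    intro r hr t
    have e : op ρ r t * P3 ρ ψ 0 0 0 = P3 ρ ψ 0 0 0 := by
      simp only [List.mem_cons, List.not_mem_nil, or_false] at hr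
      rcases hr with rfl | rfl | rfl
      · rw [P3_9, zero_mul, AddChar.map_zero_eq_one, one_smul]
      · rw [P3_10, zero_mul, AddChar.map_zero_eq_one, one_smul]
      · rw [P3_11, zero_mul, AddChar.map_zero_eq_one, one_smul]
    refine ⟨comm_P ρ (xe r t) (fun b v => ?_) _, e⟩
    refine xe_comm ?_ t v
    simp only [List.mem_cons, List.not_mem_nil, or_false] at hr
    rcases hr with rfl | rfl | rfl <;> (revert b; decide +kernel)
  have hc : av ρ 6 * P3 ρ ψ 0 0 0 = P3 ρ ψ 0 0 0 * av ρ 6 :=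
    (av_comm ρ fun t => comm6_P3 ρ hψ t 0 0).eq
  have h6 : ∀ t, xe 6 t ∈ fixSub ρ (eL ρ ψ) := fun t => by
    have e : op ρ 6 t * eL ρ ψ = eL ρ ψ := by rw [eL, ← mul_assoc, op_mul_av]
    refine ⟨e, ?_⟩
    have hcc : Commute (op ρ 6 t) (eL ρ ψ) :=
      Commute.mul_right (av_comm ρ fun s => op_comm ρ (by decide +kernel) s t).symm (comm6_P3 ρ hψ t 0 0)
    rw [show ρ (xe 6 t) = op ρ 6 t from rfl, ← hcc.eq]
    exact e
  have h9 : ∀ r : Fin 12, r ∈ [9, 10, 11] → ∀ t, xe r t ∈ fixSub ρ (eL ρ ψ) := fun r hr t => by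
    obtain ⟨hcm, e⟩ := hP r hr t
    refine ⟨?_, ?_⟩
    · rw [eL, hc, ← mul_assoc, e]
    · rw [eL, mul_assoc, ← hcm.eq, e]
  refine rad_le fun r hr t => ?_
  simp only [List.mem_cons, List.not_mem_nil, or_false] at hr
  rcases hr with rfl | rfl | rfl | rfl | rfl
  · exact h6 t
  · refine fix_line ρ hψ hq (eL_idem ρ hψ hq h1) (eL_trace ρ hψ hq h1) 8 0 (by decide +kernel)
      (fun s => ?_) (fun u hu => eL_te_comm ρ hψ hq h1 0 hu) t
    exact Commute.mul_right (av_comm ρ fun v => op_comm ρ (by decide +kernel) v s).symm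
      ((m8 ρ hψ s).commute hψ (funext fun i => by fin_cases i <;> simp))
  · exact h9 9 (by simp) t
  · exact h9 10 (by simp) t
  · exact h9 11 (by simp) t

theorem eL_eq_avR : eL ρ ψ = avR ρ := by
  have hfix := eL_rad ρ hψ hq h1
  refine (avR_eq_of_right ρ (A := eL ρ ψ) fun g hg => (hfix hg).2).symm.trans ?_
  rw [eL, av, P3]
  have hP : (fam3 ρ).P ψ ![0, 0, 0] * avR ρ = avR ρ := by
    classical
    rw [(fam3 ρ).P_eig hψ (y := ![0, 0, 0]) (fun b v => ?_), if_pos rfl]
    have e : op ρ (R3 b) v * avR ρ = avR ρ := mul_avR ρ (xe_mem_rad (by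
      revert b; decide) v)
    rw [e]
    fin_cases b <;> simp
  rw [mul_assoc, hP, smul_mul_assoc, Finset.sum_mul,
    Finset.sum_congr rfl (g := fun _ => avR ρ) fun t _ => mul_avR ρ (xe_mem_rad (by decide) t),
    Finset.sum_const, Finset.card_univ, ← Nat.cast_smul_eq_nsmul ℂ, smul_smul,
    inv_mul_cancel₀ (q_ne (F := F)), one_smul]

omit hψ hq h1 in
theorem norm7 (t : F) : ∀ r : Fin 12, r ∈ [6, 8, 9, 10, 11] → ∀ v,
    xe 7 t * xe r v * (xe 7 t)⁻¹ ∈ rad F := by
  intro r hr v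
  simp only [List.mem_cons, List.not_mem_nil, or_false] at hr
  rcases hr with rfl | rfl | rfl | rfl | rfl
  · rw [conj_7_6]
    exact mul_mem (xe_mem_rad (by decide) _) (mul_mem (mul_mem (mul_mem (xe_mem_rad (by decide) _)
      (xe_mem_rad (by decide) _)) (xe_mem_rad (by decide) _)) (xe_mem_rad (by decide) _))
  · rw [conj_7_8]
    exact mul_mem (xe_mem_rad (by decide) _) (mul_mem (mul_mem (xe_mem_rad (by decide) _)
      (xe_mem_rad (by decide) _)) (xe_mem_rad (by decide) _))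
  · rw [conj_7_9]
    exact mul_mem (xe_mem_rad (by decide) _) (xe_mem_rad (by decide) _)
  · rw [(xe_comm (r := 7) (s := 10) (by decide +kernel) t v).eq, mul_inv_cancel_right]
    exact xe_mem_rad (by decide) _
  · rw [(xe_comm (r := 7) (s := 11) (by decide +kernel) t v).eq, mul_inv_cancel_right]
    exact xe_mem_rad (by decide) _

omit hψ hq h1 in
theorem norm4 (t : F) : ∀ r : Fin 12, r ∈ [6, 8, 9, 10, 11] → ∀ v,
    xe 4 t * xe r v * (xe 4 t)⁻¹ ∈ rad F := by
  intro r hr v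
  simp only [List.mem_cons, List.not_mem_nil, or_false] at hr
  rcases hr with rfl | rfl | rfl | rfl | rfl
  · rw [(xe_comm (r := 4) (s := 6) (by decide +kernel) t v).eq, mul_inv_cancel_right]
    exact xe_mem_rad (by decide) _
  · rw [conj_4_8]
    exact mul_mem (xe_mem_rad (by decide) _) (xe_mem_rad (by decide) _)
  · rw [conj_4_9]
    exact mul_mem (xe_mem_rad (by decide) _) (mul_mem (mul_mem (xe_mem_rad (by decide) _)
      (xe_mem_rad (by decide) _)) (xe_mem_rad (by decide) _))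
  · rw [conj_4_10]
    exact mul_mem (xe_mem_rad (by decide) _) (mul_mem (mul_mem (mul_mem (xe_mem_rad (by decide) _)
      (xe_mem_rad (by decide) _)) (xe_mem_rad (by decide) _)) (xe_mem_rad (by decide) _))
  · rw [(xe_comm (r := 4) (s := 11) (by decide +kernel) t v).eq, mul_inv_cancel_right]
    exact xe_mem_rad (by decide) _

/-- The root groups fixing the line. -/
theorem eL_xe (r : Fin 12) (hr : r ∈ [4, 6, 7, 8, 9, 10, 11]) (t : F) : xe r t ∈ fixSub ρ (eL ρ ψ) := by
  simp only [List.mem_cons, List.not_mem_nil, or_false] at hr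
  have hE := eL_eq_avR ρ hψ hq h1
  rcases hr with rfl | rfl | rfl | rfl | rfl | rfl | rfl
  · refine fix_line ρ hψ hq (eL_idem ρ hψ hq h1) (eL_trace ρ hψ hq h1) 4 1 (by decide +kernel)
      (fun s => ?_) (fun u hu => eL_te_comm ρ hψ hq h1 1 hu) t
    rw [hE]; exact comm_avR ρ (norm4 s)
  · exact eL_rad ρ hψ hq h1 (xe_mem_rad (by decide) t)
  · refine fix_line ρ hψ hq (eL_idem ρ hψ hq h1) (eL_trace ρ hψ hq h1) 7 1 (by decide +kernel)
      (fun s => ?_) (fun u hu => eL_te_comm ρ hψ hq h1 1 hu) t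
    rw [hE]; exact comm_avR ρ (norm7 s)
  all_goals exact eL_rad ρ hψ hq h1 (xe_mem_rad (by decide) t)

theorem eL_te0 (u : F) : te 0 u ∈ fixSub ρ (eL ρ ψ) := by
  have h : ∀ (r : Fin 12), r ∈ [4, 6, 7, 8, 9, 10, 11] → ∀ t, xe r t ∈ fixSub ρ (eL ρ ψ) :=
    eL_xe ρ hψ hq h1
  rw [te0_word]
  exact mul_mem (mul_mem (mul_mem (h 7 (by decide) _) (h 4 (by decide) _)) (h 7 (by decide) _))
    (mul_mem (mul_mem (h 7 (by decide) _) (h 4 (by decide) _)) (h 7 (by decide) _))

theorem eL_ne0 : ne1 0 ∈ fixSub ρ (eL ρ ψ) := by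
  have h : ∀ (r : Fin 12), r ∈ [4, 6, 7, 8, 9, 10, 11] → ∀ t, xe r t ∈ fixSub ρ (eL ρ ψ) :=
    eL_xe ρ hψ hq h1
  rw [ne0_word]
  exact mul_mem (mul_mem (h 7 (by decide) _) (h 4 (by decide) _)) (h 7 (by decide) _)

end Cfsg.Agent.SimpleFacts.MinDegG2
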