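import Cfsg.Agent.Lib.Chevalley.Types.G2
import Cfsg.Agent.Lib.Chevalley.Types.SimpleG2

/-!
Elements of the Chevalley group of type G2: the commutator relations used for the degree bound, the torus
and the two monomial elements.

Roots: 7 = a (short), 6 = b, 8 = a+b, 9 = 2a+b, 10 = 3a+b, 11 = 3a+2b, 4 = -a, 5 = -b.
-/

set_option autoImplicit false
set_option linter.unusedSectionVars false

namespace Cfsg.Agent.SimpleFacts.MinDegG2

open Cfsg.Lie Cfsg.Agent.Chevalley.Table Cfsg.Agent.Chevalley.Cert Cfsg.Agent.Chevalley.Group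
  Cfsg.Agent.Chevalley.Unip Cfsg.Agent.Chevalley.Borel Cfsg.Agent.Chevalley.Weyl

theorem hC : Certified chevG2 Cfsg.Agent.Chevalley.Data.G2.tab :=
  Cfsg.Agent.Chevalley.Types.G2.certified

variable {F : Type*} [Field F]

/-- The root elements. -/
def xe (r : Fin 12) (t : F) : chevG2.group F := ⟨xg hC r.val t, xg_mem_group hC r.2 t⟩

theorem coe_xe (r : Fin 12) (t : F) : (xe r t : GL chevG2.Idx F) = xg hC r.val t := rfl

theorem xe_zero (r : Fin 12) : xe r (0 : F) = 1 := Subtype.ext (xg_zero hC _)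

theorem xe_add (r : Fin 12) (t u : F) : xe r (t + u) = xe r t * xe r u := Subtype.ext (xg_add hC _ t u)

theorem xe_inv (r : Fin 12) (t : F) : (xe r t)⁻¹ = xe r (-t) := Subtype.ext (xg_inv hC _ t)

theorem conj_xg {r s : ℕ} (hr : r < 12) (hs : s < 12) (hsr : s ≠ r) (hsn : s ≠ chevG2.neg r)
    (t u : F) :
    xg hC r t * xg hC s u * (xg hC r t)⁻¹ = xg hC s u *
      ((chevG2.commTerms r s).map fun c =>
        xg hC c.1 ((c.2.1 : F) * t ^ c.2.2.1 * u ^ c.2.2.2)).prod := by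
  have h := xg_comm hC (r := r) (s := s) hr hs hsr hsn (-t) u
  simp only [ChevalleyDatum.commWord, List.map_map, Function.comp_def, neg_neg] at h
  rw [xg_inv hC, mul_assoc, h, ← mul_assoc, ← mul_assoc, ← xg_add hC, add_neg_cancel, xg_zero hC,
    one_mul]

/-- Conjugation of a root element by a root element, from the list of terms. -/
theorem conj_xe {r s : Fin 12} (hsr : s ≠ r) (hsn : s.val ≠ chevG2.neg r.val)
    {L : List (Fin 12 × ℤ × ℕ × ℕ)}
    (hL : chevG2.commTerms r.val s.val = L.map fun c => (c.1.val, c.2)) (t u : F) :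
    xe r t * xe s u * (xe r t)⁻¹ = xe s u *
      (L.map fun c => xe c.1 ((c.2.1 : F) * t ^ c.2.2.1 * u ^ c.2.2.2)).prod := by
  apply Subtype.ext
  have h := conj_xg (F := F) r.2 s.2 (fun e => hsr (Fin.ext e)) hsn t u
  simp only [hL, List.map_map, Function.comp_def] at h
  simp only [Subgroup.coe_mul, Subgroup.coe_inv, coe_xe, SubmonoidClass.coe_list_prod, List.map_map,
    Function.comp_def]
  exact h

/-! ### The relations -/

theorem conj_7_6 (t u : F) : xe 7 t * xe 6 u * (xe 7 t)⁻¹ =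
    xe 6 u * (xe 8 (-(t * u)) * xe 9 (t ^ 2 * u) * xe 10 (t ^ 3 * u) * xe 11 (t ^ 3 * u ^ 2)) := by
  rw [conj_xe (L := [(8, -1, 1, 1), (9, 1, 2, 1), (10, 1, 3, 1), (11, 1, 3, 2)]) (by decide)
    (by decide +kernel) (by decide +kernel)]
  simp [mul_assoc]

theorem conj_7_8 (t u : F) : xe 7 t * xe 8 u * (xe 7 t)⁻¹ =
    xe 8 u * (xe 9 (-2 * (t * u)) * xe 10 (-3 * (t ^ 2 * u)) * xe 11 (3 * (t * u ^ 2))) := by
  rw [conj_xe (L := [(9, -2, 1, 1), (10, -3, 2, 1), (11, 3, 1, 2)]) (by decide) (by decide +kernel)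
    (by decide +kernel)]
  simp [mul_assoc]

theorem conj_6_7 (t u : F) : xe 6 t * xe 7 u * (xe 6 t)⁻¹ =
    xe 7 u * (xe 8 (t * u) * xe 9 (t * u ^ 2) * xe 10 (-(t * u ^ 3)) *
      xe 11 (-2 * (t ^ 2 * u ^ 3))) := by
  rw [conj_xe (L := [(8, 1, 1, 1), (9, 1, 1, 2), (10, -1, 1, 3), (11, -2, 2, 3)]) (by decide)
    (by decide +kernel) (by decide +kernel)]
  simp [mul_assoc]

theorem conj_6_10 (t u : F) : xe 6 t * xe 10 u * (xe 6 t)⁻¹ = xe 10 u * xe 11 (t * u) := by
  rw [conj_xe (L := [(11, 1, 1, 1)]) (by decide) (by decide +kernel) (by decide +kernel)]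
  simp

theorem conj_8_9 (t u : F) : xe 8 t * xe 9 u * (xe 8 t)⁻¹ = xe 9 u * xe 11 (3 * (t * u)) := by
  rw [conj_xe (L := [(11, 3, 1, 1)]) (by decide) (by decide +kernel) (by decide +kernel)]
  simp [mul_assoc]

theorem conj_7_9 (t u : F) : xe 7 t * xe 9 u * (xe 7 t)⁻¹ = xe 9 u * xe 10 (3 * (t * u)) := by
  rw [conj_xe (L := [(10, 3, 1, 1)]) (by decide) (by decide +kernel) (by decide +kernel)]
  simp [mul_assoc]

theorem conj_4_8 (t u : F) : xe 4 t * xe 8 u * (xe 4 t)⁻¹ = xe 8 u * xe 6 (-3 * (t * u)) := by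
  rw [conj_xe (L := [(6, -3, 1, 1)]) (by decide) (by decide +kernel) (by decide +kernel)]
  simp [mul_assoc]

theorem conj_4_9 (t u : F) : xe 4 t * xe 9 u * (xe 4 t)⁻¹ =
    xe 9 u * (xe 8 (-2 * (t * u)) * xe 6 (3 * (t ^ 2 * u)) * xe 11 (-3 * (t * u ^ 2))) := by
  rw [conj_xe (L := [(8, -2, 1, 1), (6, 3, 2, 1), (11, -3, 1, 2)]) (by decide) (by decide +kernel)
    (by decide +kernel)]
  simp [mul_assoc]

theorem conj_4_10 (t u : F) : xe 4 t * xe 10 u * (xe 4 t)⁻¹ =
    xe 10 u * (xe 9 (t * u) * xe 8 (-(t ^ 2 * u)) * xe 6 (t ^ 3 * u) *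
      xe 11 (-(t ^ 3 * u ^ 2))) := by
  rw [conj_xe (L := [(9, 1, 1, 1), (8, -1, 2, 1), (6, 1, 3, 1), (11, -1, 3, 2)]) (by decide)
    (by decide +kernel) (by decide +kernel)]
  simp [mul_assoc]

theorem conj_5_11 (t u : F) : xe 5 t * xe 11 u * (xe 5 t)⁻¹ = xe 11 u * xe 10 (t * u) := by
  rw [conj_xe (L := [(10, 1, 1, 1)]) (by decide) (by decide +kernel) (by decide +kernel)]
  simp

/-- The pairs of roots whose root elements commute. -/
def commPair (r s : Fin 12) : Bool :=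
  r == s || (s.val != chevG2.neg r.val && (chevG2.commTerms r.val s.val).isEmpty)

theorem xe_comm {r s : Fin 12} (h : commPair r s = true) (t u : F) :
    Commute (xe r t) (xe s u) := by
  simp only [commPair, Bool.or_eq_true, beq_iff_eq, Bool.and_eq_true, bne_iff_ne,
    List.isEmpty_iff] at h
  rcases eq_or_ne r s with rfl | hne
  · rw [commute_iff_eq, ← xe_add, ← xe_add, add_comm]
  obtain ⟨hn, he⟩ := h.resolve_left hne
  have := conj_xe (F := F) (r := r) (s := s) (L := []) (Ne.symm hne) hn (by rw [he]; rfl) t u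
  rw [List.map_nil, List.prod_nil, mul_one, mul_inv_eq_iff_eq_mul] at this
  exact this

/-- The pairs with only terms divisible by three. -/
def commPair3 (r s : Fin 12) : Bool :=
  r == s || (s.val != chevG2.neg r.val && (chevG2.commTerms r.val s.val).all fun c => c.2.1 % 3 == 0)

theorem xe_comm3 (h3 : (3 : F) = 0) {r s : Fin 12} (h : commPair3 r s = true) (t u : F) :
    Commute (xe r t) (xe s u) := by
  simp only [commPair3, Bool.or_eq_true, beq_iff_eq, Bool.and_eq_true, bne_iff_ne,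
    List.all_eq_true] at h
  rcases eq_or_ne r s with rfl | hne
  · rw [commute_iff_eq, ← xe_add, ← xe_add, add_comm]
  obtain ⟨hn, he⟩ := h.resolve_left hne
  rw [commute_iff_eq, ← mul_inv_eq_iff_eq_mul]
  apply Subtype.ext
  simp only [Subgroup.coe_mul, Subgroup.coe_inv, coe_xe]
  rw [conj_xg r.2 s.2 (fun e => hne (Fin.ext e).symm) hn, List.prod_eq_one, mul_one]
  intro g hg
  obtain ⟨c, hc, rfl⟩ := List.mem_map.1 hg
  obtain ⟨d, hd⟩ := Int.dvd_of_emod_eq_zero (he c hc)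
  rw [hd, Int.cast_mul, show ((3 : ℤ) : F) = 3 by norm_num, h3]
  simp [xg_zero hC]

/-! ### The torus and the monomial elements -/

theorem simple_lt (i : Fin 2) : chevG2.simple i.val < 12 :=
  hC.simple_lt (i := i.val) i.2

/-- The coroot of a simple root. -/
def te (i : Fin 2) (u : F) : chevG2.group F :=
  ⟨hg hC (chevG2.simple i.val) u,
    mul_mem (ng_mem_group hC (simple_lt i) _) (ng_mem_group hC (simple_lt i) _)⟩

/-- The monomial element of a simple root. -/
def ne1 (i : Fin 2) : chevG2.group F :=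
  ⟨ng hC (chevG2.simple i.val) 1, ng_mem_group hC (simple_lt i) _⟩

theorem te_eq_tor (i : Fin 2) (u : Fˣ) :
    (te i (u : F) : GL chevG2.Idx F) = tor chevG2 (fun j => if j = i.val then u else 1) :=
  hg_simple hC (i := i.val) i.2 u

theorem te_conj (i : Fin 2) (r : Fin 12) {u : F} (hu : u ≠ 0) (t : F) :
    te i u * xe r t * (te i u)⁻¹ = xe r (u ^ chevG2.cartan i.val r.val * t) := by
  obtain ⟨v, rfl⟩ : ∃ v : Fˣ, (v : F) = u := ⟨Units.mk0 u hu, rfl⟩
  apply Subtype.ext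
  simp only [Subgroup.coe_mul, Subgroup.coe_inv, te_eq_tor, coe_xe]
  rw [tor_conj_x hC _ _ _ (show r.val < chevG2.nroots from r.2), torChar]
  congr 2
  rw [Finset.prod_eq_single i.val (fun j _ hj => by rw [if_neg hj, one_zpow])
    (fun h => absurd (Finset.mem_range.2 (show i.val < chevG2.rank from i.2)) h), if_pos rfl,
    Units.val_zpow_eq_zpow_val]

theorem te_comm (i j : Fin 2) {u v : F} (hu : u ≠ 0) (hv : v ≠ 0) :
    Commute (te i u) (te j v) := by
  obtain ⟨a, rfl⟩ : ∃ a : Fˣ, (a : F) = u := ⟨Units.mk0 u hu, rfl⟩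
  obtain ⟨b, rfl⟩ : ∃ b : Fˣ, (b : F) = v := ⟨Units.mk0 v hv, rfl⟩
  apply Subtype.ext
  simp only [Subgroup.coe_mul, te_eq_tor]
  rw [tor_mul, tor_mul, mul_comm]

theorem te_mul (i : Fin 2) {u v : F} (hu : u ≠ 0) (hv : v ≠ 0) : te i (u * v) = te i u * te i v := by
  obtain ⟨a, rfl⟩ : ∃ a : Fˣ, (a : F) = u := ⟨Units.mk0 u hu, rfl⟩
  obtain ⟨b, rfl⟩ : ∃ b : Fˣ, (b : F) = v := ⟨Units.mk0 v hv, rfl⟩
  apply Subtype.ext
  rw [Subgroup.coe_mul, ← Units.val_mul]
  simp only [te_eq_tor]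
  rw [tor_mul]
  congr 1
  funext k
  simp only [Pi.mul_apply]
  split <;> simp

/-- The monomial elements permute the root groups. -/
theorem ne1_conj (i : Fin 2) (r : Fin 12) {s : Fin 12}
    (hs : chevG2.reflectRoot i.val r.val = s.val) :
    ∃ η : F, (η = 1 ∨ η = -1) ∧ ∀ t, ne1 i * xe r t * (ne1 i)⁻¹ = xe s (η * t) := by
  refine ⟨(Cfsg.Agent.Chevalley.Data.G2.tab.eta i.val r.val : F), ?_, fun t => ?_⟩
  · rcases Certified.eta_cases (T := Cfsg.Agent.Chevalley.Data.G2.tab) i.val r.val with e | e <;>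
      simp [e]
  apply Subtype.ext
  simp only [Subgroup.coe_mul, Subgroup.coe_inv, coe_xe, ne1]
  rw [ng_conj_x hC (i := i.val) i.2 (show r.val < chevG2.nroots from r.2), hs]

/-- The root elements generate. -/
theorem xe_gen : Subgroup.closure (Set.range fun p : Fin 12 × F => xe p.1 p.2) = ⊤ := by
  refine eq_top_iff.2 fun g _ => ?_
  have hle : chevG2.group F ≤
      (Subgroup.closure (Set.range fun p : Fin 12 × F => xe p.1 p.2)).map (chevG2.group F).subtype := by
    conv_lhs => rw [group_eq_closure hC]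
    rw [Subgroup.closure_le]
    rintro _ ⟨r, t, hr, rfl⟩
    exact ⟨xe ⟨r, hr⟩ t, Subgroup.subset_closure ⟨(⟨r, hr⟩, t), rfl⟩, rfl⟩
  obtain ⟨g', hg', e⟩ := hle g.2
  exact (Subtype.ext e : g' = g) ▸ hg'

end Cfsg.Agent.SimpleFacts.MinDegG2
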