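import Cfsg.Agent.SimpleFacts.MinDegG2.Ops
import Cfsg.Agent.SimpleFacts.MinDegExc.Coord
import Cfsg.Agent.SimpleFacts.MinDegOrth.Steps

/-!
Operators of a representation of G2 on the common eigenspaces of commuting root groups.
-/

set_option autoImplicit false
set_option linter.unusedSectionVars false

namespace Cfsg.Agent.SimpleFacts.MinDegG2

open Cfsg.Lie Cfsg.Agent.SimpleFacts.MinDegExc
open scoped BigOperators

variable {V : Type*} [AddCommGroup V] [Module ℂ V] [FiniteDimensional ℂ V]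

theorem eig_mul {A B P : Module.End ℂ V} {a b : ℂ} (hA : A * P = a • P) (hB : B * P = b • P) :
    A * B * P = (a * b) • P := by
  rw [mul_assoc, hB, mul_smul_comm, hA, smul_smul, mul_comm b a]

theorem eig_fix_smul {A P : Module.End ℂ V} (hA : A * P = P) : A * P = (1 : ℂ) • P := by
  rw [one_smul, hA]

/-- The trace of an idempotent is a natural number. -/
theorem trace_idem_nat {P : Module.End ℂ V} (hP : P * P = P) :
    ∃ n : ℕ, LinearMap.trace ℂ V P = n :=
  ⟨_, MinDegOrth.trace_proj hP⟩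

theorem idem_eq_zero_of_trace {P : Module.End ℂ V} (hP : P * P = P)
    (h : LinearMap.trace ℂ V P = 0) : P = 0 := by
  rw [MinDegOrth.trace_proj hP, Nat.cast_eq_zero] at h
  rw [Submodule.finrank_eq_zero] at h
  exact LinearMap.range_eq_bot.1 h

variable {F : Type*} [Field F] [Fintype F] (ρ : Representation ℂ (chevG2.group F) V)

/-- The operator of a root element. -/
noncomputable abbrev op (r : Fin 12) (t : F) : Module.End ℂ V := ρ (xe r t)

theorem op_zero (r : Fin 12) : op ρ r 0 = 1 := by rw [op, xe_zero, map_one]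

theorem op_add (r : Fin 12) (t u : F) : op ρ r (t + u) = op ρ r t * op ρ r u := by
  rw [op, xe_add, map_mul]

theorem op_comm {r s : Fin 12} (h : commPair r s = true) (t u : F) :
    Commute (op ρ r t) (op ρ s u) := (xe_comm h t u).map ρ

theorem op_comm3 (h3 : (3 : F) = 0) {r s : Fin 12} (h : commPair3 r s = true) (t u : F) :
    Commute (op ρ r t) (op ρ s u) := (xe_comm3 h3 h t u).map ρ

theorem op_inv_mul (g : chevG2.group F) : ρ g * ρ g⁻¹ = 1 := by rw [← map_mul, mul_inv_cancel, map_one]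

section Moves

variable {ψ : AddChar F ℂ} {ι : Type*} [Fintype ι] [DecidableEq ι] {R : ι → Fin 12}
  {h : Fam fun b t => op ρ (R b) t}

/-- An element transforming the root elements of a family moves the characters. -/
theorem moves_of (g : chevG2.group F) {f : (ι → F) → (ι → F)} (hf : Function.Injective f)
    (he : ∀ z b v, ρ (g⁻¹ * xe (R b) v * g) * h.P ψ z = ψ (f z b * v) • h.P ψ z) :
    Moves h ψ (ρ g) f := by
  refine ⟨hf, fun z b v => ?_⟩
  have e : op ρ (R b) v * ρ g = ρ g * ρ (g⁻¹ * xe (R b) v * g) := by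
    rw [op, ← map_mul, ← map_mul]
    congr 1
    group
  rw [← mul_assoc, e, mul_assoc, he, mul_smul_comm]

theorem m_moves (hψ : ψ ≠ 1) {g : chevG2.group F} {f : (ι → F) → (ι → F)}
    (hg : Moves h ψ (ρ g) f) (y : ι → F) : h.m ψ (f y) = h.m ψ y :=
  hg.m_eq hψ (op_inv_mul ρ g) y

/-- An element centralising the family commutes with the projections. -/
theorem comm_P (g : chevG2.group F) (hg : ∀ b v, Commute g (xe (R b) v)) (y : ι → F) :
    Commute (ρ g) (h.P ψ y) := by
  rw [Fam.P]
  refine Commute.smul_right (Commute.sum_right _ _ _ fun w _ => Commute.smul_right ?_ _) _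
  have key : ∀ s : Finset ι, Commute (ρ g) (h.U (∑ b ∈ s, Pi.single b (w b))) := by
    intro s
    induction s using Finset.induction with
    | empty => rw [Finset.sum_empty, h.U_zero]; exact Commute.one_right _
    | insert b s hb ih =>
      rw [Finset.sum_insert hb, h.U_add, h.U_single]
      exact Commute.mul_right ((hg b (w b)).map ρ) ih
  have := key Finset.univ
  rwa [Finset.univ_sum_single] at this

end Moves

variable {ψ : AddChar F ℂ}

theorem exists_shift (hψ : ψ ≠ 1) (χ : AddChar F ℂ) : ∃ a : F, ∀ s, χ s = ψ (a * s) := by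
  classical
  have hinj : Function.Injective fun a : F => ψ.mulShift a :=
    AddChar.to_mulShift_inj_of_isPrimitive (AddChar.IsPrimitive.of_ne_one hψ)
  obtain ⟨a, ha⟩ := ((Fintype.bijective_iff_injective_and_card _).2 ⟨hinj,
    (AddChar.card_eq (α := F)).symm⟩).2 χ
  exact ⟨a, fun s => by rw [← ha, AddChar.mulShift_apply]⟩

theorem psi_inj (hψ : ψ ≠ 1) {a b : F} (e : ∀ s, ψ (a * s) = ψ (b * s)) : a = b :=
  AddChar.to_mulShift_inj_of_isPrimitive (AddChar.IsPrimitive.of_ne_one hψ)
    (DFunLike.ext _ _ fun s => by simpa [AddChar.mulShift_apply] using e s)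

/-- A root group fixing a line acts on it by a character. -/
theorem char_on_line (hψ : ψ ≠ 1) {P : Module.End ℂ V} (hP : P * P = P)
    (h1 : LinearMap.trace ℂ V P = 1) (r : Fin 12) (hc : ∀ t, Commute (op ρ r t) P) :
    ∃ β : F, ∀ t, op ρ r t * P = ψ (β * t) • P := by
  have hne : P ≠ 0 := fun h0 => by rw [h0, map_zero] at h1; exact zero_ne_one h1
  choose μ hμ using fun t => MinDegOrth.scalar_on_line hP h1 (hc t)
  let χ : AddChar F ℂ :=
    { toFun := μ
      map_zero_eq_one' := smul_left_injective ℂ hne (show μ 0 • P = (1 : ℂ) • P by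
        rw [← hμ, op_zero, one_mul, one_smul])
      map_add_eq_mul' := fun t u => smul_left_injective ℂ hne
        (show μ (t + u) • P = (μ t * μ u) • P by rw [← hμ, op_add, eig_mul (hμ t) (hμ u)]) }
  obtain ⟨β, hβ⟩ := exists_shift hψ χ
  exact ⟨β, fun t => by rw [← hβ]; exact hμ t⟩

/-- The projection on the vectors fixed by a root group. -/
noncomputable def av (r : Fin 12) : Module.End ℂ V :=
  (Fintype.card F : ℂ)⁻¹ • ∑ t : F, op ρ r t

theorem q_ne : (Fintype.card F : ℂ) ≠ 0 := Nat.cast_ne_zero.2 Fintype.card_ne_zero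

theorem op_mul_av (r : Fin 12) (t : F) : op ρ r t * av ρ r = av ρ r := by
  rw [av, mul_smul_comm, Finset.mul_sum]
  congr 1
  exact Fintype.sum_equiv (Equiv.addLeft t) _ _ fun u => by
    rw [Equiv.coe_addLeft, op_add]

theorem av_idem (r : Fin 12) : av ρ r * av ρ r = av ρ r := by
  conv_lhs => arg 1; rw [av]
  rw [smul_mul_assoc, Finset.sum_mul, Finset.sum_congr rfl fun t _ => op_mul_av ρ r t,
    Finset.sum_const, Finset.card_univ, ← Nat.cast_smul_eq_nsmul ℂ, smul_smul,
    inv_mul_cancel₀ (q_ne (F := F)), one_smul]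

theorem av_comm {r : Fin 12} {A : Module.End ℂ V} (h : ∀ t, Commute (op ρ r t) A) :
    Commute (av ρ r) A :=
  Commute.smul_left (Commute.sum_left _ _ _ fun t _ => h t) _

open _root_.Classical in
theorem av_eig (hψ : ψ ≠ 1) {P : Module.End ℂ V} {r : Fin 12} {β : F}
    (h : ∀ t, op ρ r t * P = ψ (β * t) • P) : av ρ r * P = if β = 0 then P else 0 := by
  rw [av, smul_mul_assoc, Finset.sum_mul, Finset.sum_congr rfl fun t _ => h t, ← Finset.sum_smul,
    smul_smul, Finset.sum_congr rfl (g := fun t => ψ (t * β)) fun t _ => by rw [mul_comm],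
    AddChar.sum_mulShift β (AddChar.IsPrimitive.of_ne_one hψ)]
  by_cases hb : β = 0
  · rw [if_pos hb, if_pos hb, inv_mul_cancel₀ (q_ne (F := F)), one_smul]
  · rw [if_neg hb, if_neg hb, Nat.cast_zero, mul_zero, zero_smul]

/-- The trace of the average on a projection whose character is moved by all non-zero parameters. -/
theorem trace_av_moved {P : Module.End ℂ V} {r : Fin 12}
    (h : ∀ t, t ≠ 0 → LinearMap.trace ℂ V (op ρ r t * P) = 0) :
    LinearMap.trace ℂ V (av ρ r * P) = (Fintype.card F : ℂ)⁻¹ * LinearMap.trace ℂ V P := by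
  classical
  rw [av, smul_mul_assoc, map_smul, smul_eq_mul, Finset.sum_mul, map_sum,
    Finset.sum_eq_single (0 : F) (fun t _ ht => h t ht) (fun h0 => absurd (Finset.mem_univ _) h0),
    op_zero, one_mul]

/-- Conjugate root groups have fixed spaces of the same dimension. -/
theorem trace_av_conj {g : chevG2.group F} {r s : Fin 12} {η : F} (hη : η ≠ 0)
    (hg : ∀ t, g * xe r t * g⁻¹ = xe s (η * t)) :
    LinearMap.trace ℂ V (av ρ s) = LinearMap.trace ℂ V (av ρ r) := by
  have e : av ρ s = ρ g * (av ρ r * ρ g⁻¹) := by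
    rw [av, av, smul_mul_assoc, mul_smul_comm]
    congr 1
    rw [Finset.sum_mul, Finset.mul_sum]
    refine (Fintype.sum_equiv (Equiv.mulLeft₀ η hη) _ _ fun t => ?_).symm
    show ρ g * (op ρ r t * ρ g⁻¹) = op ρ s (η * t)
    rw [op, op, ← hg, map_mul, map_mul, mul_assoc]
  rw [e, LinearMap.trace_mul_comm, mul_assoc, ← map_mul, inv_mul_cancel, map_one, mul_one]

end Cfsg.Agent.SimpleFacts.MinDegG2

/-! ### Ranks of idempotents and sub-families -/

namespace Cfsg.Agent.SimpleFacts.MinDegG2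

open Cfsg.Lie Cfsg.Agent.SimpleFacts.MinDegExc
open scoped BigOperators

variable {V : Type*} [AddCommGroup V] [Module ℂ V] [FiniteDimensional ℂ V]

/-- The rank of an operator. -/
noncomputable def rk (P : Module.End ℂ V) : ℕ := Module.finrank ℂ (LinearMap.range P)

theorem rk_eq_trace {P : Module.End ℂ V} (hP : P * P = P) : LinearMap.trace ℂ V P = (rk P : ℂ) :=
  MinDegOrth.trace_proj hP

theorem rk_le_of_mul {A B : Module.End ℂ V} (h : B * A = A) : rk A ≤ rk B := by
  refine Submodule.finrank_mono ?_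
  rintro _ ⟨x, rfl⟩
  exact ⟨A x, LinearMap.congr_fun h x⟩

theorem rk_pos {P : Module.End ℂ V} (h : P ≠ 0) : 1 ≤ rk P := by
  rw [Nat.one_le_iff_ne_zero, rk, Ne, Submodule.finrank_eq_zero]
  exact fun e => h (LinearMap.range_eq_bot.1 e)

theorem eq_zero_of_rk {P : Module.End ℂ V} (h : rk P = 0) : P = 0 := by
  by_contra hne
  have := rk_pos hne
  omega

theorem rk_conj {g g' : Module.End ℂ V} (hg : g' * g = 1) (hg' : g * g' = 1) {P : Module.End ℂ V}
    (hP : P * P = P) : g * P * g' * (g * P * g') = g * P * g' ∧ rk (g * P * g') = rk P := by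
  have hI : g * P * g' * (g * P * g') = g * P * g' := by
    calc _ = g * P * (g' * g) * P * g' := by simp only [mul_assoc]
      _ = _ := by rw [hg, mul_one, mul_assoc g P P, hP]
  refine ⟨hI, ?_⟩
  have e : (rk (g * P * g') : ℂ) = (rk P : ℂ) := by
    rw [← rk_eq_trace hI, ← rk_eq_trace hP, LinearMap.trace_mul_comm, ← mul_assoc, hg, one_mul]
  exact_mod_cast e

theorem idem_comm_mul {A B : Module.End ℂ V} (hA : A * A = A) (hB : B * B = B) (h : Commute A B) :
    A * B * (A * B) = A * B := by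
  rw [← mul_assoc, mul_assoc A B A, ← h.eq, ← mul_assoc, hA, mul_assoc, hB]

variable {F : Type*} [Field F] [Fintype F] {ψ : AddChar F ℂ}
variable {ι : Type*} [Fintype ι] [DecidableEq ι] {X : ι → F → Module.End ℂ V}

theorem m_eq_rk (h : Fam X) (y : ι → F) : h.m ψ y = rk (h.P ψ y) := rfl

theorem P_eq_zero_of_m {h : Fam X} {y : ι → F} (hm : h.m ψ y = 0) : h.P ψ y = 0 := eq_zero_of_rk hm

theorem rk_le_eig (hψ : ψ ≠ 1) {h : Fam X} {A : Module.End ℂ V} {y : ι → F} (hA : Eig X ψ y A) :
    rk A ≤ h.m ψ y := by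
  classical
  exact rk_le_of_mul (by rw [h.P_eig hψ hA, if_pos rfl])

open _root_.Classical in
/-- The multiplicities of a sub-family. -/
theorem m_sub (hψ : ψ ≠ 1) (h : Fam X) {κ : Type*} [Fintype κ] [DecidableEq κ] (σ : κ → ι)
    (h' : Fam fun c t => X (σ c) t) (y : κ → F) :
    h'.P ψ y = ∑ z ∈ Finset.univ.filter (fun z : ι → F => z ∘ σ = y), h.P ψ z ∧
      h'.m ψ y = ∑ z ∈ Finset.univ.filter (fun z : ι → F => z ∘ σ = y), h.m ψ z := by
  have e : h'.P ψ y = ∑ z ∈ Finset.univ.filter (fun z : ι → F => z ∘ σ = y), h.P ψ z := by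
    conv_lhs => rw [← mul_one (h'.P ψ y), ← h.sum_P hψ, Finset.mul_sum]
    rw [Finset.sum_filter]
    exact Finset.sum_congr rfl fun z _ =>
      h'.P_eig hψ (y := z ∘ σ) (fun c t => h.X_mul_P z (σ c) t) y
  refine ⟨e, ?_⟩
  have := congrArg (LinearMap.trace ℂ V) e
  simp only [h'.trace_P hψ, map_sum, h.trace_P hψ] at this
  exact_mod_cast this

variable (ρ : Representation ℂ (chevG2.group F) V)

/-- One root group as a family. -/
theorem fam1 (r : Fin 12) : Fam fun (_ : Fin 1) t => op ρ r t where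
  zero _ := op_zero ρ r
  add _ := op_add ρ r
  comm _ _ := op_comm ρ (by simp [commPair])

/-- The projection on the vectors of character `β` of one root group. -/
noncomputable def pr1 (ψ : AddChar F ℂ) (r : Fin 12) (β : F) : Module.End ℂ V :=
  (fam1 ρ r).P ψ fun _ => β

theorem pr1_idem (hψ : ψ ≠ 1) (r : Fin 12) (β : F) : pr1 ρ ψ r β * pr1 ρ ψ r β = pr1 ρ ψ r β :=
  (fam1 ρ r).P_idem hψ _

theorem pr1_eig (r : Fin 12) (β t : F) : op ρ r t * pr1 ρ ψ r β = ψ (β * t) • pr1 ρ ψ r β :=
  (fam1 ρ r).X_mul_P _ 0 t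

theorem pr1_fix (hψ : ψ ≠ 1) {r : Fin 12} {β : F} {A : Module.End ℂ V}
    (hA : ∀ t, op ρ r t * A = ψ (β * t) • A) : pr1 ρ ψ r β * A = A := by
  classical
  rw [pr1, (fam1 ρ r).P_eig hψ (y := fun _ => β) (fun _ t => hA t), if_pos rfl]

theorem pr1_comm {r : Fin 12} {A : Module.End ℂ V} (h : ∀ t, Commute (op ρ r t) A) (β : F) :
    Commute (pr1 ρ ψ r β) A := by
  refine Commute.smul_left (Commute.sum_left _ _ _ fun w _ => Commute.smul_left ?_ _) _
  have e : w = Pi.single 0 (w 0) := funext fun i => by rw [Fin.fin_one_eq_zero i, Pi.single_eq_same]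
  rw [e, Fam.U_single]
  exact h _

theorem sum_pr1 (hψ : ψ ≠ 1) (r : Fin 12) : ∑ β : F, pr1 ρ ψ r β = 1 := by
  rw [← (fam1 ρ r).sum_P hψ]
  exact Fintype.sum_equiv (Equiv.funUnique (Fin 1) F).symm _ _ fun β => by
    rw [pr1]; congr 1

/-- The ranks of the pieces of an idempotent along one root group. -/
theorem sum_rk_pr1 (hψ : ψ ≠ 1) {r : Fin 12} {A : Module.End ℂ V} (hA : A * A = A)
    (h : ∀ t, Commute (op ρ r t) A) : ∑ β : F, rk (pr1 ρ ψ r β * A) = rk A := by
  have e : (∑ β : F, (rk (pr1 ρ ψ r β * A) : ℂ)) = (rk A : ℂ) := by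
    rw [Finset.sum_congr rfl fun β _ =>
      (rk_eq_trace (idem_comm_mul (pr1_idem ρ hψ r β) hA (pr1_comm ρ h β))).symm,
      ← map_sum, ← Finset.sum_mul, sum_pr1 ρ hψ, one_mul, rk_eq_trace hA]
  exact_mod_cast e

end Cfsg.Agent.SimpleFacts.MinDegG2
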