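import Cfsg.Agent.SimpleFacts.MinDegG2.Line

/-!
The matrix coefficient of the fixed line.
-/

set_option autoImplicit false
set_option linter.unusedSectionVars false

namespace Cfsg.Agent.SimpleFacts.MinDegG2

open Cfsg.Lie Cfsg.Agent.SimpleFacts.MinDegExc Cfsg.Agent.Chevalley.Group
open scoped BigOperators

variable {V : Type*} [AddCommGroup V] [Module ℂ V] [FiniteDimensional ℂ V]
variable {F : Type*} [Field F] [Fintype F] (ρ : Representation ℂ (chevG2.group F) V)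

/-- The coefficient. -/
noncomputable def phi (ψ : AddChar F ℂ) (g : chevG2.group F) : ℂ :=
  LinearMap.trace ℂ V (ρ g * eL ρ ψ)

theorem torChar_te (i : Fin 2) (u : Fˣ) (s : ℕ) :
    torChar chevG2 (fun j => if j = i.val then u else 1) s = u ^ chevG2.cartan i.val s := by
  rw [torChar, Finset.prod_eq_single i.val (fun j _ hj => by rw [if_neg hj, one_zpow])
    (fun h => absurd (Finset.mem_range.2 (show i.val < chevG2.rank from i.2)) h), if_pos rfl]

theorem torChar_mul (c c' : ℕ → Fˣ) (s : ℕ) :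
    torChar chevG2 (c * c') s = torChar chevG2 c s * torChar chevG2 c' s := by
  simp only [torChar, Pi.mul_apply, ← Finset.prod_mul_distrib, mul_zpow]

theorem refl_cartan : ∀ s : Fin 12,
    chevG2.cartan 0 (chevG2.reflectRoot 1 s.val) = chevG2.cartan 0 s.val + 3 * chevG2.cartan 1 s.val ∧
      chevG2.cartan 1 (chevG2.reflectRoot 1 s.val) = -chevG2.cartan 1 s.val := by
  decide +kernel

/-- The second monomial element on the first coroot. -/
theorem ne1_te0 {u : F} (hu : u ≠ 0) :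
    ne1 1 * te 0 u = te 0 u * te 1 (u ^ 3) * (ne1 1 : chevG2.group F) := by
  obtain ⟨v, rfl⟩ : ∃ v : Fˣ, (v : F) = u := ⟨Units.mk0 u hu, rfl⟩
  obtain ⟨c', e, hc'⟩ := ng_conj_tor (F := F) hC (i := 1) (by decide)
    (fun j => if j = (0 : Fin 2).val then v else 1)
  rw [← mul_inv_eq_iff_eq_mul]
  apply Subtype.ext
  simp only [Subgroup.coe_mul, Subgroup.coe_inv, ← Units.val_pow_eq_pow_val, te_eq_tor]
  refine e.trans ?_
  rw [tor_mul, tor, tor]
  refine dg_congr fun s hs => ?_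
  obtain ⟨h0, -⟩ := refl_cartan ⟨s, hs⟩
  rw [hc' s hs, torChar_mul, torChar_te, torChar_te, torChar_te]
  show v ^ chevG2.cartan 0 (chevG2.reflectRoot 1 s) = _
  rw [show chevG2.cartan 0 (chevG2.reflectRoot 1 s) = _ from h0, zpow_add, zpow_mul]
  rfl

/-- The second monomial element on the second coroot. -/
theorem ne1_te1 {u : F} (hu : u ≠ 0) :
    ne1 1 * te 1 u = te 1 u⁻¹ * (ne1 1 : chevG2.group F) := by
  obtain ⟨v, rfl⟩ : ∃ v : Fˣ, (v : F) = u := ⟨Units.mk0 u hu, rfl⟩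
  obtain ⟨c', e, hc'⟩ := ng_conj_tor (F := F) hC (i := 1) (by decide)
    (fun j => if j = (1 : Fin 2).val then v else 1)
  rw [← mul_inv_eq_iff_eq_mul]
  apply Subtype.ext
  simp only [Subgroup.coe_mul, Subgroup.coe_inv, ← Units.val_inv_eq_inv_val, te_eq_tor]
  refine e.trans ?_
  rw [tor, tor]
  refine dg_congr fun s hs => ?_
  obtain ⟨-, h1⟩ := refl_cartan ⟨s, hs⟩
  rw [hc' s hs, torChar_te, torChar_te]
  show v ^ chevG2.cartan 1 (chevG2.reflectRoot 1 s) = _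
  rw [show chevG2.cartan 1 (chevG2.reflectRoot 1 s) = _ from h1, zpow_neg, inv_zpow]
  rfl

theorem ng6_word (t : F) : te 1 t * (ne1 1 : chevG2.group F) = xe 6 t * xe 5 (-t⁻¹) * xe 6 t := by
  apply Subtype.ext
  simp only [Subgroup.coe_mul]
  exact (ng_eq_hg_mul hC _ t).symm

theorem ne1_inv : (ne1 1 : chevG2.group F)⁻¹ = te 1 (-1) * ne1 1 := by
  apply Subtype.ext
  simp only [Subgroup.coe_mul, Subgroup.coe_inv]
  exact (ng_inv hC _ 1).trans (ng_eq_hg_mul hC _ (-1))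

theorem pull {g : chevG2.group F} {r s : Fin 12} {η : F} (hη : η = 1 ∨ η = -1)
    (h : ∀ t, g * xe r t * g⁻¹ = xe s (η * t)) (v : F) : g⁻¹ * xe s v * g = xe r (η * v) := by
  have := h (η * v)
  rw [← mul_assoc η, show η * η = 1 by rcases hη with rfl | rfl <;> ring, one_mul] at this
  rw [← this]
  group

variable {ψ : AddChar F ℂ} (hψ : ψ ≠ 1) (hq : 3 ≤ Fintype.card F) (h1 : r6 ρ ψ 0 0 = 1)
include hψ hq h1

theorem eL_scalar (g : chevG2.group F) :
    eL ρ ψ * ρ g * eL ρ ψ = phi ρ ψ g • eL ρ ψ := by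
  have hI := eL_idem ρ hψ hq h1
  have ht := eL_trace ρ hψ hq h1
  have hc : Commute (eL ρ ψ * ρ g * eL ρ ψ) (eL ρ ψ) := by
    rw [commute_iff_eq, mul_assoc _ (eL ρ ψ), hI, ← mul_assoc, ← mul_assoc, hI]
  obtain ⟨α, hα⟩ := MinDegOrth.scalar_on_line hI ht hc
  rw [mul_assoc _ (eL ρ ψ), hI] at hα
  rw [hα]
  congr 1
  have := congrArg (LinearMap.trace ℂ V) hα
  rw [map_smul, ht, smul_eq_mul, mul_one, mul_assoc, LinearMap.trace_mul_comm, mul_assoc, hI] at this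
  exact this.symm

theorem phi_left {s : chevG2.group F} (hs : s ∈ fixSub ρ (eL ρ ψ)) (g : chevG2.group F) :
    phi ρ ψ (s * g) = phi ρ ψ g := by
  rw [phi, map_mul ρ, mul_assoc, LinearMap.trace_mul_comm, mul_assoc, hs.2, phi]

theorem phi_right {s : chevG2.group F} (hs : s ∈ fixSub ρ (eL ρ ψ)) (g : chevG2.group F) :
    phi ρ ψ (g * s) = phi ρ ψ g := by
  rw [phi, map_mul ρ, mul_assoc, hs.1, phi]

theorem phi_one : phi ρ ψ 1 = 1 := by rw [phi, map_one, one_mul, eL_trace ρ hψ hq h1]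

/-- The scalar of the second coroot on the line. -/
theorem phi_te1 {u : F} (hu : u ≠ 0) (g : chevG2.group F) :
    phi ρ ψ (te 1 u * g) = phi ρ ψ (te 1 u) * phi ρ ψ g ∧
      phi ρ ψ (g * te 1 u) = phi ρ ψ (te 1 u) * phi ρ ψ g := by
  have hI := eL_idem ρ hψ hq h1
  have e : ρ (te 1 u) * eL ρ ψ = phi ρ ψ (te 1 u) • eL ρ ψ := by
    rw [← eL_scalar ρ hψ hq h1, ← (eL_te_comm ρ hψ hq h1 1 hu).eq, mul_assoc, hI]
  constructor
  · rw [phi, map_mul ρ, mul_assoc, LinearMap.trace_mul_comm, mul_assoc,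
      ← (eL_te_comm ρ hψ hq h1 1 hu).eq, e, mul_smul_comm, map_smul, smul_eq_mul]
    rfl
  · rw [phi, map_mul ρ, mul_assoc, e, mul_smul_comm, map_smul, smul_eq_mul]
    rfl

theorem key_left :
    ∑ u : F, op ρ 6 u * (ρ (ne1 1) * eL ρ ψ) =
      ((Fintype.card F : ℂ) * phi ρ ψ (ne1 1)) • eL ρ ψ := by
  obtain ⟨X, hX⟩ : ∃ X, X = ∑ u : F, op ρ 6 u * (ρ (ne1 1) * eL ρ ψ) := ⟨_, rfl⟩
  rw [← hX]
  obtain ⟨e7, h7, c7⟩ := ne1_conj (F := F) 1 7 (s := 8) (by decide +kernel)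
  obtain ⟨e9, h9, c9⟩ := ne1_conj (F := F) 1 9 (s := 9) (by decide +kernel)
  obtain ⟨e10, h10, c10⟩ := ne1_conj (F := F) 1 10 (s := 11) (by decide +kernel)
  obtain ⟨e11, h11, c11⟩ := ne1_conj (F := F) 1 11 (s := 10) (by decide +kernel)
  have hS := fun r hr t => eL_xe ρ hψ hq h1 r hr t
  have push1 : ∀ (g : chevG2.group F), (ne1 1)⁻¹ * g * ne1 1 ∈ fixSub ρ (eL ρ ψ) →
      ρ g * (ρ (ne1 1) * eL ρ ψ) = ρ (ne1 1) * eL ρ ψ := fun g hg => by
    rw [← mul_assoc, ← map_mul, show g * ne1 1 = ne1 1 * ((ne1 1)⁻¹ * g * ne1 1) by group, map_mul,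
      mul_assoc, hg.1]
  have hR : ∀ r : Fin 12, r ∈ [8, 9, 10, 11] → ∀ t,
      ρ (xe r t) * (ρ (ne1 1) * eL ρ ψ) = ρ (ne1 1) * eL ρ ψ := by
    intro r hr t
    simp only [List.mem_cons, List.not_mem_nil, or_false] at hr
    refine push1 _ ?_
    rcases hr with rfl | rfl | rfl | rfl
    · rw [pull h7 c7]; exact hS 7 (by decide) _
    · rw [pull h9 c9]; exact hS 9 (by decide) _
    · rw [pull h11 c11]; exact hS 11 (by decide) _
    · rw [pull h10 c10]; exact hS 10 (by decide) _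
  have hfix : rad F ≤ fixL ρ X := by
    refine rad_le fun r hr t => ?_
    show ρ (xe r t) * X = X
    rw [hX, Finset.mul_sum]
    simp only [List.mem_cons, List.not_mem_nil, or_false] at hr
    rcases hr with rfl | rfl | rfl | rfl | rfl
    · exact Fintype.sum_equiv (Equiv.addLeft t) _ _ fun u => by
        rw [Equiv.coe_addLeft, op_add, mul_assoc]
    · refine Finset.sum_congr rfl fun u _ => ?_
      rw [← mul_assoc, show ρ (xe 8 t) * op ρ 6 u = op ρ 6 u * op ρ 8 t from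
        (op_comm ρ (by decide +kernel) t u).eq, mul_assoc, hR 8 (by decide)]
    · refine Finset.sum_congr rfl fun u _ => ?_
      rw [← mul_assoc, show ρ (xe 9 t) * op ρ 6 u = op ρ 6 u * op ρ 9 t from
        (op_comm ρ (by decide +kernel) t u).eq, mul_assoc, hR 9 (by decide)]
    · refine Finset.sum_congr rfl fun u _ => ?_
      have e : xe 10 t * xe 6 u = xe 6 u * (xe 10 t * xe 11 (-u * t)) := by
        rw [← conj_6_10, ← xe_inv, inv_inv]; group
      rw [← mul_assoc, ← map_mul, e, map_mul, map_mul, mul_assoc, mul_assoc, hR 11 (by decide),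
        hR 10 (by decide)]
    · refine Finset.sum_congr rfl fun u _ => ?_
      rw [← mul_assoc, show ρ (xe 11 t) * op ρ 6 u = op ρ 6 u * op ρ 11 t from
        (op_comm ρ (by decide +kernel) t u).eq, mul_assoc, hR 11 (by decide)]
  rw [← avR_eq_of_left ρ hfix, ← eL_eq_avR ρ hψ hq h1, hX, Finset.mul_sum,
    Finset.sum_congr rfl (g := fun _ => phi ρ ψ (ne1 1) • eL ρ ψ) fun u _ => by
      rw [← mul_assoc, show eL ρ ψ * op ρ 6 u = eL ρ ψ from (hS 6 (by decide) u).2, ← mul_assoc,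
        eL_scalar ρ hψ hq h1],
    Finset.sum_const, Finset.card_univ, ← Nat.cast_smul_eq_nsmul ℂ, smul_smul]

theorem key_right :
    eL ρ ψ * ρ (ne1 1) * av ρ 6 = phi ρ ψ (ne1 1) • eL ρ ψ := by
  obtain ⟨Y, hY⟩ : ∃ Y, Y = eL ρ ψ * ρ (ne1 1) * av ρ 6 := ⟨_, rfl⟩
  rw [← hY]
  obtain ⟨e8, h8, c8⟩ := ne1_conj (F := F) 1 8 (s := 7) (by decide +kernel)
  obtain ⟨e9, h9, c9⟩ := ne1_conj (F := F) 1 9 (s := 9) (by decide +kernel)
  obtain ⟨e10, h10, c10⟩ := ne1_conj (F := F) 1 10 (s := 11) (by decide +kernel)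
  obtain ⟨e11, h11, c11⟩ := ne1_conj (F := F) 1 11 (s := 10) (by decide +kernel)
  have hS := fun r hr t => eL_xe ρ hψ hq h1 r hr t
  have hR : ∀ r : Fin 12, r ∈ [8, 9, 10, 11] → ∀ t,
      eL ρ ψ * ρ (ne1 1) * ρ (xe r t) = eL ρ ψ * ρ (ne1 1) := by
    intro r hr t
    have push1 : ne1 1 * xe r t * (ne1 1)⁻¹ ∈ fixSub ρ (eL ρ ψ) := by
      simp only [List.mem_cons, List.not_mem_nil, or_false] at hr
      rcases hr with rfl | rfl | rfl | rfl
      · rw [c8]; exact hS 7 (by decide) _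
      · rw [c9]; exact hS 9 (by decide) _
      · rw [c10]; exact hS 11 (by decide) _
      · rw [c11]; exact hS 10 (by decide) _
    rw [mul_assoc, ← map_mul, show ne1 1 * xe r t = (ne1 1 * xe r t * (ne1 1)⁻¹) * ne1 1 by group,
      map_mul, ← mul_assoc, push1.2]
  have hc : ∀ r : Fin 12, commPair 6 r = true → ∀ t, Commute (av ρ 6) (ρ (xe r t)) :=
    fun r hr t => av_comm ρ fun s => op_comm ρ hr s t
  have hfix : rad F ≤ fixR ρ Y := by
    refine rad_le fun r hr t => ?_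
    show Y * ρ (xe r t) = Y
    rw [hY]
    simp only [List.mem_cons, List.not_mem_nil, or_false] at hr
    rcases hr with rfl | rfl | rfl | rfl | rfl
    · rw [mul_assoc, (hc 6 (by decide +kernel) t).eq, op_mul_av]
    · rw [mul_assoc, (hc 8 (by decide +kernel) t).eq, ← mul_assoc, hR 8 (by decide)]
    · rw [mul_assoc, (hc 9 (by decide +kernel) t).eq, ← mul_assoc, hR 9 (by decide)]
    · have e : ∀ u, op ρ 6 u * ρ (xe 10 t) = ρ (xe 10 t) * (ρ (xe 11 (u * t)) * op ρ 6 u) := fun u => by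
        rw [op, ← map_mul, ← map_mul, ← map_mul]
        congr 1
        rw [← mul_assoc, ← conj_6_10]
        group
      simp only [av, mul_smul_comm, smul_mul_assoc, Finset.mul_sum, Finset.sum_mul]
      congr 1
      refine Finset.sum_congr rfl fun u _ => ?_
      rw [mul_assoc, e, ← mul_assoc (eL ρ ψ * ρ (ne1 1)), hR 10 (by decide), ← mul_assoc,
        hR 11 (by decide)]
    · rw [mul_assoc, (hc 11 (by decide +kernel) t).eq, ← mul_assoc, hR 11 (by decide)]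
  rw [← avR_eq_of_right ρ hfix, ← eL_eq_avR ρ hψ hq h1, hY, mul_assoc _ (av ρ 6)]
  have e6 : av ρ 6 * eL ρ ψ = eL ρ ψ := by
    rw [eL, ← mul_assoc, av_idem]
  rw [e6, eL_scalar ρ hψ hq h1]

/-- Multiplication by the second monomial element. -/
theorem phi_ne_mul (g : chevG2.group F)
    (hg : ∀ u, g⁻¹ * xe 6 u * g ∈ fixSub ρ (eL ρ ψ)) :
    phi ρ ψ (ne1 1 * g) = phi ρ ψ (ne1 1) * phi ρ ψ g := by
  have hI := eL_idem ρ hψ hq h1
  have e : av ρ 6 * (ρ g * eL ρ ψ) = ρ g * eL ρ ψ := by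
    rw [av, smul_mul_assoc, Finset.sum_mul, Finset.sum_congr rfl (g := fun _ => ρ g * eL ρ ψ)
      fun u _ => by
        rw [← mul_assoc, op, ← map_mul, show xe 6 u * g = g * (g⁻¹ * xe 6 u * g) by group, map_mul,
          mul_assoc, (hg u).1],
      Finset.sum_const, Finset.card_univ, ← Nat.cast_smul_eq_nsmul ℂ, smul_smul,
      inv_mul_cancel₀ (q_ne (F := F)), one_smul]
  have t : phi ρ ψ (ne1 1 * g) =
      LinearMap.trace ℂ V (eL ρ ψ * ρ (ne1 1) * (ρ g * eL ρ ψ)) := by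
    rw [mul_assoc, LinearMap.trace_mul_comm, mul_assoc, mul_assoc, hI, ← mul_assoc, ← map_mul]
    rfl
  rw [t, ← e, ← mul_assoc, key_right ρ hψ hq h1, smul_mul_assoc, map_smul, smul_eq_mul,
    LinearMap.trace_mul_comm, mul_assoc, hI]
  rfl

open _root_.Classical in
/-- The value at the second monomial element. -/
theorem phi_ne1 :
    (∀ u : F, u ≠ 0 → phi ρ ψ (te 1 u) = 1) ∧
      (phi ρ ψ (ne1 1) = 1 ∨ phi ρ ψ (ne1 1) = -(Fintype.card F : ℂ)⁻¹) := by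
  obtain ⟨c, hc⟩ : ∃ c, c = phi ρ ψ (ne1 1) := ⟨_, rfl⟩
  rw [← hc]
  have hI := eL_idem ρ hψ hq h1
  obtain ⟨e5, h5, c5⟩ := ne1_conj (F := F) 1 5 (s := 6) (by decide +kernel)
  have h5' : e5 ≠ 0 := by rcases h5 with rfl | rfl <;> simp
  have x5 : ∀ w : F, w ≠ 0 → phi ρ ψ (xe 5 w) = phi ρ ψ (te 1 (-w⁻¹)) * c := by
    intro w hw
    have h6 := fun t => eL_xe ρ hψ hq h1 6 (by decide) t
    have hw' : -w⁻¹ ≠ 0 := neg_ne_zero.2 (inv_ne_zero hw)
    rw [hc, ← (phi_te1 ρ hψ hq h1 hw' (ne1 1)).1, ng6_word, inv_neg, inv_inv, neg_neg,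
      phi_right ρ hψ hq h1 (h6 _), phi_left ρ hψ hq h1 (h6 _)]
  have hinv : phi ρ ψ (ne1 1)⁻¹ = phi ρ ψ (te 1 (-1)) * c := by
    rw [ne1_inv, (phi_te1 ρ hψ hq h1 (neg_ne_zero.2 one_ne_zero) _).1, hc]
  have key : 1 + c * ∑ w ∈ (Finset.univ : Finset F).erase 0, phi ρ ψ (te 1 (-w⁻¹)) =
      (Fintype.card F : ℂ) * c * (phi ρ ψ (te 1 (-1)) * c) := by
    have h := congrArg (fun A => LinearMap.trace ℂ V (eL ρ ψ * ρ (ne1 1)⁻¹ * A))
      (key_left ρ hψ hq h1)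
    have t1 : ∀ u, LinearMap.trace ℂ V (eL ρ ψ * ρ (ne1 1)⁻¹ * (op ρ 6 u * (ρ (ne1 1) * eL ρ ψ))) =
        phi ρ ψ (xe 5 (e5 * u)) := by
      intro u
      rw [mul_assoc, LinearMap.trace_mul_comm, mul_assoc, mul_assoc, mul_assoc, hI, ← mul_assoc,
        ← mul_assoc, op, ← map_mul, ← map_mul, pull h5 c5]
      rfl
    have t2 : LinearMap.trace ℂ V (eL ρ ψ * ρ (ne1 1)⁻¹ * eL ρ ψ) = phi ρ ψ (ne1 1)⁻¹ := by
      rw [eL_scalar ρ hψ hq h1, map_smul, eL_trace ρ hψ hq h1, smul_eq_mul, mul_one]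
    simp only [Finset.mul_sum, map_sum, t1, mul_smul_comm, map_smul, smul_eq_mul, t2] at h
    rw [Fintype.sum_equiv (Equiv.mulLeft₀ e5 h5') (fun u => phi ρ ψ (xe 5 (e5 * u)))
      (fun w => phi ρ ψ (xe 5 w)) (fun _ => rfl), ← Finset.add_sum_erase _ _ (Finset.mem_univ (0 : F)),
      xe_zero, phi_one ρ hψ hq h1, hinv] at h
    rw [← hc] at h
    rw [← h, Finset.mul_sum]
    congr 1
    exact Finset.sum_congr rfl fun w hw => by rw [x5 w (Finset.ne_of_mem_erase hw), mul_comm]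
  have hc0 : c ≠ 0 := fun h0 => by simp [h0] at key
  have r0 : ∀ u : F, u ≠ 0 → phi ρ ψ (te 1 (u ^ 3)) = 1 := by
    intro u hu
    have e : phi ρ ψ (ne1 1 * te 0 u) = c :=
      (phi_right ρ hψ hq h1 (eL_te0 ρ hψ hq h1 u) _).trans hc.symm
    rw [ne1_te0 hu, mul_assoc, phi_left ρ hψ hq h1 (eL_te0 ρ hψ hq h1 u),
      (phi_te1 ρ hψ hq h1 (pow_ne_zero 3 hu) _).1, ← hc] at e
    exact (mul_eq_right₀ hc0).1 e
  have r1 : ∀ u : F, u ≠ 0 → phi ρ ψ (te 1 u) = phi ρ ψ (te 1 u⁻¹) := by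
    intro u hu
    have e := (phi_te1 ρ hψ hq h1 hu (ne1 1)).2
    rw [ne1_te1 hu, (phi_te1 ρ hψ hq h1 (inv_ne_zero hu) _).1, ← hc] at e
    exact (mul_right_cancel₀ hc0 e).symm
  have hθ : ∀ u : F, u ≠ 0 → phi ρ ψ (te 1 u) = 1 := by
    intro u hu
    have hm : ∀ v w : F, v ≠ 0 → w ≠ 0 →
        phi ρ ψ (te 1 (v * w)) = phi ρ ψ (te 1 v) * phi ρ ψ (te 1 w) := fun v w hv hw => by
      rw [te_mul 1 hv hw, (phi_te1 ρ hψ hq h1 hv _).1]
    have e2 : phi ρ ψ (te 1 u) * phi ρ ψ (te 1 u) = 1 := by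
      nth_rw 2 [r1 u hu]
      rw [← hm u u⁻¹ hu (inv_ne_zero hu), mul_inv_cancel₀ hu, te_one, phi_one ρ hψ hq h1]
    have e3 : phi ρ ψ (te 1 u) * phi ρ ψ (te 1 u) * phi ρ ψ (te 1 u) = 1 := by
      rw [← hm u u hu hu, ← hm (u * u) u (mul_ne_zero hu hu) hu, ← r0 u hu]
      congr 1
      ring_nf
    rwa [e2, one_mul] at e3
  refine ⟨hθ, ?_⟩
  rw [hθ _ (neg_ne_zero.2 one_ne_zero),
    Finset.sum_congr rfl (g := fun _ => (1 : ℂ)) fun w hw =>
      hθ _ (neg_ne_zero.2 (inv_ne_zero (Finset.ne_of_mem_erase hw))),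
    Finset.sum_const, Finset.card_erase_of_mem (Finset.mem_univ _), Finset.card_univ,
    nsmul_eq_mul, mul_one, Nat.cast_sub (by omega), Nat.cast_one] at key
  have : (c - 1) * ((Fintype.card F : ℂ) * c + 1) = 0 := by linear_combination -key
  rcases mul_eq_zero.1 this with h | h
  · exact Or.inl (sub_eq_zero.1 h)
  · right
    have hq0 := q_ne (F := F)
    field_simp
    linear_combination h

end Cfsg.Agent.SimpleFacts.MinDegG2
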