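import Cfsg.Agent.SimpleFacts.MinDegG2.Rep

/-!
Characteristic three: the characters of the abelian radical on the roots 8, 9, 10, 11 and their
multiplicities.
-/

set_option autoImplicit false
set_option linter.unusedSectionVars false

namespace Cfsg.Agent.SimpleFacts.MinDegG2

open Cfsg.Lie Cfsg.Agent.SimpleFacts.MinDegExc
open scoped BigOperators

variable {V : Type*} [AddCommGroup V] [Module ℂ V] [FiniteDimensional ℂ V]
variable {F : Type*} [Field F] [Fintype F] (ρ : Representation ℂ (chevG2.group F) V)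
variable {ψ : AddChar F ℂ} (h3 : (3 : F) = 0) (hψ : ψ ≠ 1)

theorem te_one (i : Fin 2) : te i (1 : F) = 1 := by
  have h := te_mul i (one_ne_zero (α := F)) one_ne_zero
  rw [mul_one] at h
  exact left_eq_mul.1 h

theorem te_inv (i : Fin 2) {u : F} (hu : u ≠ 0) : (te i u)⁻¹ = te i u⁻¹ := by
  refine inv_eq_of_mul_eq_one_right ?_
  rw [← te_mul i hu (inv_ne_zero hu), mul_inv_cancel₀ hu, te_one]

theorem te_conj' (i : Fin 2) (r : Fin 12) {u : F} (hu : u ≠ 0) (t : F) :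
    (te i u⁻¹)⁻¹ * xe r t * te i u⁻¹ = xe r (u ^ chevG2.cartan i.val r.val * t) := by
  rw [← te_inv i hu, inv_inv]
  exact te_conj i r hu t

/-- The roots of the abelian radical. -/
def R4 : Fin 4 → Fin 12 := ![8, 9, 10, 11]

include h3 in
theorem fam4 : Fam fun b t => op ρ (R4 b) t where
  zero b := op_zero ρ _
  add b := op_add ρ _
  comm b c := op_comm3 ρ h3 (by revert b c; decide +kernel)

/-- The roots 8, 9, 11. -/
def sQ : Fin 3 → Fin 4 := ![0, 1, 3]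

/-- The roots 9, 10, 11. -/
def sR : Fin 3 → Fin 4 := ![1, 2, 3]

include h3 in
theorem famQ : Fam fun b t => op ρ (R4 (sQ b)) t where
  zero b := op_zero ρ _
  add b := op_add ρ _
  comm b c := op_comm3 ρ h3 (by revert b c; decide +kernel)

include h3 in
theorem famR : Fam fun b t => op ρ (R4 (sR b)) t where
  zero b := op_zero ρ _
  add b := op_add ρ _
  comm b c := op_comm3 ρ h3 (by revert b c; decide +kernel)

/-- The projections. -/
noncomputable def P4 (ψ : AddChar F ℂ) (a b c d : F) : Module.End ℂ V :=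
  (fam4 ρ h3).P ψ ![a, b, c, d]

/-- The multiplicities. -/
noncomputable def N (ψ : AddChar F ℂ) (a b c d : F) : ℕ := (fam4 ρ h3).m ψ ![a, b, c, d]

theorem N_eq_rk (a b c d : F) : N ρ h3 ψ a b c d = rk (P4 ρ h3 ψ a b c d) := rfl

theorem P4_8 (a b c d t : F) : op ρ 8 t * P4 ρ h3 ψ a b c d = ψ (a * t) • P4 ρ h3 ψ a b c d :=
  (fam4 ρ h3).X_mul_P ![a, b, c, d] 0 t

theorem P4_9 (a b c d t : F) : op ρ 9 t * P4 ρ h3 ψ a b c d = ψ (b * t) • P4 ρ h3 ψ a b c d :=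
  (fam4 ρ h3).X_mul_P ![a, b, c, d] 1 t

theorem P4_10 (a b c d t : F) : op ρ 10 t * P4 ρ h3 ψ a b c d = ψ (c * t) • P4 ρ h3 ψ a b c d :=
  (fam4 ρ h3).X_mul_P ![a, b, c, d] 2 t

theorem P4_11 (a b c d t : F) : op ρ 11 t * P4 ρ h3 ψ a b c d = ψ (d * t) • P4 ρ h3 ψ a b c d :=
  (fam4 ρ h3).X_mul_P ![a, b, c, d] 3 t

theorem eta4 (z : Fin 4 → F) : ![z 0, z 1, z 2, z 3] = z := funext fun i => by fin_cases i <;> rfl

theorem eta3 (z : Fin 3 → F) : ![z 0, z 1, z 2] = z := funext fun i => by fin_cases i <;> rfl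

theorem vec4_eq {a b c d a' b' c' d' : F} :
    (![a, b, c, d] : Fin 4 → F) = ![a', b', c', d'] ↔ a = a' ∧ b = b' ∧ c = c' ∧ d = d' :=
  ⟨fun h => ⟨congrFun h 0, congrFun h 1, congrFun h 2, congrFun h 3⟩,
    fun ⟨h0, h1, h2, h3⟩ => by subst h0 h1 h2 h3; rfl⟩

include hψ

theorem P4_idem (a b c d : F) : P4 ρ h3 ψ a b c d * P4 ρ h3 ψ a b c d = P4 ρ h3 ψ a b c d :=
  (fam4 ρ h3).P_idem hψ _

/-! ### The moves -/

theorem mv6 (u : F) :
    Moves (fam4 ρ h3) ψ (ρ (xe 6 u)) fun z => ![z 0, z 1, z 2 - u * z 3, z 3] := by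
  refine moves_of ρ _ (fun z z' e => ?_) fun z b v => ?_
  · obtain ⟨e0, e1, e2, e3⟩ := vec4_eq.1 e
    rw [e3] at e2
    rw [← eta4 z, ← eta4 z', e0, e1, e3, sub_left_injective e2]
  have e : (xe 6 u)⁻¹ * xe (R4 b) v * xe 6 u =
      ![xe 8 v, xe 9 v, xe 10 v * xe 11 (-u * v), xe 11 v] b := by
    have c : ∀ r : Fin 12, commPair 6 r = true → (xe 6 u)⁻¹ * xe r v * xe 6 u = xe r v := fun r hr => by
      rw [mul_assoc, ← (xe_comm hr u v).eq, inv_mul_cancel_left]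
    fin_cases b
    · exact c _ (by decide +kernel)
    · exact c _ (by decide +kernel)
    · show (xe 6 u)⁻¹ * xe 10 v * xe 6 u = xe 10 v * xe 11 (-u * v)
      rw [← conj_6_10, ← xe_inv, inv_inv]
    · exact c _ (by decide +kernel)
  rw [e]
  fin_cases b
  · exact (fam4 ρ h3).X_mul_P z 0 v
  · exact (fam4 ρ h3).X_mul_P z 1 v
  · show ρ (xe 10 v * xe 11 (-u * v)) * _ = ψ ((z 2 - u * z 3) * v) • _
    rw [map_mul]
    refine (eig_mul ((fam4 ρ h3).X_mul_P z 2 v) ((fam4 ρ h3).X_mul_P z 3 (-u * v))).trans ?_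
    rw [← AddChar.map_add_eq_mul]
    congr 2
    ring
  · exact (fam4 ρ h3).X_mul_P z 3 v

theorem mv7 (t : F) :
    Moves (fam4 ρ h3) ψ (ρ (xe 7 t)) fun z => ![z 0 + 2 * t * z 1, z 1, z 2, z 3] := by
  refine moves_of ρ _ (fun z z' e => ?_) fun z b v => ?_
  · obtain ⟨e0, e1, e2, e3⟩ := vec4_eq.1 e
    rw [e1] at e0
    rw [← eta4 z, ← eta4 z', e1, e2, e3, add_left_injective _ e0]
  have e : (xe 7 t)⁻¹ * xe (R4 b) v * xe 7 t =
      ![xe 8 v * xe 9 (2 * t * v), xe 9 v, xe 10 v, xe 11 v] b := by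
    fin_cases b
    · show (xe 7 t)⁻¹ * xe 8 v * xe 7 t = xe 8 v * xe 9 (2 * t * v)
      have h := conj_7_8 (-t) v
      rw [← xe_inv, inv_inv] at h
      rw [h, h3]
      simp only [neg_zero, zero_mul, xe_zero, mul_one]
      congr 2
      ring
    · show (xe 7 t)⁻¹ * xe 9 v * xe 7 t = xe 9 v
      rw [mul_assoc, ← (xe_comm3 h3 (r := 7) (s := 9) (by decide +kernel) t v).eq, inv_mul_cancel_left]
    · show (xe 7 t)⁻¹ * xe 10 v * xe 7 t = xe 10 v
      rw [mul_assoc, ← (xe_comm (r := 7) (s := 10) (by decide +kernel) t v).eq, inv_mul_cancel_left]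
    · show (xe 7 t)⁻¹ * xe 11 v * xe 7 t = xe 11 v
      rw [mul_assoc, ← (xe_comm (r := 7) (s := 11) (by decide +kernel) t v).eq, inv_mul_cancel_left]
  rw [e]
  fin_cases b
  · show ρ (xe 8 v * xe 9 (2 * t * v)) * _ = ψ ((z 0 + 2 * t * z 1) * v) • _
    rw [map_mul]
    refine (eig_mul ((fam4 ρ h3).X_mul_P z 0 v) ((fam4 ρ h3).X_mul_P z 1 (2 * t * v))).trans ?_
    rw [← AddChar.map_add_eq_mul]
    congr 2
    ring
  · exact (fam4 ρ h3).X_mul_P z 1 v
  · exact (fam4 ρ h3).X_mul_P z 2 v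
  · exact (fam4 ρ h3).X_mul_P z 3 v

omit hψ in
theorem cartan_R4 : ∀ b : Fin 4, (chevG2.cartan 0 (R4 b).val, chevG2.cartan 1 (R4 b).val) =
    (![(-1, 1), (1, 0), (3, -1), (0, 1)] : Fin 4 → ℤ × ℤ) b := by
  decide +kernel

theorem mvt (i : Fin 2) {u : F} (hu : u ≠ 0) :
    Moves (fam4 ρ h3) ψ (ρ (te i u⁻¹)) fun z b => u ^ chevG2.cartan i.val (R4 b).val * z b := by
  refine moves_of ρ _ (fun z z' e => funext fun b => ?_) fun z b v => ?_
  · exact mul_left_cancel₀ (zpow_ne_zero _ hu) (congrFun e b)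
  rw [te_conj' i (R4 b) hu]
  refine ((fam4 ρ h3).X_mul_P z b _).trans ?_
  congr 2
  ring

theorem mQ4 (t : F) :
    Moves (famQ ρ h3) ψ (ρ (xe 4 t)) fun z => ![z 0, z 1 + 2 * t * z 0, z 2] := by
  refine moves_of ρ _ (fun z z' e => ?_) fun z b v => ?_
  · have e0 : z 0 = z' 0 := congrFun e 0
    have e1 : z 1 + 2 * t * z 0 = z' 1 + 2 * t * z' 0 := congrFun e 1
    have e2 : z 2 = z' 2 := congrFun e 2
    rw [e0] at e1
    rw [← eta3 z, ← eta3 z', e0, e2, add_left_injective _ e1]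
  have e : (xe 4 t)⁻¹ * xe (R4 (sQ b)) v * xe 4 t =
      ![xe 8 v, xe 9 v * xe 8 (2 * t * v), xe 11 v] b := by
    fin_cases b
    · show (xe 4 t)⁻¹ * xe 8 v * xe 4 t = xe 8 v
      rw [mul_assoc, ← (xe_comm3 h3 (r := 4) (s := 8) (by decide +kernel) t v).eq, inv_mul_cancel_left]
    · show (xe 4 t)⁻¹ * xe 9 v * xe 4 t = xe 9 v * xe 8 (2 * t * v)
      have h := conj_4_9 (-t) v
      rw [← xe_inv, inv_inv] at h
      rw [h, h3]
      simp only [neg_zero, zero_mul, xe_zero, mul_one]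
      congr 2
      ring
    · show (xe 4 t)⁻¹ * xe 11 v * xe 4 t = xe 11 v
      rw [mul_assoc, ← (xe_comm (r := 4) (s := 11) (by decide +kernel) t v).eq, inv_mul_cancel_left]
  rw [e]
  fin_cases b
  · exact (famQ ρ h3).X_mul_P z 0 v
  · show ρ (xe 9 v * xe 8 (2 * t * v)) * _ = ψ ((z 1 + 2 * t * z 0) * v) • _
    rw [map_mul]
    refine (eig_mul ((famQ ρ h3).X_mul_P z 1 v) ((famQ ρ h3).X_mul_P z 0 (2 * t * v))).trans ?_
    rw [← AddChar.map_add_eq_mul]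
    congr 2
    ring
  · exact (famQ ρ h3).X_mul_P z 2 v

theorem mR5 (t : F) :
    Moves (famR ρ h3) ψ (ρ (xe 5 t)) fun z => ![z 0, z 1, z 2 - t * z 1] := by
  refine moves_of ρ _ (fun z z' e => ?_) fun z b v => ?_
  · have e0 : z 0 = z' 0 := congrFun e 0
    have e1 : z 1 = z' 1 := congrFun e 1
    have e2 : z 2 - t * z 1 = z' 2 - t * z' 1 := congrFun e 2
    rw [e1] at e2
    rw [← eta3 z, ← eta3 z', e0, e1, sub_left_injective e2]
  have e : (xe 5 t)⁻¹ * xe (R4 (sR b)) v * xe 5 t =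
      ![xe 9 v, xe 10 v, xe 11 v * xe 10 (-t * v)] b := by
    fin_cases b
    · show (xe 5 t)⁻¹ * xe 9 v * xe 5 t = xe 9 v
      rw [mul_assoc, ← (xe_comm (r := 5) (s := 9) (by decide +kernel) t v).eq, inv_mul_cancel_left]
    · show (xe 5 t)⁻¹ * xe 10 v * xe 5 t = xe 10 v
      rw [mul_assoc, ← (xe_comm (r := 5) (s := 10) (by decide +kernel) t v).eq, inv_mul_cancel_left]
    · show (xe 5 t)⁻¹ * xe 11 v * xe 5 t = xe 11 v * xe 10 (-t * v)
      rw [← conj_5_11, ← xe_inv, inv_inv]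
  rw [e]
  fin_cases b
  · exact (famR ρ h3).X_mul_P z 0 v
  · exact (famR ρ h3).X_mul_P z 1 v
  · show ρ (xe 11 v * xe 10 (-t * v)) * _ = ψ ((z 2 - t * z 1) * v) • _
    rw [map_mul]
    refine (eig_mul ((famR ρ h3).X_mul_P z 2 v) ((famR ρ h3).X_mul_P z 1 (-t * v))).trans ?_
    rw [← AddChar.map_add_eq_mul]
    congr 2
    ring

/-! ### The multiplicities -/

theorem N_mv6 (u a b c d : F) : N ρ h3 ψ a b (c - u * d) d = N ρ h3 ψ a b c d := by
  have := m_moves ρ hψ (mv6 ρ h3 hψ u) ![a, b, c, d]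
  simpa [N] using this

theorem N_mv7 (t a b c d : F) : N ρ h3 ψ (a + 2 * t * b) b c d = N ρ h3 ψ a b c d := by
  have := m_moves ρ hψ (mv7 ρ h3 hψ t) ![a, b, c, d]
  simpa [N] using this

theorem N_te0 {u : F} (hu : u ≠ 0) (a b c d : F) :
    N ρ h3 ψ (u⁻¹ * a) (u * b) (u ^ 3 * c) d = N ρ h3 ψ a b c d := by
  have e := m_moves ρ hψ (mvt ρ h3 hψ 0 hu) ![a, b, c, d]
  refine Eq.trans ?_ e
  rw [N]
  congr 1
  funext i
  have hc := congrArg Prod.fst (cartan_R4 i)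
  simp only at hc
  simp only [Fin.val_zero, hc]
  fin_cases i <;> simp [zpow_ofNat]

theorem N_te1 {u : F} (hu : u ≠ 0) (a b c d : F) :
    N ρ h3 ψ (u * a) b (u⁻¹ * c) (u * d) = N ρ h3 ψ a b c d := by
  have e := m_moves ρ hψ (mvt ρ h3 hψ 1 hu) ![a, b, c, d]
  refine Eq.trans ?_ e
  rw [N]
  congr 1
  funext i
  have hc := congrArg Prod.snd (cartan_R4 i)
  simp only at hc
  simp only [Fin.val_one, hc]
  fin_cases i <;> simp

theorem N_d {d : F} (hd : d ≠ 0) (a b c : F) : N ρ h3 ψ a b c d = N ρ h3 ψ a b 0 d := by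
  conv_rhs => rw [show (0 : F) = c - c / d * d by field_simp; ring]
  exact (N_mv6 ρ h3 hψ (c / d) a b c d).symm

theorem N_b {b : F} (hb : b ≠ 0) (a c d : F) : N ρ h3 ψ a b c d = N ρ h3 ψ 0 b c d := by
  conv_rhs => rw [show (0 : F) = a + 2 * (a / b) * b by field_simp; linear_combination -a * h3]
  exact (N_mv7 ρ h3 hψ (a / b) a b c d).symm

/-- The generic multiplicity. -/
noncomputable def nu (ψ : AddChar F ℂ) : ℕ := N ρ h3 ψ 0 1 0 1

/-- The multiplicity of the characters trivial outside the highest long root. -/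
noncomputable def nu0 (ψ : AddChar F ℂ) : ℕ := N ρ h3 ψ 0 0 0 1

/-- The multiplicity of the characters trivial outside the highest short root. -/
noncomputable def mu0 (ψ : AddChar F ℂ) : ℕ := N ρ h3 ψ 0 1 0 0

theorem N_bd {b d : F} (hb : b ≠ 0) (hd : d ≠ 0) (a c : F) : N ρ h3 ψ a b c d = nu ρ h3 ψ := by
  rw [N_b ρ h3 hψ hb, N_d ρ h3 hψ hd, nu]
  conv_rhs => rw [← N_te0 ρ h3 hψ hb 0 1 0 1, ← N_te1 ρ h3 hψ hd]
  simp

theorem N_nu0 {d : F} (hd : d ≠ 0) (c : F) : N ρ h3 ψ 0 0 c d = nu0 ρ h3 ψ := by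
  rw [N_d ρ h3 hψ hd, nu0, ← N_te1 ρ h3 hψ hd 0 0 0 1]
  simp

theorem N_mu0 {b : F} (hb : b ≠ 0) (a : F) : N ρ h3 ψ a b 0 0 = mu0 ρ h3 ψ := by
  rw [N_b ρ h3 hψ hb, mu0, ← N_te0 ρ h3 hψ hb 0 1 0 0]
  simp

theorem mQ_eq (a b d : F) : (famQ ρ h3).m ψ ![a, b, d] = ∑ c : F, N ρ h3 ψ a b c d := by
  classical
  rw [(m_sub hψ (fam4 ρ h3) sQ (famQ ρ h3) _).2]
  refine Finset.sum_bij' (fun z _ => z 2) (fun c _ => ![a, b, c, d]) (fun _ _ => Finset.mem_univ _)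
    (fun c _ => ?_) (fun z hz => ?_) (fun _ _ => rfl) (fun z hz => ?_)
  · rw [Finset.mem_filter]
    exact ⟨Finset.mem_univ _, funext fun i => by fin_cases i <;> rfl⟩
  all_goals
    rw [Finset.mem_filter] at hz
    have e0 : z 0 = a := congrFun hz.2 0
    have e1 : z 1 = b := congrFun hz.2 1
    have e3 : z 3 = d := congrFun hz.2 2
    have : ![a, b, z 2, d] = z := by rw [← e0, ← e1, ← e3]; exact eta4 z
  · exact this
  · simp only [N, this]

theorem mR_eq (b c d : F) : (famR ρ h3).m ψ ![b, c, d] = ∑ a : F, N ρ h3 ψ a b c d := by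
  classical
  rw [(m_sub hψ (fam4 ρ h3) sR (famR ρ h3) _).2]
  refine Finset.sum_bij' (fun z _ => z 0) (fun a _ => ![a, b, c, d]) (fun _ _ => Finset.mem_univ _)
    (fun c _ => ?_) (fun z hz => ?_) (fun _ _ => rfl) (fun z hz => ?_)
  · rw [Finset.mem_filter]
    exact ⟨Finset.mem_univ _, funext fun i => by fin_cases i <;> rfl⟩
  all_goals
    rw [Finset.mem_filter] at hz
    have e1 : z 1 = b := congrFun hz.2 0
    have e2 : z 2 = c := congrFun hz.2 1
    have e3 : z 3 = d := congrFun hz.2 2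
    have : ![z 0, b, c, d] = z := by rw [← e1, ← e2, ← e3]; exact eta4 z
  · exact this
  · simp only [N, this]

omit hψ in
include h3 in
theorem two_ne : (2 : F) ≠ 0 := fun h => one_ne_zero (α := F) (by linear_combination h3 - h)

theorem sum_col {a : F} (ha : a ≠ 0) (d : F) :
    ∑ c : F, N ρ h3 ψ a 0 c d = ∑ c : F, N ρ h3 ψ a 1 c d := by
  have e := m_moves ρ hψ (mQ4 ρ h3 hψ (2 * a)⁻¹) ![a, 0, d]
  have h2 := two_ne (F := F) h3
  simp only [Matrix.cons_val_zero, Matrix.cons_val_one, Matrix.cons_val_two, Matrix.tail_cons,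
    Matrix.head_cons] at e
  rw [show (0 : F) + 2 * (2 * a)⁻¹ * a = 1 by field_simp; ring, mQ_eq ρ h3 hψ, mQ_eq ρ h3 hψ] at e
  exact e.symm

theorem sum_row {c : F} (hc : c ≠ 0) (b : F) :
    ∑ a : F, N ρ h3 ψ a b c 0 = ∑ a : F, N ρ h3 ψ a b c 1 := by
  have e := m_moves ρ hψ (mR5 ρ h3 hψ (-c⁻¹)) ![b, c, 0]
  simp only [Matrix.cons_val_zero, Matrix.cons_val_one, Matrix.cons_val_two, Matrix.tail_cons,
    Matrix.head_cons] at e
  rw [show (0 : F) - -c⁻¹ * c = 1 by field_simp; ring, mR_eq ρ h3 hψ, mR_eq ρ h3 hψ] at e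
  exact e.symm

theorem N_ad {a d : F} (ha : a ≠ 0) (hd : d ≠ 0) (b c : F) : N ρ h3 ψ a b c d = nu ρ h3 ψ := by
  by_cases hb : b = 0
  swap
  · exact N_bd ρ h3 hψ hb hd a c
  subst hb
  have e := sum_col ρ h3 hψ ha d
  rw [Finset.sum_congr rfl (g := fun _ => N ρ h3 ψ a 0 c d) fun c' _ => by
      rw [N_d ρ h3 hψ hd a 0 c', N_d ρ h3 hψ hd a 0 c],
    Finset.sum_congr rfl (g := fun _ => nu ρ h3 ψ) fun c' _ => N_bd ρ h3 hψ one_ne_zero hd a c',
    Finset.sum_const, Finset.sum_const, smul_eq_mul, smul_eq_mul] at e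
  exact Nat.eq_of_mul_eq_mul_left (Finset.card_pos.2 ⟨0, Finset.mem_univ _⟩) e

theorem N_bc {b c : F} (hb : b ≠ 0) (hc : c ≠ 0) (a d : F) : N ρ h3 ψ a b c d = nu ρ h3 ψ := by
  by_cases hd : d = 0
  swap
  · exact N_bd ρ h3 hψ hb hd a c
  subst hd
  have e := sum_row ρ h3 hψ hc b
  rw [Finset.sum_congr rfl (g := fun _ => N ρ h3 ψ a b c 0) fun a' _ => by
      rw [N_b ρ h3 hψ hb a' c 0, N_b ρ h3 hψ hb a c 0],
    Finset.sum_congr rfl (g := fun _ => nu ρ h3 ψ) fun a' _ => N_bd ρ h3 hψ hb one_ne_zero a' c,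
    Finset.sum_const, Finset.sum_const, smul_eq_mul, smul_eq_mul] at e
  exact Nat.eq_of_mul_eq_mul_left (Finset.card_pos.2 ⟨0, Finset.mem_univ _⟩) e

open _root_.Classical in
theorem col_zero {a : F} (ha : a ≠ 0) :
    ∑ c : F, N ρ h3 ψ a 0 c 0 = mu0 ρ h3 ψ + (Fintype.card F - 1) * nu ρ h3 ψ := by
  rw [sum_col ρ h3 hψ ha 0, ← Finset.add_sum_erase _ _ (Finset.mem_univ (0 : F)),
    N_mu0 ρ h3 hψ one_ne_zero, Finset.sum_congr rfl (g := fun _ => nu ρ h3 ψ) fun c hc =>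
      N_bc ρ h3 hψ one_ne_zero (Finset.ne_of_mem_erase hc) a 0,
    Finset.sum_const, Finset.card_erase_of_mem (Finset.mem_univ _), Finset.card_univ, smul_eq_mul]

open _root_.Classical in
theorem row_zero {c : F} (hc : c ≠ 0) :
    ∑ a : F, N ρ h3 ψ a 0 c 0 = nu0 ρ h3 ψ + (Fintype.card F - 1) * nu ρ h3 ψ := by
  rw [sum_row ρ h3 hψ hc 0, ← Finset.add_sum_erase _ _ (Finset.mem_univ (0 : F)),
    N_nu0 ρ h3 hψ one_ne_zero, Finset.sum_congr rfl (g := fun _ => nu ρ h3 ψ) fun a ha =>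
      N_ad ρ h3 hψ (Finset.ne_of_mem_erase ha) one_ne_zero 0 c,
    Finset.sum_const, Finset.card_erase_of_mem (Finset.mem_univ _), Finset.card_univ, smul_eq_mul]

open _root_.Classical in
/-- The degree. -/
theorem finrank_three :
    Module.finrank ℂ V = (Fintype.card F ^ 2 - 1) ^ 2 * nu ρ h3 ψ +
      (Fintype.card F ^ 2 - 1) * mu0 ρ h3 ψ +
      Fintype.card F * (Fintype.card F - 1) * nu0 ρ h3 ψ + ∑ c : F, N ρ h3 ψ 0 0 c 0 := by
  obtain ⟨m, hm⟩ : ∃ m, Fintype.card F = m + 1 := ⟨Fintype.card F - 1, by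
    have := Fintype.card_pos (α := F); omega⟩
  have hE : ((Finset.univ : Finset F).erase 0).card = m := by
    rw [Finset.card_erase_of_mem (Finset.mem_univ _), Finset.card_univ, hm, Nat.add_sub_cancel]
  have h0 : (Finset.univ : Finset F) = insert 0 ((Finset.univ : Finset F).erase 0) :=
    (Finset.insert_erase (Finset.mem_univ _)).symm
  have split : ∀ f : F → ℕ, ∑ x : F, f x = f 0 + ∑ x ∈ (Finset.univ : Finset F).erase 0, f x :=
    fun f => (Finset.add_sum_erase _ _ (Finset.mem_univ 0)).symm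
  have e : Module.finrank ℂ V = ∑ d : F, ∑ b : F, ∑ a : F, ∑ c : F, N ρ h3 ψ a b c d := by
    rw [← (fam4 ρ h3).sum_m hψ]
    simp only [← Fintype.sum_prod_type']
    exact Fintype.sum_equiv ⟨fun z => (z 3, z 1, z 0, z 2),
      fun p => ![p.2.2.1, p.2.1, p.2.2.2, p.1], fun z => eta4 z, fun _ => rfl⟩ _ _ fun z => by
        show (fam4 ρ h3).m ψ z = N ρ h3 ψ (z 0) (z 1) (z 2) (z 3)
        rw [N, eta4]
  have s1 : ∀ d ∈ (Finset.univ : Finset F).erase 0, ∑ b : F, ∑ a : F, ∑ c : F, N ρ h3 ψ a b c d =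
      ((m + 1) * (m * nu ρ h3 ψ) + (m + 1) * nu0 ρ h3 ψ) +
        m * ((m + 1) * ((m + 1) * nu ρ h3 ψ)) := by
    intro d hd
    have hd' := Finset.ne_of_mem_erase hd
    rw [split, Finset.sum_congr rfl (s₁ := Finset.univ.erase 0)
      (g := fun _ => (m + 1) * ((m + 1) * nu ρ h3 ψ)) fun b hb => ?_, Finset.sum_const, hE,
      smul_eq_mul, split, Finset.sum_congr rfl (g := fun _ => nu0 ρ h3 ψ) fun c _ =>
        N_nu0 ρ h3 hψ hd' c, Finset.sum_const, Finset.card_univ, hm, smul_eq_mul,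
      Finset.sum_congr rfl (s₁ := Finset.univ.erase 0) (g := fun _ => (m + 1) * nu ρ h3 ψ) fun a ha => ?_,
      Finset.sum_const, hE, smul_eq_mul]
    · ring
    · rw [Finset.sum_congr rfl (g := fun _ => nu ρ h3 ψ) fun c _ =>
        N_ad ρ h3 hψ (Finset.ne_of_mem_erase ha) hd' 0 c, Finset.sum_const, Finset.card_univ, hm,
        smul_eq_mul]
    · rw [Finset.sum_congr rfl (g := fun _ => (m + 1) * nu ρ h3 ψ) fun a _ => ?_, Finset.sum_const,
        Finset.card_univ, hm, smul_eq_mul]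
      rw [Finset.sum_congr rfl (g := fun _ => nu ρ h3 ψ) fun c _ =>
        N_bd ρ h3 hψ (Finset.ne_of_mem_erase hb) hd' a c, Finset.sum_const, Finset.card_univ, hm,
        smul_eq_mul]
  have s2 : ∑ b : F, ∑ a : F, ∑ c : F, N ρ h3 ψ a b c 0 =
      (∑ c : F, N ρ h3 ψ 0 0 c 0) + m * (mu0 ρ h3 ψ + m * nu ρ h3 ψ) +
        m * ((m + 1) * (mu0 ρ h3 ψ + m * nu ρ h3 ψ)) := by
    rw [split, Finset.sum_congr rfl (s₁ := Finset.univ.erase 0)
      (g := fun _ => (m + 1) * (mu0 ρ h3 ψ + m * nu ρ h3 ψ)) fun b hb => ?_, Finset.sum_const, hE,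
      smul_eq_mul, split, Finset.sum_congr rfl (s₁ := Finset.univ.erase 0)
      (g := fun _ => mu0 ρ h3 ψ + m * nu ρ h3 ψ) fun a ha => ?_,
      Finset.sum_const, hE, smul_eq_mul]
    · rw [col_zero ρ h3 hψ (Finset.ne_of_mem_erase ha), hm, Nat.add_sub_cancel]
    · rw [Finset.sum_congr rfl (g := fun _ => mu0 ρ h3 ψ + m * nu ρ h3 ψ) fun a _ => ?_,
        Finset.sum_const, Finset.card_univ, hm, smul_eq_mul]
      rw [split, N_mu0 ρ h3 hψ (Finset.ne_of_mem_erase hb), Finset.sum_congr rfl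
        (g := fun _ => nu ρ h3 ψ) fun c hc =>
          N_bc ρ h3 hψ (Finset.ne_of_mem_erase hb) (Finset.ne_of_mem_erase hc) a 0,
        Finset.sum_const, hE, smul_eq_mul]
  rw [e, split, s2, Finset.sum_congr rfl s1, Finset.sum_const, hE, smul_eq_mul, hm,
    show (m + 1) ^ 2 - 1 = m * (m + 2) from Nat.sub_eq_of_eq_add (by ring), Nat.add_sub_cancel]
  ring

end Cfsg.Agent.SimpleFacts.MinDegG2
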