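import Cfsg.Agent.SimpleFacts.MinDegG2.ThreeOne
import Cfsg.Agent.SimpleFacts.MinDegG2.Arith

/-!
The degree bound for G2 in characteristic three.
-/

set_option autoImplicit false
set_option linter.unusedSectionVars false

namespace Cfsg.Agent.SimpleFacts.MinDegG2

open Cfsg.Lie

variable {V : Type*} [AddCommGroup V] [Module ℂ V] [FiniteDimensional ℂ V]
variable {F : Type*} [Field F] [Fintype F]

/-- In a field whose size is a multiple of three, three vanishes and the size is a power of three. -/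
theorem three_of_card (h : Fintype.card F % 3 = 0) :
    (3 : F) = 0 ∧ ∃ f : ℕ, Fintype.card F = 3 ^ f := by
  obtain ⟨n, hp, hn⟩ := FiniteField.card F (ringChar F)
  have h3 : 3 ∣ ringChar F :=
    Nat.prime_three.dvd_of_dvd_pow (n := n) (hn ▸ Nat.dvd_of_mod_eq_zero h)
  have e : ringChar F = 3 := ((Nat.prime_dvd_prime_iff_eq Nat.prime_three hp).1 h3).symm
  refine ⟨?_, n, by rw [hn, e]⟩
  have := ringChar.Nat.cast_ringChar (R := F)
  rw [e] at this
  exact_mod_cast this

/-- The bound in characteristic three. -/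
theorem bound_three (ρ : Representation ℂ (chevG2.group F) V)
    (hne : ∀ r : Fin 12, op ρ r (1 : F) ≠ 1) (hq : Fintype.card F % 3 = 0)
    (hq3 : 3 < Fintype.card F)
    (hdvd : Module.finrank ℂ V ∣
      Fintype.card F ^ 6 * (Fintype.card F ^ 2 - 1) * (Fintype.card F ^ 6 - 1)) :
    Fintype.card F ^ 4 + Fintype.card F ^ 2 + 1 ≤ Module.finrank ℂ V := by
  obtain ⟨h3, f, hf⟩ := three_of_card hq
  obtain ⟨ψ, hψ⟩ := MinDegOrth.exists_psi_ne (F := F)
  have hf2 : 2 ≤ f := by
    by_contra hlt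
    have : 3 ^ f ≤ 3 ^ 1 := Nat.pow_le_pow_right (by norm_num) (by omega)
    omega
  have h9 : 9 ≤ Fintype.card F := by
    rw [hf]; exact le_trans (by norm_num) (Nat.pow_le_pow_right (by norm_num) hf2)
  have hν := nu_pos ρ h3 hψ (by omega) hne
  rcases eq_or_lt_of_le hν with hν1 | hν2
  · have hb := bound_one ρ h3 hψ hν1.symm h9
    by_contra hlt
    push Not at hlt
    rw [hf] at hb hlt hdvd
    obtain ⟨j, hj⟩ : ∃ j, j = (3 ^ f) ^ 4 + (3 ^ f) ^ 2 - Module.finrank ℂ V := ⟨_, rfl⟩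
    refine not_dvd_three hf2 (j := j) (by omega) ?_
    rwa [show (3 ^ f) ^ 4 + (3 ^ f) ^ 2 - j = Module.finrank ℂ V by omega]
  · have hk := finrank_three ρ h3 hψ
    have h2 : 2 * (Fintype.card F ^ 2 - 1) ^ 2 ≤ Module.finrank ℂ V := by
      rw [hk, mul_comm 2]
      refine le_trans (Nat.mul_le_mul_left _ hν2) ?_
      omega
    obtain ⟨a, ha⟩ : ∃ a, Fintype.card F ^ 2 = a + 1 :=
      ⟨Fintype.card F ^ 2 - 1, (Nat.sub_add_cancel (Nat.one_le_pow _ _ (by omega))).symm⟩
    have h81 : 80 ≤ a := by nlinarith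
    rw [ha, Nat.add_sub_cancel] at h2
    rw [show Fintype.card F ^ 4 = (Fintype.card F ^ 2) ^ 2 by ring, ha]
    nlinarith

end Cfsg.Agent.SimpleFacts.MinDegG2
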