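import Cfsg.Agent.SimpleFacts.MinDegG2.Three

/-!
Characteristic three: some character is non-trivial on both highest root groups.
-/

set_option autoImplicit false
set_option linter.unusedSectionVars false

namespace Cfsg.Agent.SimpleFacts.MinDegG2

open Cfsg.Lie Cfsg.Agent.SimpleFacts.MinDegExc
open scoped BigOperators

variable {V : Type*} [AddCommGroup V] [Module ℂ V] [FiniteDimensional ℂ V]
variable {F : Type*} [Field F] [Fintype F] (ρ : Representation ℂ (chevG2.group F) V)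
variable {ψ : AddChar F ℂ} (h3 : (3 : F) = 0) (hψ : ψ ≠ 1)

include h3 in
theorem cube_surj : Function.Surjective fun t : F => t ^ 3 := by
  have hinj : Function.Injective fun t : F => t ^ 3 := fun a b e => by
    have e' : a ^ 3 = b ^ 3 := e
    have h0 : (a - b) ^ 3 = 0 := by
      linear_combination e' + (-(a ^ 2 * b) + a * b ^ 2) * h3
    exact sub_eq_zero.1 ((pow_eq_zero_iff (by norm_num)).1 h0)
  exact Finite.surjective_of_injective hinj

theorem exists_avoid3 (h4 : 4 ≤ Fintype.card F) : ∃ u : F, u ≠ 0 ∧ u ≠ 1 ∧ u ≠ -1 := by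
  classical
  by_contra hcon
  push Not at hcon
  have hsub : (Finset.univ : Finset F) ⊆ {0, 1, -1} := by
    intro u _
    simp only [Finset.mem_insert, Finset.mem_singleton]
    by_cases h0 : u = 0
    · exact Or.inl h0
    by_cases h1 : u = 1
    · exact Or.inr (Or.inl h1)
    exact Or.inr (Or.inr (hcon u h0 h1))
  have := (Finset.card_le_card hsub).trans Finset.card_le_three
  rw [Finset.card_univ] at this
  omega

include hψ

theorem pair_kill (hν : nu ρ h3 ψ = 0) (t s : F) : (op ρ 9 t - 1) * (op ρ 11 s - 1) = 0 := by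
  refine (mul_one _).symm.trans ?_
  conv_lhs => arg 2; rw [← (fam4 ρ h3).sum_P hψ]
  rw [Finset.mul_sum]
  refine Finset.sum_eq_zero fun z _ => ?_
  rw [← eta4 z]
  show _ * P4 ρ h3 ψ (z 0) (z 1) (z 2) (z 3) = 0
  have e11 : (op ρ 11 s - 1) * P4 ρ h3 ψ (z 0) (z 1) (z 2) (z 3) =
      (ψ (z 3 * s) - 1) • P4 ρ h3 ψ (z 0) (z 1) (z 2) (z 3) := by
    rw [sub_mul, one_mul, P4_11, sub_smul, one_smul]
  rw [mul_assoc, e11, mul_smul_comm, sub_mul, one_mul, P4_9]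
  by_cases h1 : z 1 = 0
  · rw [h1, zero_mul, AddChar.map_zero_eq_one, one_smul, sub_self, smul_zero]
  by_cases h2 : z 3 = 0
  · rw [h2, zero_mul, AddChar.map_zero_eq_one, sub_self, zero_smul]
  have : P4 ρ h3 ψ (z 0) (z 1) (z 2) (z 3) = 0 :=
    eq_zero_of_rk (by rw [← N_eq_rk, N_bd ρ h3 hψ h1 h2, hν])
  rw [this]
  simp

theorem pair_kill' (hν : nu ρ h3 ψ = 0) (t s : F) : (op ρ 7 t - 1) * (op ρ 10 s - 1) = 0 := by
  obtain ⟨a, ha, ha'⟩ := ne1_conj (F := F) 0 9 (s := 8) (by decide +kernel)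
  obtain ⟨b, hb, hb'⟩ := ne1_conj (F := F) 0 11 (s := 11) (by decide +kernel)
  obtain ⟨c, hc, hc'⟩ := ne1_conj (F := F) 1 8 (s := 7) (by decide +kernel)
  obtain ⟨d, hd, hd'⟩ := ne1_conj (F := F) 1 11 (s := 10) (by decide +kernel)
  have nz : ∀ η : F, η = 1 ∨ η = -1 → η * η = 1 := fun η h => by rcases h with rfl | rfl <;> ring
  obtain ⟨g, hg⟩ : ∃ g : chevG2.group F, g = ne1 1 * ne1 0 := ⟨_, rfl⟩
  have e7 : g * xe 9 (a * c * t) * g⁻¹ = xe 7 t := by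
    rw [hg, show ne1 1 * ne1 0 * xe 9 (a * c * t) * (ne1 1 * ne1 0)⁻¹ =
      ne1 1 * (ne1 0 * xe 9 (a * c * t) * (ne1 0)⁻¹) * (ne1 1 : chevG2.group F)⁻¹ by group, ha', hc']
    congr 1
    linear_combination (c * c * t) * nz a ha + t * nz c hc
  have e10 : g * xe 11 (b * d * s) * g⁻¹ = xe 10 s := by
    rw [hg, show ne1 1 * ne1 0 * xe 11 (b * d * s) * (ne1 1 * ne1 0)⁻¹ =
      ne1 1 * (ne1 0 * xe 11 (b * d * s) * (ne1 0)⁻¹) * (ne1 1 : chevG2.group F)⁻¹ by group, hb', hd']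
    congr 1
    linear_combination (d * d * s) * nz b hb + s * nz d hd
  have h := pair_kill ρ h3 hψ hν (a * c * t) (b * d * s)
  have conj : ∀ x y : chevG2.group F, g * x * g⁻¹ = y → ρ y = ρ g * ρ x * ρ g⁻¹ := fun x y e => by
    rw [← e, map_mul, map_mul]
  rw [op, op, conj _ _ e7, conj _ _ e10]
  have one' : (1 : Module.End ℂ V) = ρ g * 1 * ρ g⁻¹ := by rw [mul_one, op_inv_mul]
  calc (ρ g * ρ (xe 9 (a * c * t)) * ρ g⁻¹ - 1) * (ρ g * ρ (xe 11 (b * d * s)) * ρ g⁻¹ - 1)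
      = ρ g * (op ρ 9 (a * c * t) - 1) * ρ g⁻¹ * (ρ g * (op ρ 11 (b * d * s) - 1) * ρ g⁻¹) := by
        simp only [mul_sub, sub_mul, ← one']
    _ = ρ g * ((op ρ 9 (a * c * t) - 1) * (ρ g⁻¹ * ρ g) * (op ρ 11 (b * d * s) - 1)) * ρ g⁻¹ := by
        simp only [mul_assoc]
    _ = 0 := by rw [← map_mul, inv_mul_cancel, map_one, mul_one, h, mul_zero, zero_mul]

theorem nu0_eq_zero (hν : nu ρ h3 ψ = 0) (h4 : 4 ≤ Fintype.card F) : nu0 ρ h3 ψ = 0 := by
  by_contra hne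
  obtain ⟨u, hu0, hu1, hu2⟩ := exists_avoid3 h4
  have hp := AddChar.IsPrimitive.of_ne_one hψ
  have fix7 : ∀ x : F, x ≠ 0 → ∀ t, op ρ 7 t * P4 ρ h3 ψ 0 0 x 1 = P4 ρ h3 ψ 0 0 x 1 := by
    intro x hx t
    obtain ⟨s, hs⟩ : ∃ s, ψ (x * s) ≠ 1 := by
      by_contra hcon
      push Not at hcon
      exact hx (psi_inj hψ fun s => by rw [hcon, zero_mul, AddChar.map_zero_eq_one])
    have h := congrArg (· * P4 ρ h3 ψ 0 0 x 1) (pair_kill' ρ h3 hψ hν t s)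
    simp only [zero_mul, mul_assoc] at h
    rw [sub_mul (op ρ 10 s), one_mul, P4_10] at h
    rw [show ψ (x * s) • P4 ρ h3 ψ 0 0 x 1 - P4 ρ h3 ψ 0 0 x 1 =
      (ψ (x * s) - 1) • P4 ρ h3 ψ 0 0 x 1 by rw [sub_smul, one_smul], mul_smul_comm] at h
    have h' := (smul_eq_zero.1 h).resolve_left (sub_ne_zero.2 hs)
    rwa [sub_mul, one_mul, sub_eq_zero] at h'
  have hP : P4 ρ h3 ψ 0 0 1 1 ≠ 0 := fun e => hne (by
    rw [← N_nu0 ρ h3 hψ (one_ne_zero (α := F)) 1, N_eq_rk, e, rk]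
    simp)
  have hmv := (mv6 ρ h3 hψ u).mul_P hψ ![0, 0, 1, 1]
  simp only [Matrix.cons_val_zero, Matrix.cons_val_one, Matrix.cons_val_two, Matrix.cons_val_three,
    Matrix.tail_cons, Matrix.head_cons, mul_one] at hmv
  replace hmv : op ρ 6 u * P4 ρ h3 ψ 0 0 1 1 = P4 ρ h3 ψ 0 0 (1 - u) 1 * op ρ 6 u := hmv
  have hval : ∀ t : F, ψ (t ^ 3 * (u + u ^ 2)) = 1 := by
    intro t
    have e := congrArg (fun g => ρ g * P4 ρ h3 ψ 0 0 1 1) (conj_7_6 t u)
    simp only [map_mul, xe_inv] at e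
    rw [mul_assoc, mul_assoc, fix7 1 one_ne_zero, hmv, ← mul_assoc,
      fix7 (1 - u) (sub_ne_zero.2 (Ne.symm hu1)), ← hmv] at e
    rw [mul_assoc, eig_mul (eig_mul (eig_mul (P4_8 ρ h3 0 0 1 1 _) (P4_9 ρ h3 0 0 1 1 _))
      (P4_10 ρ h3 0 0 1 1 _)) (P4_11 ρ h3 0 0 1 1 _), mul_smul_comm] at e
    have hne' : op ρ 6 u * P4 ρ h3 ψ 0 0 1 1 ≠ 0 := fun e0 => hP (by
      have := congrArg (op ρ 6 (-u) * ·) e0
      simpa [← mul_assoc, ← op_add, op_zero] using this)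
    have e1 := smul_left_injective ℂ hne' ((one_smul ℂ _).trans e)
    rw [← AddChar.map_add_eq_mul, ← AddChar.map_add_eq_mul, ← AddChar.map_add_eq_mul] at e1
    rw [e1]
    congr 1
    ring
  have h0 : u + u ^ 2 = 0 := psi_inj hψ (b := 0) fun s => by
    obtain ⟨t, rfl⟩ := cube_surj (F := F) h3 s
    show ψ ((u + u ^ 2) * t ^ 3) = _
    rw [mul_comm, hval t, zero_mul, AddChar.map_zero_eq_one]
  rcases mul_eq_zero.1 (show u * (1 + u) = 0 by linear_combination h0) with h | h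
  · exact hu0 h
  · exact hu2 (by linear_combination h)

/-- Some character is non-trivial on both highest root groups. -/
theorem nu_pos (h4 : 4 ≤ Fintype.card F) (hne : ∀ r : Fin 12, op ρ r (1 : F) ≠ 1) :
    1 ≤ nu ρ h3 ψ := by
  by_contra hcon
  have hν : nu ρ h3 ψ = 0 := by omega
  have hν0 := nu0_eq_zero ρ h3 hψ hν h4
  refine hne 11 ?_
  rw [← mul_one (op ρ 11 1), ← (fam4 ρ h3).sum_P hψ, Finset.mul_sum]
  refine Finset.sum_congr rfl fun z _ => ?_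
  rw [← eta4 z]
  show _ * P4 ρ h3 ψ (z 0) (z 1) (z 2) (z 3) = P4 ρ h3 ψ (z 0) (z 1) (z 2) (z 3)
  rw [P4_11]
  by_cases h2 : z 3 = 0
  · rw [h2, zero_mul, AddChar.map_zero_eq_one, one_smul]
  have : N ρ h3 ψ (z 0) (z 1) (z 2) (z 3) = 0 := by
    by_cases h1 : z 1 = 0
    · by_cases h0 : z 0 = 0
      · rw [h0, h1, N_nu0 ρ h3 hψ h2, hν0]
      · rw [N_ad ρ h3 hψ h0 h2, hν]
    · rw [N_bd ρ h3 hψ h1 h2, hν]
  rw [N_eq_rk] at this
  rw [eq_zero_of_rk this, smul_zero]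

end Cfsg.Agent.SimpleFacts.MinDegG2
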