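import Cfsg.Agent.SimpleFacts.MinDegG2.ThreeNu

/-!
Characteristic three, multiplicity one: the characters of the root group 6 on the fixed space of the highest
long root group.
-/

set_option autoImplicit false
set_option linter.unusedSectionVars false

namespace Cfsg.Agent.SimpleFacts.MinDegG2

open Cfsg.Lie Cfsg.Agent.SimpleFacts.MinDegExc
open scoped BigOperators

variable {V : Type*} [AddCommGroup V] [Module ℂ V] [FiniteDimensional ℂ V]
variable {F : Type*} [Field F] [Fintype F] (ρ : Representation ℂ (chevG2.group F) V)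
variable {ψ : AddChar F ℂ} (h3 : (3 : F) = 0) (hψ : ψ ≠ 1)

/-- Eigenoperators of the roots 8, 9, 10, 11 and 6. -/
structure Eig5 (ψ : AddChar F ℂ) (A : Module.End ℂ V) (a b c d β : F) : Prop where
  e8 : ∀ t, op ρ 8 t * A = ψ (a * t) • A
  e9 : ∀ t, op ρ 9 t * A = ψ (b * t) • A
  e10 : ∀ t, op ρ 10 t * A = ψ (c * t) • A
  e11 : ∀ t, op ρ 11 t * A = ψ (d * t) • A
  e6 : ∀ t, op ρ 6 t * A = ψ (β * t) • A

theorem push (g : chevG2.group F) {r : Fin 12} {v : F} {A : Module.End ℂ V} {x : ℂ}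
    (h : ρ (g⁻¹ * xe r v * g) * A = x • A) : op ρ r v * (ρ g * A) = x • (ρ g * A) := by
  have e : op ρ r v * ρ g = ρ g * ρ (g⁻¹ * xe r v * g) := by
    rw [op, ← map_mul, ← map_mul]
    congr 1
    group
  rw [← mul_assoc, e, mul_assoc, h, mul_smul_comm]

theorem conj_of_comm {g x : chevG2.group F} (h : Commute g x) : g⁻¹ * x * g = x := by
  rw [mul_assoc, ← h.eq, inv_mul_cancel_left]

theorem mul_ne_zero_of_unit (g : chevG2.group F) {A : Module.End ℂ V} (h : A ≠ 0) : ρ g * A ≠ 0 := by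
  intro e
  refine h ?_
  have := congrArg (ρ g⁻¹ * ·) e
  simpa [← mul_assoc, ← map_mul] using this

include h3 in
theorem Eig5.move4 {A : Module.End ℂ V} {b c β : F} (h : Eig5 ρ ψ A 0 b c 0 β) (t : F) :
    Eig5 ρ ψ (op ρ 4 t * A) 0 b (c - t * b - t ^ 3 * β) 0 β := by
  refine ⟨fun v => push ρ _ ?_, fun v => push ρ _ ?_, fun v => push ρ _ ?_, fun v => push ρ _ ?_,
    fun v => push ρ _ ?_⟩
  · rw [conj_of_comm (xe_comm3 h3 (by decide +kernel) t v)]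
    exact h.e8 v
  · have e := conj_4_9 (-t) v
    rw [← xe_inv, inv_inv] at e
    rw [e, h3]
    simp only [neg_zero, zero_mul, xe_zero, mul_one]
    rw [map_mul, eig_mul (h.e9 _) (h.e8 _), ← AddChar.map_add_eq_mul, zero_mul, add_zero]
  · have e := conj_4_10 (-t) v
    rw [← xe_inv, inv_inv] at e
    rw [e, map_mul, map_mul, map_mul, map_mul,
      eig_mul (h.e10 _) (eig_mul (eig_mul (eig_mul (h.e9 _) (h.e8 _)) (h.e6 _)) (h.e11 _)),
      ← AddChar.map_add_eq_mul, ← AddChar.map_add_eq_mul, ← AddChar.map_add_eq_mul,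
      ← AddChar.map_add_eq_mul]
    congr 2
    ring
  · rw [conj_of_comm (xe_comm (by decide +kernel) t v)]
    exact h.e11 v
  · rw [conj_of_comm (xe_comm (by decide +kernel) t v)]
    exact h.e6 v

include h3 in
theorem Eig5.move7 {A : Module.End ℂ V} {c β : F} (h : Eig5 ρ ψ A 0 0 c 0 β) (t : F) :
    Eig5 ρ ψ (op ρ 7 t * A) 0 0 c 0 (β - t ^ 3 * c) := by
  refine ⟨fun v => push ρ _ ?_, fun v => push ρ _ ?_, fun v => push ρ _ ?_, fun v => push ρ _ ?_,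
    fun v => push ρ _ ?_⟩
  · have e := conj_7_8 (-t) v
    rw [← xe_inv, inv_inv] at e
    rw [e, h3]
    simp only [neg_zero, zero_mul, xe_zero, mul_one]
    rw [map_mul, eig_mul (h.e8 _) (h.e9 _), ← AddChar.map_add_eq_mul]
    congr 2
    ring
  · rw [conj_of_comm (xe_comm3 h3 (by decide +kernel) t v)]
    exact h.e9 v
  · rw [conj_of_comm (xe_comm (by decide +kernel) t v)]
    exact h.e10 v
  · rw [conj_of_comm (xe_comm (by decide +kernel) t v)]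
    exact h.e11 v
  · have e := conj_7_6 (-t) v
    rw [← xe_inv, inv_inv] at e
    rw [e, map_mul, map_mul, map_mul, map_mul,
      eig_mul (h.e6 _) (eig_mul (eig_mul (eig_mul (h.e8 _) (h.e9 _)) (h.e10 _)) (h.e11 _)),
      ← AddChar.map_add_eq_mul, ← AddChar.map_add_eq_mul, ← AddChar.map_add_eq_mul,
      ← AddChar.map_add_eq_mul]
    congr 2
    ring

theorem cartan5 : chevG2.cartan 1 8 = 1 ∧ chevG2.cartan 1 9 = 0 ∧ chevG2.cartan 1 10 = -1 ∧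
    chevG2.cartan 1 11 = 1 ∧ chevG2.cartan 1 6 = 2 := by
  decide +kernel

theorem Eig5.move1 {A : Module.End ℂ V} {a b c d β : F} (h : Eig5 ρ ψ A a b c d β) {u : F}
    (hu : u ≠ 0) : Eig5 ρ ψ (ρ (te 1 u⁻¹) * A) (u * a) b (u⁻¹ * c) (u * d) (u ^ 2 * β) := by
  obtain ⟨c8, c9, c10, c11, c6⟩ := cartan5
  refine ⟨fun v => push ρ _ ?_, fun v => push ρ _ ?_, fun v => push ρ _ ?_, fun v => push ρ _ ?_,
    fun v => push ρ _ ?_⟩ <;> rw [te_conj' 1 _ hu]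
  · refine (h.e8 _).trans ?_; congr 2
    show a * (u ^ chevG2.cartan 1 8 * v) = _
    rw [c8, zpow_one]; ring
  · refine (h.e9 _).trans ?_; congr 2
    show b * (u ^ chevG2.cartan 1 9 * v) = _
    rw [c9, zpow_zero]; ring
  · refine (h.e10 _).trans ?_; congr 2
    show c * (u ^ chevG2.cartan 1 10 * v) = _
    rw [c10, zpow_neg_one]; ring
  · refine (h.e11 _).trans ?_; congr 2
    show d * (u ^ chevG2.cartan 1 11 * v) = _
    rw [c11, zpow_one]; ring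
  · refine (h.e6 _).trans ?_; congr 2
    show β * (u ^ chevG2.cartan 1 6 * v) = _
    rw [c6, zpow_ofNat]; ring

theorem comm6P {a b c : F} (hψ : ψ ≠ 1) (t : F) :
    Commute (op ρ 6 t) (P4 ρ h3 ψ a b c 0) := by
  refine (mv6 ρ h3 hψ t).commute hψ ?_
  funext i
  fin_cases i <;> simp

/-- The pieces of the root group 6. -/
noncomputable def G5 (ψ : AddChar F ℂ) (a b c β : F) : Module.End ℂ V :=
  pr1 ρ ψ 6 β * P4 ρ h3 ψ a b c 0

include hψ

theorem Eig5.fix {A : Module.End ℂ V} {a b c β : F} (h : Eig5 ρ ψ A a b c 0 β) :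
    P4 ρ h3 ψ a b c 0 * A = A ∧ G5 ρ h3 ψ a b c β * A = A := by
  classical
  have e : P4 ρ h3 ψ a b c 0 * A = A := by
    rw [P4, (fam4 ρ h3).P_eig hψ (y := ![a, b, c, 0]) (fun i t => ?_), if_pos rfl]
    fin_cases i
    · exact h.e8 t
    · exact h.e9 t
    · exact h.e10 t
    · exact h.e11 t
  refine ⟨e, ?_⟩
  rw [G5, mul_assoc, e]
  exact pr1_fix ρ hψ h.e6

theorem G5_eig (a b c β : F) : Eig5 ρ ψ (G5 ρ h3 ψ a b c β) a b c 0 β := by
  have hc : G5 ρ h3 ψ a b c β = P4 ρ h3 ψ a b c 0 * pr1 ρ ψ 6 β :=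
    (pr1_comm ρ (fun t => comm6P ρ h3 hψ t) β).eq
  refine ⟨fun t => ?_, fun t => ?_, fun t => ?_, fun t => ?_, fun t => ?_⟩
  · rw [hc, ← mul_assoc, P4_8, smul_mul_assoc]
  · rw [hc, ← mul_assoc, P4_9, smul_mul_assoc]
  · rw [hc, ← mul_assoc, P4_10, smul_mul_assoc]
  · rw [hc, ← mul_assoc, P4_11, smul_mul_assoc]
  · rw [G5, ← mul_assoc, pr1_eig, smul_mul_assoc]

theorem sum_G5 (a b c : F) : ∑ β : F, rk (G5 ρ h3 ψ a b c β) = N ρ h3 ψ a b c 0 :=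
  sum_rk_pr1 ρ hψ (P4_idem ρ h3 hψ a b c 0) fun t => comm6P ρ h3 hψ t

theorem Eig5.piece_ne {A : Module.End ℂ V} {a b c β : F} (h : Eig5 ρ ψ A a b c 0 β) (hA : A ≠ 0) :
    P4 ρ h3 ψ a b c 0 ≠ 0 ∧ G5 ρ h3 ψ a b c β ≠ 0 := by
  obtain ⟨h1, h2⟩ := h.fix ρ h3 hψ
  exact ⟨fun e => hA (by rw [← h1, e, zero_mul]), fun e => hA (by rw [← h2, e, zero_mul])⟩

/-- The character of the root group 6 on a line of multiplicity one. -/
theorem exists_beta (hν : nu ρ h3 ψ = 1) {b w : F} (hb : b ≠ 0) (hw : w ≠ 0) :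
    ∃ β, Eig5 ρ ψ (P4 ρ h3 ψ 0 b w 0) 0 b w 0 β ∧ P4 ρ h3 ψ 0 b w 0 ≠ 0 ∧
      ∀ A β', Eig5 ρ ψ A 0 b w 0 β' → A ≠ 0 → β' = β := by
  have h1 : N ρ h3 ψ 0 b w 0 = 1 := by rw [N_bc ρ h3 hψ hb hw, hν]
  have hP := P4_idem ρ h3 hψ 0 b w 0
  have ht : LinearMap.trace ℂ V (P4 ρ h3 ψ 0 b w 0) = 1 := by
    rw [rk_eq_trace hP, ← N_eq_rk, h1, Nat.cast_one]
  obtain ⟨β, hβ⟩ := char_on_line ρ hψ hP ht 6 fun t => comm6P ρ h3 hψ t
  refine ⟨β, ⟨P4_8 ρ h3 _ _ _ _, P4_9 ρ h3 _ _ _ _, P4_10 ρ h3 _ _ _ _, P4_11 ρ h3 _ _ _ _, hβ⟩,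
    fun e => by rw [e, map_zero] at ht; exact zero_ne_one ht, fun A β' hA hA0 => ?_⟩
  obtain ⟨hfix, -⟩ := hA.fix ρ h3 hψ
  refine psi_inj hψ fun s => smul_left_injective ℂ hA0 ?_
  show ψ (β' * s) • A = ψ (β * s) • A
  rw [← hA.e6, ← hfix, ← mul_assoc, hβ, smul_mul_assoc]

open _root_.Classical in
/-- Either the short slice is big or the root group 6 fixes its long characters. -/
theorem mu_big_or_fix (hν : nu ρ h3 ψ = 1) (h9 : 9 ≤ Fintype.card F) {b : F} (hb : b ≠ 0) :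
    4 ≤ mu0 ρ h3 ψ ∨ (1 ≤ mu0 ρ h3 ψ ∧
      ∀ w, w ≠ 0 → ∀ t, op ρ 6 t * P4 ρ h3 ψ 0 b w 0 = P4 ρ h3 ψ 0 b w 0) := by
  obtain ⟨β1, h1, h1n, hu1⟩ := exists_beta ρ h3 hψ hν hb (one_ne_zero (α := F))
  have hw2 : ∀ w, w ≠ 0 → ∀ β, Eig5 ρ ψ (P4 ρ h3 ψ 0 b w 0) 0 b w 0 β →
      P4 ρ h3 ψ 0 b w 0 ≠ 0 → β * w ^ 2 = β1 := by
    intro w hw β hβ hn
    have hm := hβ.move1 ρ hw
    rw [mul_zero, inv_mul_cancel₀ hw] at hm
    rw [← hu1 _ _ hm (mul_ne_zero_of_unit ρ _ hn), mul_comm]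
  by_cases hβ1 : β1 = 0
  · right
    refine ⟨?_, fun w hw t => ?_⟩
    · subst hβ1
      have hm := h1.move4 ρ h3 b⁻¹
      rw [inv_mul_cancel₀ hb, mul_zero, sub_zero, sub_self] at hm
      have := (hm.piece_ne ρ h3 hψ (mul_ne_zero_of_unit ρ _ h1n)).1
      rw [← N_mu0 ρ h3 hψ hb 0, N_eq_rk]
      exact rk_pos this
    · obtain ⟨β, hβ, hn, -⟩ := exists_beta ρ h3 hψ hν hb hw
      have e := hw2 w hw β hβ hn
      rw [hβ1] at e
      rw [hβ.e6, (mul_eq_zero.1 e).resolve_right (pow_ne_zero 2 hw), zero_mul,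
        AddChar.map_zero_eq_one, one_smul]
  left
  obtain ⟨t0, ht0⟩ : ∃ t : F, 1 - t * b - t ^ 3 * β1 = 0 := by
    by_contra hcon
    push Not at hcon
    have hsq : ∀ t : F, (1 - t * b - t ^ 3 * β1) ^ 2 = 1 := fun t => by
      obtain ⟨β, hβ, hn, hu⟩ := exists_beta ρ h3 hψ hν hb (hcon t)
      have hm := h1.move4 ρ h3 t
      have e := hu _ _ hm (mul_ne_zero_of_unit ρ _ h1n)
      have e2 := hw2 _ (hcon t) β hβ hn
      rw [← e] at e2
      exact mul_left_cancel₀ hβ1 (e2.trans (mul_one _).symm)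
    have hL : ∀ t : F, t * b + t ^ 3 * β1 = 0 := fun t => by
      have e1 := hsq t
      have e2 := hsq (-t)
      have e : (4 : F) * (t * b + t ^ 3 * β1) = 0 := by linear_combination e2 - e1
      rw [show (4 : F) = 1 by linear_combination h3, one_mul] at e
      exact e
    have hb1 : b + β1 = 0 := by simpa using hL 1
    obtain ⟨u, hu0, hu1', hu2⟩ := exists_avoid3 (F := F) (by omega)
    have e : b * (u * ((1 - u) * (1 + u))) = 0 := by linear_combination hL u - u ^ 3 * hb1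
    simp only [mul_eq_zero, hb, hu0, false_or] at e
    rcases e with e | e
    · exact hu1' (by linear_combination -e)
    · exact hu2 (by linear_combination e)
  have h0 := h1.move4 ρ h3 t0
  rw [ht0] at h0
  have hne := mul_ne_zero_of_unit ρ (xe 4 t0) h1n
  let S : Finset F := ((Finset.univ : Finset F).erase 0).image fun u => u ^ 2 * β1
  have hS : ∀ β ∈ S, 1 ≤ rk (G5 ρ h3 ψ 0 b 0 β) := by
    intro β hβ
    obtain ⟨u, hu, rfl⟩ := Finset.mem_image.1 hβ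
    have hm := h0.move1 ρ (Finset.ne_of_mem_erase hu)
    rw [mul_zero, mul_zero] at hm
    exact rk_pos (hm.piece_ne ρ h3 hψ (mul_ne_zero_of_unit ρ _ hne)).2
  have hcard : ((Finset.univ : Finset F).erase 0).card ≤ 2 * S.card :=
    Finset.card_le_mul_card_image _ 2 fun β hβ => by
      obtain ⟨u0, hu0, rfl⟩ := Finset.mem_image.1 hβ
      refine (Finset.card_le_card (t := {u0, -u0}) fun u hu => ?_).trans Finset.card_le_two
      obtain ⟨-, e⟩ := Finset.mem_filter.1 hu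
      have e' := mul_right_cancel₀ hβ1 e
      rw [Finset.mem_insert, Finset.mem_singleton]
      exact sq_eq_sq_iff_eq_or_eq_neg.1 e'
  rw [Finset.card_erase_of_mem (Finset.mem_univ _), Finset.card_univ] at hcard
  have hle : S.card ≤ mu0 ρ h3 ψ := by
    rw [← N_mu0 ρ h3 hψ hb 0, ← sum_G5 ρ h3 hψ, Finset.card_eq_sum_ones]
    exact (Finset.sum_le_sum hS).trans
      (Finset.sum_le_sum_of_subset (Finset.subset_univ _))
  omega

open _root_.Classical in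
/-- The long slice above a short character has at most the short multiplicity. -/
theorem col_le (hfix : ∀ b, b ≠ 0 → ∀ w, w ≠ 0 → ∀ t, op ρ 6 t * P4 ρ h3 ψ 0 b w 0 = P4 ρ h3 ψ 0 b w 0)
    {a : F} (ha : a ≠ 0) :
    ∑ τ ∈ (Finset.univ : Finset F).erase 0, N ρ h3 ψ a 0 τ 0 ≤ mu0 ρ h3 ψ := by
  obtain ⟨e8, h8, c8⟩ := ne1_conj (F := F) 0 8 (s := 9) (by decide +kernel)
  obtain ⟨e9, h9, c9⟩ := ne1_conj (F := F) 0 9 (s := 8) (by decide +kernel)
  obtain ⟨e10, h10, c10⟩ := ne1_conj (F := F) 0 10 (s := 6) (by decide +kernel)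
  obtain ⟨e11, h11, c11⟩ := ne1_conj (F := F) 0 11 (s := 11) (by decide +kernel)
  have nz : ∀ η : F, η = 1 ∨ η = -1 → η * η = 1 := fun η h => by rcases h with rfl | rfl <;> ring
  have pull : ∀ (r s : Fin 12) (η : F), η * η = 1 →
      (∀ t, ne1 0 * xe r t * (ne1 0)⁻¹ = xe s (η * t)) →
      ∀ v, (ne1 0 : chevG2.group F)⁻¹ * xe s v * ne1 0 = xe r (η * v) := by
    intro r s η hη hc v
    have := hc (η * v)
    rw [← mul_assoc η, hη, one_mul] at this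
    rw [← this]
    group
  have ha' : e8 * a ≠ 0 := mul_ne_zero (by rcases h8 with rfl | rfl <;> simp) ha
  have key : ∀ τ ∈ (Finset.univ : Finset F).erase 0,
      N ρ h3 ψ a 0 τ 0 ≤ rk (G5 ρ h3 ψ 0 (e8 * a) 0 (e10 * τ)) := by
    intro τ hτ
    have hτ' : e10 * τ ≠ 0 := mul_ne_zero (by rcases h10 with rfl | rfl <;> simp)
      (Finset.ne_of_mem_erase hτ)
    obtain ⟨A, hA⟩ : ∃ A, A = ρ (ne1 0) * P4 ρ h3 ψ a 0 τ 0 * ρ (ne1 0)⁻¹ := ⟨_, rfl⟩
    obtain ⟨hAI, hrk⟩ := rk_conj (g := ρ (ne1 0)) (g' := ρ (ne1 0)⁻¹)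
      (by rw [← map_mul, inv_mul_cancel, map_one]) (op_inv_mul ρ _) (P4_idem ρ h3 hψ a 0 τ 0)
    rw [← hA] at hAI hrk
    rw [N_eq_rk, ← hrk]
    have pA : ∀ (r : Fin 12) (v : F) (x : ℂ),
        ρ ((ne1 0)⁻¹ * xe r v * ne1 0) * P4 ρ h3 ψ a 0 τ 0 = x • P4 ρ h3 ψ a 0 τ 0 →
        op ρ r v * A = x • A := fun r v x h => by
      rw [hA, ← mul_assoc (op ρ r v), push ρ _ h, smul_mul_assoc]
    have f8 : ∀ v, op ρ 8 v * A = ψ (0 * v) • A := fun v => pA _ _ _ (by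
      rw [pull 9 8 e9 (nz _ h9) c9]
      refine (P4_9 ρ h3 _ _ _ _ _).trans ?_
      rw [zero_mul, zero_mul])
    have f9 : ∀ v, op ρ 9 v * A = ψ (e8 * a * v) • A := fun v => pA _ _ _ (by
      rw [pull 8 9 e8 (nz _ h8) c8]
      refine (P4_8 ρ h3 _ _ _ _ _).trans ?_
      congr 2
      ring)
    have f11 : ∀ v, op ρ 11 v * A = ψ (0 * v) • A := fun v => pA _ _ _ (by
      rw [pull 11 11 e11 (nz _ h11) c11]
      refine (P4_11 ρ h3 _ _ _ _ _).trans ?_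
      rw [zero_mul, zero_mul])
    have f6 : ∀ v, op ρ 6 v * A = ψ (e10 * τ * v) • A := fun v => pA _ _ _ (by
      rw [pull 10 6 e10 (nz _ h10) c10]
      refine (P4_10 ρ h3 _ _ _ _ _).trans ?_
      congr 2
      ring)
    obtain ⟨s, hs⟩ : ∃ s, ψ (e10 * τ * s) ≠ 1 := by
      by_contra hcon
      push Not at hcon
      exact hτ' (psi_inj hψ fun s => by rw [hcon, zero_mul, AddChar.map_zero_eq_one])
    have hz : ∀ c : F, c ≠ 0 → P4 ρ h3 ψ 0 (e8 * a) c 0 * A = 0 := by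
      intro c hc
      have e1 : op ρ 6 s * (P4 ρ h3 ψ 0 (e8 * a) c 0 * A) =
          ψ (e10 * τ * s) • (P4 ρ h3 ψ 0 (e8 * a) c 0 * A) := by
        rw [← mul_assoc, (comm6P ρ h3 hψ s).eq, mul_assoc, f6, mul_smul_comm]
      rw [← mul_assoc, hfix _ ha' c hc] at e1
      have e2 : (ψ (e10 * τ * s) - 1) • (P4 ρ h3 ψ 0 (e8 * a) c 0 * A) = 0 := by
        rw [sub_smul, one_smul, ← e1, sub_self]
      exact (smul_eq_zero.1 e2).resolve_left (sub_ne_zero.2 hs)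
    have hfixA : P4 ρ h3 ψ 0 (e8 * a) 0 0 * A = A := by
      have hQ : (famQ ρ h3).P ψ ![0, e8 * a, 0] * A = A := by
        rw [(famQ ρ h3).P_eig hψ (y := ![0, e8 * a, 0]) (fun i t => ?_), if_pos rfl]
        fin_cases i
        · exact f8 t
        · exact f9 t
        · exact f11 t
      rw [(m_sub hψ (fam4 ρ h3) sQ (famQ ρ h3) _).1, Finset.sum_mul,
        Finset.sum_eq_single (![0, e8 * a, 0, 0] : Fin 4 → F)] at hQ
      · exact hQ
      · intro z hz' hne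
        rw [Finset.mem_filter] at hz'
        have z0 : z 0 = 0 := congrFun hz'.2 0
        have z1 : z 1 = e8 * a := congrFun hz'.2 1
        have z3 : z 3 = 0 := congrFun hz'.2 2
        have hz2 : z 2 ≠ 0 := fun z2 => hne (by rw [← eta4 z, z0, z1, z2, z3])
        rw [← eta4 z, z0, z1, z3]
        exact hz _ hz2
      · intro h
        exact (h (Finset.mem_filter.2 ⟨Finset.mem_univ _, funext fun i => by fin_cases i <;> rfl⟩)).elim
    refine rk_le_of_mul ?_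
    rw [G5, mul_assoc, hfixA]
    exact pr1_fix ρ hψ f6
  refine (Finset.sum_le_sum key).trans ((Finset.sum_le_sum_of_subset (Finset.subset_univ _)).trans ?_)
  rw [← N_mu0 ρ h3 hψ ha' 0, ← sum_G5 ρ h3 hψ]
  exact le_of_eq (Fintype.sum_equiv
    (Equiv.mulLeft₀ e10 (by rcases h10 with rfl | rfl <;> simp)) _ _ fun τ => rfl)

theorem two_dim_orbit {τ0 β0 : F} (hτ0 : τ0 ≠ 0) (h : G5 ρ h3 ψ 0 0 τ0 β0 ≠ 0) (τ β : F)
    (hne : τ ≠ 0 ∨ β ≠ 0) : G5 ρ h3 ψ 0 0 τ β ≠ 0 := by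
  have s7 : ∀ {c β β' : F}, c ≠ 0 → G5 ρ h3 ψ 0 0 c β ≠ 0 → G5 ρ h3 ψ 0 0 c β' ≠ 0 := by
    intro c β β' hc hG
    obtain ⟨t, ht⟩ := cube_surj h3 ((β - β') / c)
    have hm := (G5_eig ρ h3 hψ 0 0 c β).move7 ρ h3 t
    rw [show t ^ 3 = (β - β') / c from ht, div_mul_cancel₀ _ hc, sub_sub_cancel] at hm
    exact (hm.piece_ne ρ h3 hψ (mul_ne_zero_of_unit ρ _ hG)).2
  have s4 : ∀ {c c' β : F}, β ≠ 0 → G5 ρ h3 ψ 0 0 c β ≠ 0 → G5 ρ h3 ψ 0 0 c' β ≠ 0 := by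
    intro c c' β hβ hG
    obtain ⟨t, ht⟩ := cube_surj h3 ((c - c') / β)
    have hm := (G5_eig ρ h3 hψ 0 0 c β).move4 ρ h3 t
    rw [show t ^ 3 = (c - c') / β from ht, div_mul_cancel₀ _ hβ, mul_zero, sub_zero,
      sub_sub_cancel] at hm
    exact (hm.piece_ne ρ h3 hψ (mul_ne_zero_of_unit ρ _ hG)).2
  by_cases hβ : β = 0
  · subst hβ
    have hτ : τ ≠ 0 := hne.resolve_right (by simp)
    exact s7 hτ (s4 (one_ne_zero (α := F)) (s7 hτ0 h) (c' := τ))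
  · exact s4 hβ (s7 hτ0 h)

open _root_.Classical in
/-- The degree in the case of multiplicity one. -/
theorem bound_one (hν : nu ρ h3 ψ = 1) (h9 : 9 ≤ Fintype.card F) :
    Fintype.card F ^ 4 + Fintype.card F ^ 2 ≤ Module.finrank ℂ V + Fintype.card F + 2 := by
  obtain ⟨m, hm⟩ : ∃ m, Fintype.card F = m + 1 := ⟨Fintype.card F - 1, by omega⟩
  have hk := finrank_three ρ h3 hψ
  have e2 : (m + 1) ^ 2 - 1 = m * (m + 2) := Nat.sub_eq_of_eq_add (by ring)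
  rw [hν, hm, e2, Nat.add_sub_cancel] at hk
  rw [hm]
  by_cases h4 : 4 ≤ mu0 ρ h3 ψ
  · have := Nat.mul_le_mul_left (m * (m + 2)) h4
    clear e2
    generalize mu0 ρ h3 ψ = μ at *
    generalize nu0 ρ h3 ψ = ν at *
    generalize ∑ c : F, N ρ h3 ψ 0 0 c 0 = D at *
    generalize Module.finrank ℂ V = k at *
    subst hk
    ring_nf at this ⊢
    omega
  have hfix : ∀ b, b ≠ 0 → ∀ w, w ≠ 0 → ∀ t, op ρ 6 t * P4 ρ h3 ψ 0 b w 0 = P4 ρ h3 ψ 0 b w 0 :=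
    fun b hb => ((mu_big_or_fix ρ h3 hψ hν h9 hb).resolve_left h4).2
  have hμ : 1 ≤ mu0 ρ h3 ψ :=
    ((mu_big_or_fix ρ h3 hψ hν h9 (one_ne_zero (α := F))).resolve_left h4).1
  have hE : ((Finset.univ : Finset F).erase 0).card = m := by
    rw [Finset.card_erase_of_mem (Finset.mem_univ _), Finset.card_univ, hm, Nat.add_sub_cancel]
  have hrow : ∀ τ ∈ (Finset.univ : Finset F).erase 0, nu0 ρ h3 ψ + m =
      N ρ h3 ψ 0 0 τ 0 + ∑ a ∈ (Finset.univ : Finset F).erase 0, N ρ h3 ψ a 0 τ 0 := fun τ hτ => by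
    rw [Finset.add_sum_erase _ (fun a => N ρ h3 ψ a 0 τ 0) (Finset.mem_univ (0 : F)),
      row_zero ρ h3 hψ (Finset.ne_of_mem_erase hτ), hν, hm, Nat.add_sub_cancel, mul_one]
  obtain ⟨τ0, hτ0, hpos⟩ : ∃ τ ∈ (Finset.univ : Finset F).erase 0, 1 ≤ N ρ h3 ψ 0 0 τ 0 := by
    by_contra hcon
    push Not at hcon
    have hs : m * (nu0 ρ h3 ψ + m) ≤ m * mu0 ρ h3 ψ := by
      calc m * (nu0 ρ h3 ψ + m) = ∑ τ ∈ (Finset.univ : Finset F).erase 0, (nu0 ρ h3 ψ + m) := by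
            rw [Finset.sum_const, hE, smul_eq_mul]
        _ = ∑ τ ∈ (Finset.univ : Finset F).erase 0,
            ∑ a ∈ (Finset.univ : Finset F).erase 0, N ρ h3 ψ a 0 τ 0 :=
            Finset.sum_congr rfl fun τ hτ => by
              rw [hrow τ hτ, Nat.lt_one_iff.1 (hcon τ hτ), zero_add]
        _ = ∑ a ∈ (Finset.univ : Finset F).erase 0,
            ∑ τ ∈ (Finset.univ : Finset F).erase 0, N ρ h3 ψ a 0 τ 0 := Finset.sum_comm
        _ ≤ ∑ a ∈ (Finset.univ : Finset F).erase 0, mu0 ρ h3 ψ :=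
            Finset.sum_le_sum fun a ha => col_le ρ h3 hψ hfix (Finset.ne_of_mem_erase ha)
        _ = m * mu0 ρ h3 ψ := by rw [Finset.sum_const, hE, smul_eq_mul]
    have := Nat.le_of_mul_le_mul_left hs (by omega)
    omega
  obtain ⟨β0, hβ0⟩ : ∃ β, G5 ρ h3 ψ 0 0 τ0 β ≠ 0 := by
    by_contra hcon
    push Not at hcon
    rw [← sum_G5 ρ h3 hψ, Finset.sum_eq_zero fun β _ => by rw [hcon β, rk]; simp] at hpos
    omega
  have hall : ∀ τ β : F, τ ≠ 0 ∨ β ≠ 0 → 1 ≤ rk (G5 ρ h3 ψ 0 0 τ β) := fun τ β h =>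
    rk_pos (two_dim_orbit ρ h3 hψ (Finset.ne_of_mem_erase hτ0) hβ0 τ β h)
  have hτ : ∀ τ ∈ (Finset.univ : Finset F).erase 0, m + 1 ≤ N ρ h3 ψ 0 0 τ 0 := fun τ hτ => by
    rw [← sum_G5 ρ h3 hψ, ← hm, ← Finset.card_univ, Finset.card_eq_sum_ones]
    exact Finset.sum_le_sum fun β _ => hall τ β (Or.inl (Finset.ne_of_mem_erase hτ))
  have hν0 : 1 ≤ nu0 ρ h3 ψ := by
    have := hrow τ0 hτ0
    have := hτ τ0 hτ0
    omega
  have h00 : m ≤ N ρ h3 ψ 0 0 0 0 := by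
    rw [← sum_G5 ρ h3 hψ, ← hE, Finset.card_eq_sum_ones]
    exact (Finset.sum_le_sum fun β hβ => hall 0 β (Or.inr (Finset.ne_of_mem_erase hβ))).trans
      (Finset.sum_le_sum_of_subset (Finset.subset_univ _))
  have hD : m + m * (m + 1) ≤ ∑ c : F, N ρ h3 ψ 0 0 c 0 := by
    rw [← Finset.add_sum_erase _ _ (Finset.mem_univ (0 : F))]
    refine add_le_add h00 (le_trans (le_of_eq ?_) (Finset.sum_le_sum hτ))
    rw [Finset.sum_const, hE, smul_eq_mul]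
  have := Nat.mul_le_mul_left (m * (m + 2)) hμ
  have := Nat.mul_le_mul_left ((m + 1) * m) hν0
  nlinarith

end Cfsg.Agent.SimpleFacts.MinDegG2
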